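import Cfsg.Agent.Lib.TwoFusion.StructGold.Facts
import Cfsg.Agent.Lib.Lie.Suzuki.Structure

/-!
Owner: helper7. S2775: the facts for the Suzuki groups.
-/

set_option autoImplicit false
set_option linter.unusedSectionVars false

namespace CfsgLib.TwoFusion.StructGold

open Subgroup
open CfsgLib.Lie.Suzuki
open scoped commutatorElement

universe u v

variable {F : Type v} [Field F] [Fintype F] [CharP F 2] {m : ℕ} (hF : Fintype.card F = 2 ^ (2 * m + 1))

include hF

theorem suz_sq_iff (a b : F) : uS hF a b * uS hF a b = 1 ↔ a = 0 := by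
  rw [← pow_two, uS_sq, ← uS_one hF]
  refine ⟨fun h => ?_, fun h => by rw [h, mul_zero]⟩
  by_contra ha
  exact mul_ne_zero (θ_ne_zero ha) ha (uS_inj hF h).2

theorem suz_torus_mem (hm : 1 ≤ m) (t : Fˣ) :
    tS hF t ∈ normalizer (unip hF : Set (Cfsg.Sz F m)) := by
  refine mem_normalizer_iff.2 fun z => ⟨fun hz => conj_mem_unip hF hm (tS_mem_borel hF t) hz, fun hz => ?_⟩
  have := conj_mem_unip hF hm (inv_mem (tS_mem_borel hF t)) hz
  simpa [mul_assoc] using this

theorem suz_split (a b : F) : uS hF a b = uS hF a 0 * uS hF 0 b := by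
  rw [uS_mul, add_zero, mul_zero, add_zero, zero_add]

theorem sylFacts_unip (hm : 1 ≤ m) : SylFacts (unip hF) := by
  refine ⟨?_, ?_, Or.inr ?_, ?_, ?_⟩
  · rintro _ ⟨a, b, rfl⟩ _ ⟨c, d, rfl⟩ h
    rw [(suz_sq_iff hF a b).1 h]
    exact uS_comm_zero hF c d b
  · rintro _ ⟨a, b, rfl⟩ _ ⟨c, d, rfl⟩
    rw [commutatorElement_def, conj_uS_uS, uS_inv, uS_mul, suz_sq_iff]
    exact CharTwo.add_self_eq_zero c
  · obtain ⟨a, c, hac⟩ := exists_bracket hF hm 1
    refine ⟨_, uS_mem hF a 0, _, uS_mem hF c 0, fun h => ?_⟩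
    rw [uS_mul, uS_mul] at h
    have h1 : th F m a * c = th F m c * a := by simpa using (uS_inj hF h).2
    rw [h1, CharTwo.add_self_eq_zero] at hac
    exact zero_ne_one hac
  · intro K hK hinv hn
    by_cases h : ∀ x ∈ K, x * x = 1
    · exact Or.inl h
    push Not at h
    obtain ⟨x, hx, hxx⟩ := h
    obtain ⟨a, b, rfl⟩ := hK hx
    have ha : a ≠ 0 := fun e => hxx ((suz_sq_iff hF a b).2 e)
    refine Or.inr (le_antisymm hK ?_)
    rintro _ ⟨c, d, rfl⟩
    by_cases hc : c = 0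
    · exact hinv _ (uS_mem hF c d) ((suz_sq_iff hF c d).2 hc)
    obtain ⟨t, ht⟩ := torusRatio_surjective hF (c / a) (div_ne_zero hc ha)
    have h1 := hn _ (suz_torus_mem hF hm t) _ hx
    rw [conj_uS, ht, div_mul_cancel₀ _ ha] at h1
    have h2 := K.mul_mem h1 (hinv _ (uS_mem hF 0 (d + th F m t * b)) ((suz_sq_iff hF _ _).2 rfl))
    rwa [uS_mul, add_zero, mul_zero, add_zero, ← add_assoc, add_comm (th F m t * b) d, add_assoc,
      CharTwo.add_self_eq_zero, add_zero] at h2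
  · intro φ h1 h2 h3 h4
    have hf : ∀ a : F, ∃ y : F, φ (uS hF a 0) = uS hF 0 y := fun a => by
      obtain ⟨hm', hsq⟩ := h1 _ (uS_mem hF a 0)
      obtain ⟨x, y, hxy⟩ := hm'
      rw [hxy] at hsq ⊢
      exact ⟨y, by rw [(suz_sq_iff hF x y).1 hsq]⟩
    choose f hf using hf
    have hkill : ∀ a b, φ (uS hF a b) = uS hF 0 (f a) := fun a b => by
      rw [suz_split, h2 _ (uS_mem hF a 0) _ (uS_mem hF 0 b), h3 _ (uS_mem hF 0 b) ((suz_sq_iff hF 0 b).2 rfl),
        mul_one, hf]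
    have hadd : ∀ a c, f (a + c) = f a + f c := fun a c => by
      have := h2 _ (uS_mem hF a 0) _ (uS_mem hF c 0)
      rw [uS_mul, hkill, hkill, hkill, uS_mul] at this
      simpa using (uS_inj hF this).2
    have hscale : ∀ r, f r = th F m r * r * f 1 := fun r => by
      by_cases hr : r = 0
      · subst hr
        have := hadd 0 0
        rw [add_zero, CharTwo.add_self_eq_zero] at this
        rw [mul_zero, zero_mul, this]
      obtain ⟨t, ht⟩ := torusRatio_surjective hF r hr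
      have := h4 _ (suz_torus_mem hF hm t) _ (uS_mem hF 1 0)
      rw [conj_uS, ht, mul_one, mul_zero, hf, hf, conj_uS, mul_zero] at this
      rw [(uS_inj hF this).2, ← ht, map_div₀, map_pow, th_tits hF]
      have h5 : th F m (t : F) ≠ 0 := θ_ne_zero t.ne_zero
      field_simp
    obtain ⟨s, hs0, hs1⟩ := exists_ne hm hF
    have hs2 : th F m s ≠ s := fun h => by
      have h' := congrArg (th F m) h
      rw [th_tits hF, h] at h'
      exact hs1 (mul_left_cancel₀ hs0 (by rw [mul_one, ← pow_two, h']))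
    have h5 := hadd s 1
    rw [hscale (s + 1), hscale s, map_add, map_one] at h5
    have h6 : (th F m s + s) * f 1 = 0 := by linear_combination h5
    have h7 : th F m s + s ≠ 0 := fun h => hs2 (CharTwo.add_eq_zero.1 h)
    have h8 : f 1 = 0 := (mul_eq_zero.1 h6).resolve_left h7
    rintro _ ⟨a, b, rfl⟩
    rw [hkill, hscale, h8, mul_zero, uS_one]

theorem noPair_unip (hm : 1 ≤ m) : NoPair.{v, u} (unip hF) := by
  intro R _ β b1 b2 b3 b4 b5
  have hz : ∀ b, ∀ y ∈ unip hF, β (uS hF 0 b) y = 1 := fun b y hy =>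
    b4 _ (uS_mem hF 0 b) ((suz_sq_iff hF 0 b).2 rfl) y hy
  have hl : ∀ a b, ∀ y ∈ unip hF, β (uS hF a b) y = β (uS hF a 0) y := fun a b y hy => by
    rw [suz_split, b1 _ (uS_mem hF a 0) _ (uS_mem hF 0 b) y hy, hz b y hy, mul_one]
  have hr : ∀ a b c, β (uS hF a 0) (uS hF c b) = β (uS hF a 0) (uS hF c 0) := fun a b c => by
    rw [b2 _ (uS_mem hF c b) _ (uS_mem hF a 0), hl c b _ (uS_mem hF a 0), ← b2 _ (uS_mem hF c 0) _ (uS_mem hF a 0)]
  let γ : F → F → R := fun a c => β (uS hF a 0) (uS hF c 0)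
  have hadd : ∀ a a' c, γ (a + a') c = γ a c * γ a' c := fun a a' c => by
    show β _ _ = _
    have := b1 _ (uS_mem hF a 0) _ (uS_mem hF a' 0) _ (uS_mem hF c 0)
    rw [uS_mul, hl _ _ _ (uS_mem hF c 0)] at this
    exact this
  have hskew : ∀ a c, γ c a = (γ a c)⁻¹ := fun a c => b2 _ (uS_mem hF a 0) _ (uS_mem hF c 0)
  have hadd' : ∀ a c c', γ a (c + c') = γ a c * γ a c' := fun a c c' => by
    rw [hskew, hadd, mul_inv, ← hskew, ← hskew]
  have hinv : ∀ r a c, r ≠ 0 → γ (r * a) (r * c) = γ a c := fun r a c hr0 => by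
    obtain ⟨t, ht⟩ := torusRatio_surjective hF r hr0
    have := b5 _ (suz_torus_mem hF hm t) _ (uS_mem hF a 0) _ (uS_mem hF c 0)
    rw [conj_uS, conj_uS, ht, mul_zero] at this
    exact this
  have hdiv : ∀ a c, c ≠ 0 → γ a c = γ (a / c) 1 := fun a c hc => by
    rw [← hinv c (a / c) 1 hc, mul_div_cancel₀ _ hc, mul_one]
  have h0 : ∀ c, γ 0 c = 1 := fun c => by
    have := hadd 0 0 c
    rwa [add_zero, eq_comm, mul_eq_left] at this
  have hsq : ∀ a c, γ a c * γ a c = 1 := fun a c => by rw [← hadd, CharTwo.add_self_eq_zero, h0]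
  obtain ⟨s, hs0, hs1⟩ := exists_ne hm hF
  have hs2 : th F m s ≠ s := fun h => by
    have h' := congrArg (th F m) h
    rw [th_tits hF, h] at h'
    exact hs1 (mul_left_cancel₀ hs0 (by rw [mul_one, ← pow_two, h']))
  have h1s : 1 + s ≠ 0 := fun h => hs1 (CharTwo.add_eq_zero.1 h).symm
  have hq : s * s + s + 1 ≠ 0 := fun h => by
    have h' : th F m s * th F m s + th F m s + 1 = 0 := by simpa using congrArg (th F m) h
    have e : (th F m s + s) * (th F m s + s + 1) = 0 := by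
      linear_combination h + h' + (th F m s * s - 1) * (CharTwo.two_eq_zero (R := F))
    rcases mul_eq_zero.1 e with e | e
    · exact hs2 (CharTwo.add_eq_zero.1 e)
    · exact th_add_ne_one hF s (CharTwo.add_eq_zero.1 e)
  have hone : ∀ a, γ a 1 = 1 := fun a => by
    obtain ⟨y, rfl⟩ : ∃ y, a = y * ((1 + s)⁻¹ + (1 + s⁻¹)) := by
      have hw : (1 + s)⁻¹ + (1 + s⁻¹) ≠ 0 := fun h => hq (by
        have : s * (1 + s) * ((1 + s)⁻¹ + (1 + s⁻¹)) = 0 := by rw [h, mul_zero]
        field_simp at this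
        linear_combination this - s * (CharTwo.two_eq_zero (R := F)))
      exact ⟨a / ((1 + s)⁻¹ + (1 + s⁻¹)), (div_mul_cancel₀ _ hw).symm⟩
    have e := hadd' y 1 s
    rw [hdiv y s hs0, hdiv y (1 + s) h1s] at e
    rw [mul_add, mul_add, mul_one, hadd, hadd, ← div_eq_mul_inv, ← div_eq_mul_inv, e, mul_mul_mul_comm, hsq, hsq, mul_one]
  rintro _ ⟨a, b, rfl⟩ _ ⟨c, d, rfl⟩
  rw [hl a b _ (uS_mem hF c d), hr]
  show γ a c = 1
  by_cases hc : c = 0
  · rw [hc, hskew, h0, inv_one]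
  · rw [hdiv a c hc, hone]

end CfsgLib.TwoFusion.StructGold
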