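import Cfsg.Agent.Lib.TwoFusion.StructGold.Facts
import Cfsg.Agent.Lib.Perm.RankOne.UnitalModel
import Mathlib.FieldTheory.Finiteness

/-!
Owner: helper7. S2775: the facts for the three-dimensional unitary groups in characteristic two, on the
unital model: the translations, and the torus acting on their second coordinate by the scalars
`λ ^ (2 q - 1)`, which lie in no proper subfield.
-/

set_option autoImplicit false
set_option linter.all false

namespace CfsgLib.TwoFusion.StructGold

open Subgroup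
open CfsgLib.Perm.RankOne.Unital
open CfsgLib.Classical CfsgLib.Classical.Herm
open CfsgLib.Fusion.PSU (revB)
open scoped commutatorElement

universe u v

/-- The diagonal map. -/
def dLin {F : Type v} [Field F] (q : ℕ) (l : Fˣ) : (Fin 3 → F) →ₗ[F] (Fin 3 → F) where
  toFun v := ![(l : F) * v 0, (l : F) ^ q / l * v 1, ((l : F) ^ q)⁻¹ * v 2]
  map_add' v w := by funext i; fin_cases i <;> simp <;> ring
  map_smul' k v := by funext i; fin_cases i <;> simp <;> ring

/-- The torus character on the second coordinate. -/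
def cc {F : Type v} [Field F] (q : ℕ) (l : Fˣ) : F := ((l : F) ^ q) ^ 2 / l

variable {F : Type v} [Field F] [Fintype F] [CharP F 2] {q : ℕ} (hF : Fintype.card F = q ^ 2)

include hF

theorem transPerm_mul (s r : Pt F q) : transPerm hF s * transPerm hF r = transPerm hF (transFun hF s r) := by
  ext1 p
  rcases p with _ | p
  · rfl
  · show some (transFun hF s (transFun hF r p)) = some (transFun hF (transFun hF s r) p)
    refine congrArg some (Subtype.ext (Prod.ext ?_ ?_))
    · show _ = _
      simp only [transFun]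
      rw [CfsgLib.Perm.RankOne.Unital.pow_add hF]
      ring
    · simp only [transFun]; ring

theorem transPerm_zero : transPerm hF (zeroPt hF) = 1 := by
  ext1 p
  rcases p with _ | p
  · rfl
  · show some (transFun hF (zeroPt hF) p) = some p
    exact congrArg some (Subtype.ext (by simp [transFun, zeroPt, q_ne_zero hF]))

theorem transPerm_injective : Function.Injective (transPerm hF) := fun s r h => by
  have h1 : transFun hF s (zeroPt hF) = transFun hF r (zeroPt hF) :=
    Option.some_injective _ (congrArg (fun e : Equiv.Perm (Option (Pt F q)) => e (some (zeroPt hF))) h)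
  simpa [transFun, zeroPt, Subtype.ext_iff] using h1

/-- The translations in the model group. -/
noncomputable def transU : Subgroup (modelGroup hF) where
  carrier := Set.range fun s => (⟨transPerm hF s, transPerm_mem hF s⟩ : modelGroup hF)
  one_mem' := ⟨zeroPt hF, Subtype.ext (transPerm_zero hF)⟩
  mul_mem' := by
    rintro _ _ ⟨s, rfl⟩ ⟨r, rfl⟩
    exact ⟨transFun hF s r, Subtype.ext (transPerm_mul hF s r).symm⟩
  inv_mem' := by
    rintro _ ⟨s, rfl⟩
    refine ⟨invPt hF s, eq_inv_of_mul_eq_one_left (Subtype.ext ?_)⟩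
    show transPerm hF (invPt hF s) * transPerm hF s = 1
    rw [transPerm_mul, ← transPerm_zero hF]
    refine congrArg _ (Subtype.ext (Prod.ext ?_ ?_))
    · have hs := s.2
      rw [pow_succ] at hs
      show s.1.1 + s.1.1 ^ q + s.1.2 ^ q * s.1.2 = 0
      exact hs
    · exact CharTwo.add_self_eq_zero _

/-- The translation by a point. -/
noncomputable abbrev tr (s : Pt F q) : modelGroup hF := ⟨transPerm hF s, transPerm_mem hF s⟩

theorem tr_mem (s : Pt F q) : tr hF s ∈ transU hF := ⟨s, rfl⟩

theorem tr_mul (s r : Pt F q) : tr hF s * tr hF r = tr hF (transFun hF s r) := Subtype.ext (transPerm_mul hF s r)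

theorem tr_inj {s r : Pt F q} (h : tr hF s = tr hF r) : s = r :=
  transPerm_injective hF (congrArg Subtype.val h)

theorem tr_sq_iff (s : Pt F q) : tr hF s * tr hF s = 1 ↔ s.1.2 = 0 := by
  have h1 : (1 : modelGroup hF) = tr hF (zeroPt hF) := Subtype.ext (transPerm_zero hF).symm
  rw [tr_mul, h1]
  refine ⟨fun h => ?_, fun h => congrArg _ (Subtype.ext (Prod.ext ?_ ?_))⟩
  · have h2 : s.1.1 + s.1.1 + s.1.2 ^ q * s.1.2 = 0 := congrArg (fun x : Pt F q => x.1.1) (tr_inj hF h)
    rw [CharTwo.add_self_eq_zero, zero_add, ← pow_succ] at h2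
    exact eq_zero_of_pow_eq_zero h2
  · show s.1.1 + s.1.1 + s.1.2 ^ q * s.1.2 = 0
    rw [CharTwo.add_self_eq_zero, h, mul_zero, add_zero]
  · exact CharTwo.add_self_eq_zero _

theorem dLin_preserves (l : Fˣ) (v w : Fin 3 → F) :
    form hF (dLin q l v) (dLin q l w) = form hF v w := by
  have hl : (l : F) ≠ 0 := l.ne_zero
  have hlq : (l : F) ^ q ≠ 0 := pow_ne_zero _ hl
  simp only [form, revB_three, dLin, LinearMap.coe_mk, AddHom.coe_mk, Matrix.cons_val_zero,
    Matrix.cons_val_one, Matrix.cons_val_two, Matrix.head_cons, Matrix.tail_cons, powHom_apply, mul_pow, div_pow,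
    inv_pow, pow_pow_self hF]
  field_simp

theorem det_dLin (l : Fˣ) : LinearMap.det (dLin q l) = 1 := by
  have hl : (l : F) ≠ 0 := l.ne_zero
  have hlq : (l : F) ^ q ≠ 0 := pow_ne_zero _ hl
  rw [← LinearMap.det_toMatrix' (dLin q l), Matrix.det_fin_three]
  simp [LinearMap.toMatrix'_apply, dLin]
  field_simp

/-- The diagonal isometry. -/
noncomputable def dIso (l : Fˣ) : HSU (form hF) :=
  ⟨(isHerm_form hF).ofPreserves (dLin q l) (dLin_preserves hF l), by
    rw [MonoidHom.mem_ker]
    exact det_ofPreserves (isHerm_form hF) _ _ (det_dLin hF l)⟩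

theorem dIso_apply (l : Fˣ) (v : Fin 3 → F) :
    ((dIso hF l : HU (form hF)) : (Fin 3 → F) ≃ₗ[F] (Fin 3 → F)) v =
      ![(l : F) * v 0, (l : F) ^ q / l * v 1, ((l : F) ^ q)⁻¹ * v 2] := rfl

theorem cc_ne_zero (l : Fˣ) : cc q l ≠ 0 := div_ne_zero (pow_ne_zero _ (pow_ne_zero _ l.ne_zero)) l.ne_zero

theorem cc_norm (l : Fˣ) : cc q l ^ q * cc q l = (l : F) ^ q * l := by
  have hl : (l : F) ≠ 0 := l.ne_zero
  have hlq : (l : F) ^ q ≠ 0 := pow_ne_zero _ hl
  have e : (((l : F) ^ q) ^ 2) ^ q = (l : F) ^ 2 := by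
    rw [← pow_mul ((l : F) ^ q) 2 q, mul_comm 2 q, pow_mul, pow_pow_self hF]
  rw [cc, div_pow, e]
  field_simp

theorem scalePt_mem (l : Fˣ) (p : Pt F q) :
    (l : F) ^ q * l * p.1.1 + ((l : F) ^ q * l * p.1.1) ^ q + (cc q l * p.1.2) ^ (q + 1) = 0 := by
  rw [mul_pow (cc q l), pow_succ (cc q l), cc_norm hF, mul_pow, mul_pow, pow_pow_self hF]
  linear_combination ((l : F) ^ q * l) * p.2

/-- The scaled point. -/
def scalePt (l : Fˣ) (p : Pt F q) : Pt F q :=
  ⟨((l : F) ^ q * l * p.1.1, cc q l * p.1.2), scalePt_mem hF l p⟩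

theorem actHom_dIso (l : Fˣ) (p : Option (Pt F q)) : actHom hF (dIso hF l) p = p.map (scalePt hF l) := by
  have hl : (l : F) ≠ 0 := l.ne_zero
  have hlq : (l : F) ^ q ≠ 0 := pow_ne_zero _ hl
  refine actHom_eq_of hF ?_
  rcases p with _ | p
  · refine smul_toPoint hF hl ?_
    rw [dIso_apply]
    funext i
    fin_cases i <;> simp [vec]
  · refine smul_toPoint hF (inv_ne_zero hlq) ?_
    rw [dIso_apply]
    funext i
    fin_cases i <;> simp [vec, scalePt, cc] <;> field_simp

variable (hq : q ≠ 2)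
include hq

/-- The torus element in the model group. -/
noncomputable def torus (l : Fˣ) : modelGroup hF :=
  ⟨actHom hF (dIso hF l), range_actHom hF hq ▸ ⟨_, rfl⟩⟩

theorem torus_conj (l : Fˣ) (s : Pt F q) :
    torus hF hq l * tr hF s * (torus hF hq l)⁻¹ = tr hF (scalePt hF l s) := by
  rw [mul_inv_eq_iff_eq_mul]
  refine Subtype.ext (Equiv.ext fun p => ?_)
  show actHom hF (dIso hF l) (transPerm hF s p) = transPerm hF (scalePt hF l s) (actHom hF (dIso hF l) p)
  rw [actHom_dIso, actHom_dIso]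
  rcases p with _ | p
  · rfl
  · show some (scalePt hF l (transFun hF s p)) = some (transFun hF (scalePt hF l s) (scalePt hF l p))
    refine congrArg some (Subtype.ext (Prod.ext ?_ ?_))
    · simp only [scalePt, transFun]
      linear_combination (-(s.1.2 ^ q * p.1.2)) * cc_norm hF l +
        (cc q l * p.1.2) * ((cc q l * s.1.2) ^ q - cc q l ^ q * s.1.2 ^ q) * 0 +
        (cc q l * p.1.2) * (-(mul_pow (cc q l) s.1.2 q))
    · simp only [scalePt, transFun]; ring

theorem torus_mem (l : Fˣ) : torus hF hq l ∈ normalizer (transU hF : Set (modelGroup hF)) := by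
  rw [← CfsgLib.Transfer.map_conj_eq_self_iff]
  refine eq_of_le_of_card_ge ?_ ?_
  · rintro _ ⟨_, ⟨s, rfl⟩, rfl⟩
    exact ⟨scalePt hF l s, (torus_conj hF hq l s).symm⟩
  · exact (Nat.card_congr ((transU hF).equivMapOfInjective _ (MulAut.conj _).injective).toEquiv).le

omit hq in
/-- The torus character takes values generating `F`. -/
theorem subring_eq_top (hq4 : 4 ≤ q) (S : Subring F) (hS : ∀ l : Fˣ, cc q l ∈ S) : S = ⊤ := by
  classical
  letI : Field S := Fintype.fieldOfDomain S
  by_contra hne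
  -- a proper subring has at most `q` elements
  have hle : Nat.card S ≤ q := by
    have hp := Module.natCard_eq_pow_finrank (K := S) (V := F)
    have h1 : 1 < Module.finrank S F := by
      by_contra h1
      push Not at h1
      refine hne (Subring.ext fun x => ⟨fun _ => Subring.mem_top x, fun _ => ?_⟩)
      have hc : Nat.card F ≤ Nat.card S := by
        rw [hp]
        calc Nat.card S ^ Module.finrank S F ≤ Nat.card S ^ 1 := Nat.pow_le_pow_right Nat.card_pos h1
          _ = Nat.card S := pow_one _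
      have : (S : Set F) = Set.univ := Set.eq_of_subset_of_ncard_le (Set.subset_univ _) (by
        rw [Set.ncard_univ, ← Nat.card_coe_set_eq]
        exact hc)
      show x ∈ (S : Set F)
      rw [this]
      exact Set.mem_univ x
    refine Nat.pow_le_pow_iff_left two_ne_zero |>.1 ?_
    rw [← hF, ← Nat.card_eq_fintype_card, hp]
    exact Nat.pow_le_pow_right Nat.card_pos h1
  -- the character has kernel of order at most three
  let f : Fˣ →* Fˣ := (powMonoidHom q ^ 2) / MonoidHom.id Fˣ
  have hf : ∀ l : Fˣ, ((f l : Fˣ) : F) = cc q l := fun l => by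
    simp [f, cc, pow_two]
  have hker : Nat.card f.ker ≤ 3 := by
    have hsub : (f.ker : Set Fˣ) ⊆ {x : Fˣ | x ^ 3 = 1} := fun l hl => by
      have h1 : cc q l = 1 := by rw [← hf, MonoidHom.mem_ker.1 hl, Units.val_one]
      rw [cc, div_eq_one_iff_eq l.ne_zero] at h1
      have h2 : ((l : F) ^ q) ^ 2 = (l : F) := h1
      have h3 : (((l : F) ^ q) ^ 2) ^ q = (l : F) ^ q := by rw [h2]
      rw [← pow_mul ((l : F) ^ q) 2 q, mul_comm 2 q, pow_mul, pow_pow_self hF] at h3
      rw [← h3, ← pow_mul] at h2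
      refine Units.ext (mul_left_cancel₀ l.ne_zero ?_)
      rw [Units.val_pow_eq_pow_val, Units.val_one, mul_one, ← pow_succ']
      exact h2
    calc Nat.card f.ker = (f.ker : Set Fˣ).ncard := (Nat.card_coe_set_eq _)
      _ ≤ {x : Fˣ | x ^ 3 = 1}.ncard := Set.ncard_le_ncard hsub (Set.toFinite _)
      _ ≤ 3 := by
        have : {x : Fˣ | x ^ 3 = 1} = ↑((Finset.univ : Finset Fˣ).filter fun x => x ^ 3 = 1) := by
          ext x; simp
        rw [this, Set.ncard_coe_finset]
        exact IsCyclic.card_pow_eq_one_le (by norm_num)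
  have hrange : Nat.card f.range + 1 ≤ Nat.card S := by
    let g : Option f.range → S := fun o => o.elim 0 fun x => ⟨((x : Fˣ) : F), by
      obtain ⟨l, hl⟩ := x.2
      rw [← hl, hf]
      exact hS l⟩
    have hg : Function.Injective g := by
      rintro (_ | x) (_ | y) h
      · rfl
      · exact absurd (congrArg Subtype.val h).symm (Units.ne_zero _)
      · exact absurd (congrArg Subtype.val h) (Units.ne_zero _)
      · exact congrArg some (Subtype.ext (Units.ext (congrArg Subtype.val h)))
    have := Nat.card_le_card_of_injective g hg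
    rwa [Finite.card_option] at this
  have hmul := f.ker.card_mul_index
  rw [Subgroup.index_ker, Nat.card_units, Nat.card_eq_fintype_card (α := F), hF] at hmul
  have h5 : q ^ 2 - 1 ≤ 3 * Nat.card f.range := hmul ▸ Nat.mul_le_mul_right _ hker
  have h6 : 4 * q ≤ q ^ 2 := by rw [pow_two]; exact Nat.mul_le_mul_right q hq4
  omega

/-- An invariant subgroup containing the involutions is all or consists of involutions. -/
theorem irr_transU (hq4 : 4 ≤ q) (K : Subgroup (modelGroup hF)) (hK : K ≤ transU hF)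
    (hinv : ∀ x ∈ transU hF, x * x = 1 → x ∈ K)
    (hn : ∀ n ∈ normalizer (transU hF : Set (modelGroup hF)), ∀ k ∈ K, n * k * n⁻¹ ∈ K) :
    (∀ x ∈ K, x * x = 1) ∨ K = transU hF := by
  let Kb : AddSubgroup F :=
    { carrier := {z | ∃ s : Pt F q, tr hF s ∈ K ∧ s.1.2 = z}
      zero_mem' := ⟨zeroPt hF, by
        rw [show tr hF (zeroPt hF) = 1 from Subtype.ext (transPerm_zero hF)]
        exact one_mem _, rfl⟩
      add_mem' := by
        rintro _ _ ⟨s, hs, rfl⟩ ⟨r, hr, rfl⟩
        exact ⟨transFun hF s r, tr_mul hF s r ▸ mul_mem hs hr, add_comm _ _⟩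
      neg_mem' := by
        rintro _ ⟨s, hs, rfl⟩
        exact ⟨s, hs, (CharTwo.neg_eq _).symm⟩ }
  by_cases h : ∀ z ∈ Kb, z = 0
  · refine Or.inl fun x hx => ?_
    obtain ⟨s, rfl⟩ := hK hx
    exact (tr_sq_iff hF s).2 (h _ ⟨s, hx, rfl⟩)
  push Not at h
  obtain ⟨z₀, hz₀, hz0⟩ := h
  let R : Subring F :=
    { carrier := {r | ∀ z ∈ Kb, r * z ∈ Kb}
      zero_mem' := fun z _ => by rw [zero_mul]; exact Kb.zero_mem
      one_mem' := fun z hz => by rwa [one_mul]
      add_mem' := fun {a b} ha hb z hz => by rw [add_mul]; exact Kb.add_mem (ha z hz) (hb z hz)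
      mul_mem' := fun {a b} ha hb z hz => by rw [mul_assoc]; exact ha _ (hb z hz)
      neg_mem' := fun {a} ha z hz => by rw [neg_mul]; exact Kb.neg_mem (ha z hz) }
  have hR : R = ⊤ := subring_eq_top hF hq4 R fun l z hz => by
    obtain ⟨s, hs, rfl⟩ := hz
    exact ⟨scalePt hF l s, torus_conj hF hq l s ▸ hn _ (torus_mem hF hq l) _ hs, rfl⟩
  refine Or.inr (le_antisymm hK ?_)
  rintro _ ⟨s, rfl⟩
  obtain ⟨r, hr, hre⟩ : s.1.2 ∈ Kb := by
    have := (hR ▸ Subring.mem_top (s.1.2 / z₀) : s.1.2 / z₀ ∈ R) z₀ hz₀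
    rwa [div_mul_cancel₀ _ hz0] at this
  have h1 : (tr hF r)⁻¹ * tr hF s ∈ transU hF := mul_mem (inv_mem (tr_mem hF r)) (tr_mem hF s)
  obtain ⟨w, hw⟩ := h1
  have hw' : tr hF s = tr hF r * tr hF w := by
    rw [show tr hF w = (tr hF r)⁻¹ * tr hF s from hw, mul_inv_cancel_left]
  rw [tr_mul] at hw'
  have hw2 : w.1.2 = 0 := by
    have e : s.1.2 = w.1.2 + r.1.2 := congrArg (fun x : Pt F q => x.1.2) (tr_inj hF hw')
    rw [hre] at e
    linear_combination -e
  show tr hF s ∈ K
  rw [hw', ← tr_mul]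
  exact mul_mem hr (hinv _ (tr_mem hF w) ((tr_sq_iff hF w).2 hw2))

omit hq in
theorem card_involSet_le : Nat.card {x : transU hF // (x : modelGroup hF) * x = 1} ≤ q := by
  classical
  have hc := card_fixed_powHom hF
  let g : {x : transU hF // (x : modelGroup hF) * x = 1} → fixedSub (powHom hF) := fun x =>
    ⟨x.1.2.choose.1.1, by
      have hs := x.1.2.choose_spec
      have h2 := (tr_sq_iff hF x.1.2.choose).1 (by rw [show tr hF x.1.2.choose = (x.1 : modelGroup hF) from hs]; exact x.2)
      have h3 := x.1.2.choose.2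
      rw [h2, zero_pow (Nat.succ_ne_zero q), add_zero, CharTwo.add_eq_zero] at h3
      rw [mem_fixedSub, powHom_apply]
      exact h3.symm⟩
  have hg : Function.Injective g := fun x y h => by
    have hx := x.1.2.choose_spec
    have hy := y.1.2.choose_spec
    have hx2 := (tr_sq_iff hF x.1.2.choose).1 (by rw [show tr hF x.1.2.choose = (x.1 : modelGroup hF) from hx]; exact x.2)
    have hy2 := (tr_sq_iff hF y.1.2.choose).1 (by rw [show tr hF y.1.2.choose = (y.1 : modelGroup hF) from hy]; exact y.2)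
    have e : x.1.2.choose = y.1.2.choose := Subtype.ext (Prod.ext (congrArg Subtype.val h) (hx2.trans hy2.symm))
    refine Subtype.ext (Subtype.ext ?_)
    rw [← hx, ← hy, e]
  exact (Nat.card_le_card_of_injective g hg).trans hc.le

theorem sylFacts_transU (hq4 : 4 ≤ q) : SylFacts (transU hF) := by
  haveI : Fact (IsInvol (powHom hF)) := ⟨powHom_isInvol hF⟩
  have hcen : ∀ s r : Pt F q, s.1.2 = 0 → tr hF s * tr hF r = tr hF r * tr hF s := fun s r h => by
    rw [tr_mul, tr_mul]
    refine congrArg _ (Subtype.ext (Prod.ext ?_ ?_))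
    · simp only [transFun, h, zero_pow (q_ne_zero hF)]; ring
    · simp only [transFun, h]; ring
  have hsurj : ∀ z : F, ∃ s : Pt F q, s.1.2 = z := fun z => by
    obtain ⟨a, ha⟩ := (powHom_isInvol hF).exists_trace_eq (μ := z ^ (q + 1)) (by
      rw [powHom_apply, pow_succ, mul_pow, pow_pow_self hF, mul_comm])
    rw [powHom_apply] at ha
    exact ⟨⟨(a, z), by rw [ha, CharTwo.add_self_eq_zero]⟩, rfl⟩
  refine ⟨?_, ?_, Or.inr ?_, irr_transU hF hq hq4, ?_⟩
  · rintro _ ⟨s, rfl⟩ _ ⟨r, rfl⟩ h
    exact hcen s r ((tr_sq_iff hF s).1 h)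
  · rintro _ ⟨s, rfl⟩ _ ⟨r, rfl⟩
    obtain ⟨w, hw⟩ : ⁅tr hF s, tr hF r⁆ ∈ transU hF :=
      mul_mem (mul_mem (mul_mem (tr_mem hF s) (tr_mem hF r)) (inv_mem (tr_mem hF s))) (inv_mem (tr_mem hF r))
    show ⁅tr hF s, tr hF r⁆ * ⁅tr hF s, tr hF r⁆ = 1
    rw [← hw]
    refine (tr_sq_iff hF w).2 ?_
    have e : tr hF w * (tr hF r * tr hF s) = tr hF s * tr hF r := by
      rw [show tr hF w = ⁅tr hF s, tr hF r⁆ from hw, commutatorElement_def]; group
    rw [tr_mul, tr_mul, tr_mul] at e
    have e2 : s.1.2 + r.1.2 + w.1.2 = r.1.2 + s.1.2 := congrArg (fun x : Pt F q => x.1.2) (tr_inj hF e)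
    linear_combination e2
  · obtain ⟨l, hl⟩ := (powHom_isInvol hF).exists_ne
    obtain ⟨s, hs⟩ := hsurj 1
    obtain ⟨r, hr⟩ := hsurj l
    refine ⟨_, tr_mem hF s, _, tr_mem hF r, fun h => hl ?_⟩
    rw [tr_mul, tr_mul] at h
    have e : r.1.1 + s.1.1 + s.1.2 ^ q * r.1.2 = s.1.1 + r.1.1 + r.1.2 ^ q * s.1.2 :=
      congrArg (fun x : Pt F q => x.1.1) (tr_inj hF h)
    rw [hs, hr, one_pow, one_mul, mul_one] at e
    rw [powHom_apply]
    linear_combination -e
  · intro φ h1 h2 h3 h4
    let ψ : transU hF →* modelGroup hF :=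
      { toFun := fun x => φ x
        map_one' := h3 _ (one_mem _) (mul_one 1)
        map_mul' := fun x y => h2 _ x.2 _ y.2 }
    let K : Subgroup (modelGroup hF) := ψ.ker.map (transU hF).subtype
    have hker : ∀ x (hx : x ∈ transU hF), φ x = 1 → x ∈ K := fun x hx h => ⟨⟨x, hx⟩, h, rfl⟩
    rcases irr_transU hF hq hq4 K (map_subtype_le _) (fun x hx h => hker x hx (h3 x hx h)) (fun n hn k hk => by
      obtain ⟨k, hk', rfl⟩ := hk
      refine hker _ ((mem_normalizer_iff.1 hn k).1 k.2) ?_
      show φ (n * k * n⁻¹) = 1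
      rw [h4 n hn k k.2, show φ k = 1 from hk', mul_one, mul_inv_cancel]) with h | h
    · exfalso
      -- the kernel would be too small
      have hcard : Nat.card (transU hF) ≤ q * q := by
        rw [← ψ.ker.card_mul_index, Subgroup.index_ker]
        refine Nat.mul_le_mul (le_trans ?_ (card_involSet_le hF)) (le_trans ?_ (card_involSet_le hF))
        · exact Nat.card_le_card_of_injective
            (fun x : ψ.ker => (⟨x.1, h _ (mem_map_of_mem _ x.2)⟩ : {x : transU hF // (x : modelGroup hF) * x = 1}))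
            (fun x y e => Subtype.ext (Subtype.mk.inj e))
        · refine Nat.card_le_card_of_injective
            (fun y : ψ.range => (⟨⟨y.1, ?_⟩, ?_⟩ : {x : transU hF // (x : modelGroup hF) * x = 1})) ?_
          · obtain ⟨x, hx⟩ := y.2
            exact hx ▸ (h1 _ x.2).1
          · obtain ⟨x, hx⟩ := y.2
            show (y.1 : modelGroup hF) * y.1 = 1
            exact hx ▸ (h1 _ x.2).2
          · exact fun a b e => Subtype.ext (congrArg (fun z => ((z.1 : transU hF) : modelGroup hF)) e)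
      have hU : q ^ 3 ≤ Nat.card (transU hF) := by
        have hσ := powHom_isInvol hF
        have hp := CfsgLib.PGroups.Suzuki.Unitary.card_pts hσ (card_fixed_powHom hF)
          (by rw [Nat.card_eq_fintype_card, hF])
        refine hp.ge.trans (Nat.card_le_card_of_injective
          (fun x : CfsgLib.PGroups.Suzuki.Unitary.Pts (powHom hF) => (⟨tr hF ⟨(x.1.2, x.1.1), by
            have := x.2
            rw [powHom_apply, powHom_apply, ← pow_succ] at this
            show x.1.2 + x.1.2 ^ q + x.1.1 ^ (q + 1) = 0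
            rw [this, CharTwo.add_self_eq_zero]⟩, tr_mem hF _⟩ : transU hF)) ?_)
        intro x y e
        have e' := congrArg (fun z : Pt F q => (z.1.2, z.1.1)) (tr_inj hF (congrArg Subtype.val e))
        exact Subtype.ext e'
      have : q * q < q ^ 3 := by rw [pow_succ, pow_two]; exact lt_mul_of_one_lt_right (by positivity) (by omega)
      omega
    · intro x hx
      obtain ⟨y, hy, rfl⟩ : x ∈ K := h ▸ hx
      exact hy

omit hq in
/-- The translations form a Sylow subgroup. -/
theorem exists_sylow_transU {n : ℕ} (hn : 2 ≤ n) (hqn : q = 2 ^ n) :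
    ∃ T : Sylow 2 (modelGroup hF), (T : Subgroup (modelGroup hF)) = transU hF := by
  haveI := Fact.mk Nat.prime_two
  subst hqn
  have hq : (2 : ℕ) ^ n ≠ 2 := fun h => by
    have := Nat.pow_le_pow_right two_pos hn
    omega
  obtain ⟨e⟩ := nonempty_modelGroup_equiv hF hq
  obtain ⟨S⟩ : Nonempty (Sylow 2 (modelGroup hF)) := inferInstance
  obtain ⟨X⟩ := CfsgLib.PGroups.Suzuki.Unitary.exists_param (by omega) hF
    (S.mapSurjective (f := e.toMonoidHom) e.surjective)
  have hσ := powHom_isInvol hF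
  have hpts := CfsgLib.PGroups.Suzuki.Unitary.card_pts hσ (card_fixed_powHom hF)
    (by rw [Nat.card_eq_fintype_card, hF])
  have hS : Nat.card (S : Subgroup (modelGroup hF)) = (2 ^ n) ^ 3 := by
    rw [← hpts, Nat.card_congr X.el]
    exact Nat.card_congr (((S : Subgroup (modelGroup hF)).equivMapOfInjective _ e.injective).toEquiv.trans
      (MulEquiv.subgroupCongr (Sylow.coe_mapSurjective _ S).symm).toEquiv)
  have hU : Nat.card (transU hF) = (2 ^ n) ^ 3 := by
    rw [← hpts]
    symm
    refine Nat.card_eq_of_bijective (fun x => (⟨tr hF ⟨(x.1.2, x.1.1), ?_⟩, tr_mem hF _⟩ : transU hF)) ⟨?_, ?_⟩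
    · have := x.2
      rw [powHom_apply, powHom_apply, ← pow_succ] at this
      show x.1.2 + x.1.2 ^ (2 ^ n) + x.1.1 ^ (2 ^ n + 1) = 0
      rw [this, CharTwo.add_self_eq_zero]
    · intro x y he
      exact Subtype.ext (congrArg (fun z : Pt F (2 ^ n) => (z.1.2, z.1.1)) (tr_inj hF (congrArg Subtype.val he)))
    · rintro ⟨_, s, rfl⟩
      refine ⟨⟨(s.1.2, s.1.1), ?_⟩, rfl⟩
      have := s.2
      rw [powHom_apply, powHom_apply, ← pow_succ]
      exact CharTwo.add_eq_zero.1 this
  have hfac : (Nat.card (modelGroup hF)).factorization 2 = n * 3 := by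
    have h2 := S.card_eq_multiplicity
    rw [hS, ← pow_mul] at h2
    exact (Nat.pow_right_injective le_rfl h2).symm
  exact ⟨Sylow.ofCard (transU hF) (by rw [hU, hfac, pow_mul]), rfl⟩

end CfsgLib.TwoFusion.StructGold
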