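import Cfsg.Agent.Lib.TwoFusion.StructGold.Basic
import Cfsg.Agent.Lib.TwoFusion.StructGold.Suzuki
import Cfsg.Agent.Lib.TwoFusion.StructGold.Unitary
import Cfsg.Agent.Lib.SThreeFree.Hyps
import Cfsg.Agent.Lib.Bender.Gen.Final
import Cfsg.Agent.Lib.Bender.Gen.Structure
import Cfsg.Agent.Lib.TwoGroups.StrongEmbedding
import Cfsg.Agent.Lib.Orders.EPPOPrimes
import Cfsg.Agent.Lib.LocalEven.GoldS.Families
import Cfsg.Agent.Lib.GW.Dne.PSLAut
import Cfsg.Agent.Lib.Recog.J1FromOrder.Centre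
import Cfsg.Agent.Lib.Recog.J1Unique.Recognise
import Cfsg.Agent.Lib.Classical.SmallIsoSix
import Cfsg.Agent.S0252

/-!
Owner: helper7. S2775: a simple group with a nontrivial strongly closed abelian subgroup of a Sylow 2-subgroup
is `Good`, under the inputs `GoldschmidtInput` and `WalterList`.
-/

set_option autoImplicit false
set_option linter.unusedSectionVars false
set_option linter.style.haveILetI false

namespace CfsgLib.TwoFusion.StructGold

open Subgroup Matrix
open scoped MatrixGroups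

universe u v

theorem good_mk {L : Type u} [Group L] (hgold : Cfsg.IsGoldschmidtGroup L)
    (hconj : ∀ x y : L, orderOf x = 2 → orderOf y = 2 → IsConj x y)
    (htwo : ∃ s t : L, orderOf s = 2 ∧ orderOf t = 2 ∧ s ≠ t ∧ s * t = t * s)
    (h : ∀ T : Sylow 2 L, ∀ x ∈ (T : Subgroup L), x * x = 1) : Good L :=
  ⟨hgold, hconj, htwo, fun T => ⟨SylFacts.of_exponent_two (h T), Or.inr (NoPair.of_exponent_two (h T))⟩⟩

/-- The groups of four elements over a field of four elements are those over the field of five. -/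
theorem gold_of_psl_two {L : Type u} [Group L] {F : Type} [Field F] [Fintype F] {n : ℕ} (hn : 2 ≤ n)
    (hF : Fintype.card F = 2 ^ n) (e : L ≃* ProjectiveSpecialLinearGroup (Fin 2) F) :
    Cfsg.IsGoldschmidtGroup L := by
  rcases (Nat.lt_or_ge n 3) with h | h
  · have h4 : Fintype.card F = 4 := by rw [hF, show n = 2 by omega]; rfl
    obtain ⟨e4⟩ := Cfsg.Agent.S0252.result h4
    haveI : Fact (Nat.Prime 5) := ⟨by norm_num⟩
    obtain ⟨e5⟩ := CfsgLib.Classical.nonempty_psl_five_equiv_alt (F := ZMod 5) (ZMod.card 5)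
    exact Or.inr (Or.inr (Or.inr (Or.inr (Or.inl ⟨ZMod 5, inferInstance, inferInstance, 5, ZMod.card 5, le_rfl,
      Or.inr (by norm_num), ⟨(e.trans e4).trans e5.symm⟩⟩))))
  · exact Or.inr (Or.inl ⟨F, inferInstance, inferInstance, n, h, hF, ⟨e⟩⟩)

/-- The involutions of `SL(2, 2ⁿ)` are conjugate. -/
theorem isConj_SL_two {F : Type v} [Field F] [Fintype F] [CharP F 2] {x y : SL(2, F)} (hx : orderOf x = 2)
    (hy : orderOf y = 2) : IsConj x y := by
  classical
  haveI := Fact.mk Nat.prime_two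
  set U := (CfsgLib.Known.SL2Mult.uu (F := F)).range with hU
  have hcard : Nat.card U = Fintype.card F := by
    rw [hU, ← Nat.card_congr (MonoidHom.ofInjective CfsgLib.Known.SL2Mult.uu_injective).toEquiv,
      Nat.card_eq_fintype_card]
    exact Fintype.card_multiplicative F
  have hp : IsPGroup 2 U := by
    obtain ⟨k, -, hk⟩ := FiniteField.card F 2
    exact IsPGroup.of_card (n := k) (hcard.trans hk)
  have hidx : ¬ 2 ∣ U.index := fun h => by
    have h1 := U.card_mul_index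
    rw [hcard, CfsgLib.Classical.Two.card_SL_two] at h1
    rw [Nat.eq_of_mul_eq_mul_left Fintype.card_pos h1] at h
    exact CfsgLib.Classical.Two.not_dvd_card_sq_sub_one 2 h
  have key : ∀ {z : SL(2, F)}, orderOf z = 2 → IsConj (CfsgLib.Known.SL2Mult.uu (Multiplicative.ofAdd (1 : F))) z := by
    intro z hz
    obtain ⟨P, hP⟩ := (IsPGroup.of_card (n := 1) (by rw [Nat.card_zpowers, hz, pow_one]) :
      IsPGroup 2 (zpowers z)).exists_le_sylow
    obtain ⟨g, hg⟩ := MulAction.exists_smul_eq SL(2, F) P (hp.toSylow hidx)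
    have hm : g * z * g⁻¹ ∈ U := by
      have h1 := Subgroup.smul_mem_pointwise_smul z (MulAut.conj g) (P : Subgroup SL(2, F)) (hP (mem_zpowers z))
      rw [← Sylow.coe_subgroup_smul] at h1
      change _ ∈ ((g • P : Sylow 2 SL(2, F)) : Subgroup SL(2, F)) at h1
      rw [hg] at h1
      exact h1
    obtain ⟨a, ha⟩ := hm
    obtain ⟨c, hc⟩ := (Finite.surjective_of_injective (frobenius_inj F 2)) (Multiplicative.toAdd a)
    have hc0 : c ≠ 0 := fun e => by
      rw [e, map_zero] at hc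
      have ha1 : a = 1 := Multiplicative.toAdd.injective hc.symm
      rw [ha1, map_one] at ha
      have hz1 : z = 1 := by
        calc z = g⁻¹ * (g * z * g⁻¹) * g := by group
          _ = 1 := by rw [← ha]; group
      rw [hz1, orderOf_one] at hz
      omega
    refine isConj_iff.2 ⟨g⁻¹ * CfsgLib.Known.SL2Mult.dg (Units.mk0 c hc0), ?_⟩
    have h2 : CfsgLib.Known.SL2Mult.dg (Units.mk0 c hc0) * CfsgLib.Known.SL2Mult.uu (Multiplicative.ofAdd (1 : F)) =
        CfsgLib.Known.SL2Mult.uu a * CfsgLib.Known.SL2Mult.dg (Units.mk0 c hc0) := by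
      rw [CfsgLib.Known.SL2Mult.dg_conj]
      congr 2
      rw [frobenius_def] at hc
      refine Multiplicative.toAdd.injective ?_
      rw [toAdd_ofAdd, Units.val_mk0, mul_one, ← hc, pow_two]
    calc g⁻¹ * CfsgLib.Known.SL2Mult.dg (Units.mk0 c hc0) * CfsgLib.Known.SL2Mult.uu (Multiplicative.ofAdd (1 : F)) *
          (g⁻¹ * CfsgLib.Known.SL2Mult.dg (Units.mk0 c hc0))⁻¹ = g⁻¹ * CfsgLib.Known.SL2Mult.uu a * g := by
          rw [mul_assoc g⁻¹, h2]; group
      _ = z := by rw [ha]; group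
  exact (key hx).symm.trans (key hy)

theorem good_SL_two {L : Type u} [Group L] [Finite L] {F : Type} [Field F] [Fintype F] [CharP F 2]
    (h4 : 4 ≤ Fintype.card F) (e : L ≃* SL(2, F))
    (htwo : ∃ s t : L, orderOf s = 2 ∧ orderOf t = 2 ∧ s ≠ t ∧ s * t = t * s) : Good L := by
  haveI := Fact.mk Nat.prime_two
  obtain ⟨k, -, hk⟩ := FiniteField.card F 2
  have hk2 : 2 ≤ (k : ℕ) := by
    by_contra h
    have := Nat.pow_le_pow_right two_pos (show (k : ℕ) ≤ 1 by omega)
    omega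
  obtain ⟨ep⟩ := CfsgLib.Recog.AffineTwo.psl_equiv_sl F
  refine good_mk (gold_of_psl_two hk2 hk (e.trans ep.symm)) (fun x y hx hy => ?_) htwo fun T x hx => ?_
  · have := isConj_SL_two (x := e x) (y := e y) (by rw [MulEquiv.orderOf_eq, hx]) (by rw [MulEquiv.orderOf_eq, hy])
    simpa using e.symm.toMonoidHom.map_isConj this
  · refine e.injective ?_
    rw [map_mul, map_one]
    exact CfsgLib.CentralMeet.sq_eq_one_SL_two (T.mapSurjective (f := e.toMonoidHom) e.surjective) _
      (Subgroup.mem_map_of_mem _ hx)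

theorem good_suzuki {L : Type u} [Group L] [Finite L] (h : Cfsg.Lie.IsoSuzuki L)
    (hconj : ∀ x y : L, orderOf x = 2 → orderOf y = 2 → IsConj x y)
    (htwo : ∃ s t : L, orderOf s = 2 ∧ orderOf t = 2 ∧ s ≠ t ∧ s * t = t * s) : Good L := by
  refine ⟨Or.inr (Or.inr (Or.inl h)), hconj, htwo, fun T => ?_⟩
  obtain ⟨F, iF, iT, m, hm, hF, ⟨e⟩⟩ := h
  haveI : CharP F 2 := CfsgLib.Lie.Suzuki.charTwo_of_card hF
  let e' : L ≃* Cfsg.Sz F m := e.trans (CfsgLib.Lie.Suzuki.equivLie hm hF).symm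
  haveI := Fact.mk Nat.prime_two
  obtain ⟨g, hg⟩ := CfsgLib.Lie.Suzuki.exists_conj_sylow hF hm (T.mapSurjective (f := e'.toMonoidHom) e'.surjective)
  have he : (T : Subgroup L).map (e'.trans (MulAut.conj g⁻¹)).toMonoidHom = CfsgLib.Lie.Suzuki.unip hF := by
    rw [show (e'.trans (MulAut.conj g⁻¹)).toMonoidHom = (MulAut.conj g⁻¹).toMonoidHom.comp e'.toMonoidHom from rfl,
      ← Subgroup.map_map, ← Sylow.coe_mapSurjective e'.surjective, hg, Subgroup.map_map]
    convert Subgroup.map_id _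
    ext x
    simp [MulAut.conj_apply, mul_assoc]
  exact ⟨(sylFacts_unip hF hm).of_mulEquiv _ he, Or.inr ((noPair_unip hF hm).of_mulEquiv _ he)⟩

theorem good_unitary {L : Type u} [Group L] [Finite L] {F : Type} [Field F] [Fintype F] {q : ℕ}
    (hq2 : Even q) (hq4 : 4 ≤ q) (hF : Fintype.card F = q ^ 2) (e : L ≃* Cfsg.PSU 3 F q)
    (hconj : ∀ x y : L, orderOf x = 2 → orderOf y = 2 → IsConj x y)
    (htwo : ∃ s t : L, orderOf s = 2 ∧ orderOf t = 2 ∧ s ≠ t ∧ s * t = t * s) : Good L := by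
  haveI := Fact.mk Nat.prime_two
  obtain ⟨r, n, hr, hCP, rfl⟩ := CfsgLib.Classical.Herm.exists_prime_pow_root hF
  have hr2 : r = 2 := ((Nat.prime_dvd_prime_iff_eq Nat.prime_two hr).1
    (Nat.prime_two.dvd_of_dvd_pow hq2.two_dvd)).symm
  subst hr2
  have hn : 2 ≤ n := by
    by_contra h
    have := Nat.pow_le_pow_right two_pos (show n ≤ 1 by omega)
    omega
  have hne : 2 ^ n ≠ 2 := by omega
  obtain ⟨em⟩ := CfsgLib.Perm.RankOne.Unital.nonempty_modelGroup_equiv hF hne
  obtain ⟨T₀, hT₀⟩ := exists_sylow_transU hF hn rfl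
  refine ⟨Or.inr (Or.inr (Or.inr (Or.inl ⟨F, inferInstance, inferInstance, n, hn, by
    rw [hF, show (4 : ℕ) = 2 ^ 2 by norm_num, ← pow_mul, ← pow_mul, mul_comm], ⟨e⟩⟩))), hconj, htwo, fun T => ?_⟩
  have hf := (sylFacts_of_one.{0, 0} T₀ (hT₀ ▸ sylFacts_transU hF hne hq4)
    (T.mapSurjective (f := (e.trans em.symm).toMonoidHom) (e.trans em.symm).surjective)).1
  exact ⟨hf.of_mulEquiv (e.trans em.symm) (Sylow.coe_mapSurjective _ T).symm,
    Or.inl (CfsgLib.CentralMeet.oddCover_psu hn hF e)⟩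

/-- A simple nonabelian group with a nontrivial strongly closed abelian subgroup of a Sylow 2-subgroup. -/
theorem good_of_closed (hG : CfsgLib.SThreeFree.GoldschmidtInput.{u}) (hW : CfsgLib.Walter.WalterList.{u})
    {L : Type u} [Group L] [Finite L] [IsSimpleGroup L] (hna : ¬ IsMulCommutative L) {S : Sylow 2 L}
    {A : Subgroup L} (hA : Closed S A) (hA1 : A ≠ ⊥) : Good L := by
  haveI := Fact.mk Nat.prime_two
  have h2 : 2 ∣ Nat.card L := by
    haveI : Nontrivial A := A.nontrivial_iff_ne_bot.2 hA1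
    obtain ⟨k, hk⟩ := (S.2.to_le hA.le).exists_card_eq
    refine (dvd_pow_self 2 ?_ : 2 ∣ 2 ^ k).trans (hk ▸ A.card_subgroup_dvd_card)
    rintro rfl
    rw [pow_zero] at hk
    exact (Finite.one_lt_card (α := A)).ne' hk
  have htwo : ∃ s t : L, orderOf s = 2 ∧ orderOf t = 2 ∧ s ≠ t ∧ s * t = t * s :=
    CfsgLib.Orders.EPPOPrimes.exists_commuting_involutions hna h2
  rcases hG L S A hA1 hA.comm hA.closed with hS | ⟨M, hM⟩
  · have hab : CfsgLib.AbelianSolvCent.AbSylow L := fun P => by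
      obtain ⟨g, rfl⟩ := MulAction.exists_smul_eq L S P
      exact ⟨⟨fun a b => (S.equivSMul g).symm.injective (by rw [map_mul, map_mul]; exact hS.is_comm.comm _ _)⟩⟩
    rcases hW L hna hab with ⟨n, hn, F, iF, iT, hF, ⟨e⟩⟩ | ⟨F, iF, iT, h5, h8, ⟨e⟩⟩ | hJ | ⟨F, iF, iT, hCP, ⟨c⟩⟩
    · haveI : CharP F 2 := charP_of_card_eq_prime_pow hF
      obtain ⟨ep⟩ := CfsgLib.Recog.AffineTwo.psl_equiv_sl F
      exact good_SL_two (by rw [hF]; exact le_trans (by norm_num) (Nat.pow_le_pow_right two_pos hn)) (e.trans ep) htwo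
    · classical
      have h2F : (2 : F) ≠ 0 := fun h => by
        haveI : CharP F 2 := CharTwo.of_one_ne_zero_of_two_eq_zero one_ne_zero h
        obtain ⟨k, -, hk⟩ := FiniteField.card F 2
        have h2k : 2 ∣ 2 ^ (k : ℕ) := dvd_pow_self 2 k.ne_zero
        omega
      refine good_mk (Or.inr (Or.inr (Or.inr (Or.inr (Or.inl ⟨F, iF, iT, _, rfl, h5, h8, ⟨e⟩⟩)))))
        (fun x y hx hy => ?_) htwo fun T x hx => ?_
      · have := CfsgLib.GW.Dne.PSLAut.isConj_involutions h2F (x := e x) (y := e y) (by rw [MulEquiv.orderOf_eq, hx])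
          (by rw [MulEquiv.orderOf_eq, hy])
        simpa using e.symm.toMonoidHom.map_isConj this
      · haveI := CfsgLib.Classical.Two.isKleinFour_sylow_PSL rfl h8 (T.mapSurjective (f := e.toMonoidHom) e.surjective)
        refine e.injective ?_
        rw [map_mul, map_one]
        exact congrArg Subtype.val (IsKleinFour.mul_self
          (⟨e x, Subgroup.mem_map_of_mem _ hx⟩ : ↥((T.mapSurjective (f := e.toMonoidHom) e.surjective : Sylow 2 _) :
            Subgroup (ProjectiveSpecialLinearGroup (Fin 2) F))))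
    · obtain ⟨t, ht, ⟨et⟩⟩ := CfsgLib.Recog.J1FromOrder.exists_local hJ.2
      have hiso : Cfsg.Spor.IsoJ1 L := CfsgLib.Recog.J1Unique.iso_J1 t ht et
      exact good_mk (Or.inr (Or.inr (Or.inr (Or.inr (Or.inr hiso)))))
        (fun x y hx hy => CfsgLib.Recog.J1FromOrder.involutions_conj hJ.2 x y hx hy) htwo
        fun T => CfsgLib.Recog.J1FromOrder.two_square hJ.2 T
    · have hree : Cfsg.IsReeType L := by
        obtain ⟨k, -, hk⟩ := FiniteField.card F 3
        obtain ⟨n, hn⟩ : Odd (k : ℕ) := by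
          rcases Nat.even_or_odd (k : ℕ) with ⟨j, hj⟩ | h
          · have h1 := c.hq
            rw [hk, hj, ← two_mul, pow_mul, Nat.pow_mod] at h1
            norm_num at h1
          · exact h
        have hK : c.ι.range = c.K := rfl
        refine ⟨c.simp, c.ncomm, c.t, c.K, n, ?_, c.ht, c.hidx, ⟨?_, c.K_le_Ct, ?_, ?_, ?_⟩, F, iF, iT,
          by rw [hk, hn], ⟨(MonoidHom.ofInjective c.inj).symm⟩⟩
        · have := c.hbig
          rw [hk, hn] at this
          by_contra h
          rw [show n = 0 by omega] at this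
          norm_num at this
        · exact zpowers_le.2 c.t_mem_Ct
        · rintro a ha _ ⟨b, rfl⟩
          obtain ⟨i, rfl⟩ := ha
          exact (Commute.zpow_left (c.ι_comm b).symm i).eq
        · rw [eq_bot_iff]
          rintro x ⟨hx1, hx2⟩
          obtain ⟨i, rfl⟩ := hx1
          rcases Int.even_or_odd' i with ⟨j, rfl | rfl⟩
          · show c.t ^ (2 * j) ∈ (⊥ : Subgroup L)
            rw [_root_.zpow_mul, zpow_two, c.t_sq, _root_.one_zpow]
            exact one_mem _
          · refine absurd ?_ c.tnot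
            have e : c.t ^ (2 * j + 1) = c.t := by
              rw [_root_.zpow_add, _root_.zpow_mul, zpow_two, c.t_sq, _root_.one_zpow, one_mul, zpow_one]
            exact e ▸ hx2
        · refine le_antisymm (sup_le (zpowers_le.2 c.t_mem_Ct) c.K_le_Ct) fun x hx => ?_
          obtain ⟨k, h | h⟩ := c.decomp hx
          · exact h ▸ mem_sup_right ⟨k, rfl⟩
          · exact h ▸ mul_mem (mem_sup_left (mem_zpowers c.t)) (mem_sup_right ⟨k, rfl⟩)
      haveI := c.simp
      obtain ⟨T₀, h8, hc8, htT, -⟩ := c.exists_sylow_eight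
      obtain ⟨w, -, s0, -, -, -, hall⟩ := CfsgLib.Classical.AbSylow.exists_seven_cycle c.ncomm T₀ hc8 h8
      have hsq : ∀ x ∈ (T₀ : Subgroup L), x * x = 1 := fun x hx => by
        by_cases hx1 : x = 1
        · rw [hx1, one_mul]
        obtain ⟨i, -, rfl⟩ := hall x hx hx1
        obtain ⟨j, -, hj⟩ := hall _ htT c.t_ne
        have h1 : s0 * s0 = 1 := by
          have h2 := c.t_sq
          rw [hj] at h2
          calc s0 * s0 = (w ^ j)⁻¹ * (w ^ j * s0 * (w ^ j)⁻¹ * (w ^ j * s0 * (w ^ j)⁻¹)) * w ^ j := by group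
            _ = 1 := by rw [h2]; group
        calc w ^ i * s0 * (w ^ i)⁻¹ * (w ^ i * s0 * (w ^ i)⁻¹) = w ^ i * (s0 * s0) * (w ^ i)⁻¹ := by group
          _ = 1 := by rw [h1]; group
      refine good_mk (Or.inl hree) (fun x y hx hy => ?_) htwo fun T x hx => ?_
      · obtain ⟨g, hg⟩ := c.exists_conj_t hx
        obtain ⟨g', hg'⟩ := c.exists_conj_t hy
        exact (isConj_iff.2 ⟨g, hg⟩).symm.trans (isConj_iff.2 ⟨g', hg'⟩)
      · obtain ⟨g, rfl⟩ := MulAction.exists_smul_eq L T₀ T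
        rw [Sylow.coe_subgroup_smul, Subgroup.mem_pointwise_smul_iff_inv_smul_mem] at hx
        simp only [MulAut.smul_def, MulAut.conj_inv_apply] at hx
        calc x * x = g * ((g⁻¹ * x * g) * (g⁻¹ * x * g)) * g⁻¹ := by group
          _ = 1 := by rw [hsq _ hx]; group
  · have hconj : ∀ x y : L, orderOf x = 2 → orderOf y = 2 → IsConj x y := fun x y hx hy =>
      CfsgLib.TwoGroups.SE.isConj_involutions hM hx hy
    obtain ⟨s, t, hs, ht, hne, hst⟩ := htwo
    obtain ⟨x, hx⟩ := CfsgLib.TwoGroups.SE.exists_fixed hM hs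
    obtain ⟨g, rfl⟩ := QuotientGroup.mk_surjective x
    rw [CfsgLib.TwoGroups.SE.smul_mk_eq_iff] at hx
    have htM : g⁻¹ * t * g ∈ M := CfsgLib.Bender.mem_of_commute_involution hM
      (by rw [CfsgLib.TwoGroups.SE.orderOf_conj', hs]) hx
      (show g⁻¹ * t * g * (g⁻¹ * s * g) = g⁻¹ * s * g * (g⁻¹ * t * g) from by
        calc g⁻¹ * t * g * (g⁻¹ * s * g) = g⁻¹ * (t * s) * g := by group
          _ = g⁻¹ * (s * t) * g := by rw [hst]
          _ = _ := by group)
    have hfam := CfsgLib.Bender.family_of_simple CfsgLib.Bender.benderGen hM ⟨_, hx, _, htM,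
      by rw [CfsgLib.TwoGroups.SE.orderOf_conj', hs], by rw [CfsgLib.TwoGroups.SE.orderOf_conj', ht],
      fun h => hne (by simpa using h), by
        calc g⁻¹ * s * g * (g⁻¹ * t * g) = g⁻¹ * (s * t) * g := by group
          _ = g⁻¹ * (t * s) * g := by rw [hst]
          _ = _ := by group⟩
    rcases hfam with ⟨F, iF, iT, hF2, h4, ⟨e⟩⟩ | ⟨F, iF, iT, q, hq2, hq4, hF, ⟨e⟩⟩ | hsz
    · exact good_SL_two h4 e ⟨s, t, hs, ht, hne, hst⟩
    · exact good_unitary hq2 hq4 hF e hconj ⟨s, t, hs, ht, hne, hst⟩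
    · exact good_suzuki hsz hconj ⟨s, t, hs, ht, hne, hst⟩

end CfsgLib.TwoFusion.StructGold
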