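import Cfsg.Agent.Lib.Core.Cores
import Cfsg.Agent.Lib.Transfer.Fusion
import Cfsg.Agent.Lib.LocalEven.PClosed
import Cfsg.Agent.Lib.ZStar.FusionCenter
import Cfsg.Prelude.Def_TwoFusion

/-!
Owner: helper7. S2775: strongly closed abelian subgroups of a Sylow 2-subgroup.

* `Closed S A`: the hypothesis, with its stability under normal subgroups and 2-quotients.
* `Closed.exists_normalizer_conj`: fusion in `A` is controlled by `N(A)`.
* `Closed.commute_of_fixed`: unfused elements of `A` are central (Z*).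
* `Closed.le_centralizer`: `A` centralises a core-free `L` that it normalises and meets trivially.
-/

set_option autoImplicit false
set_option linter.unusedSectionVars false
set_option linter.style.haveILetI false

namespace CfsgLib.TwoFusion.StructGold

open Subgroup Cfsg

universe u v

/-- An abelian subgroup of a Sylow 2-subgroup, strongly closed in it. -/
structure Closed {G : Type u} [Group G] (S : Sylow 2 G) (A : Subgroup G) : Prop where
  comm : IsMulCommutative A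
  closed : IsStronglyClosed A (S : Subgroup G)

/-- The intersection of a Sylow subgroup with a normal subgroup is one of the normal subgroup. -/
theorem exists_sylow_subgroupOf {G : Type u} [Group G] [Finite G] (S : Sylow 2 G) (N : Subgroup G) [N.Normal] :
    ∃ Q : Sylow 2 N, (Q : Subgroup N) = (S : Subgroup G).subgroupOf N := by
  haveI := Fact.mk Nat.prime_two
  obtain ⟨Q, hQ⟩ := CfsgLib.LocalEven.exists_sylow_inf S N
  refine ⟨Q, map_injective N.subtype_injective ?_⟩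
  rw [hQ, subgroupOf_map_subtype]

namespace Closed

variable {G : Type u} [Group G] [Finite G] {S : Sylow 2 G} {A : Subgroup G} (h : Closed S A)

include h

theorem le : A ≤ (S : Subgroup G) := h.closed.1

theorem commute {a b : G} (ha : a ∈ A) (hb : b ∈ A) : Commute a b :=
  congrArg Subtype.val (h.comm.is_comm.comm ⟨a, ha⟩ ⟨b, hb⟩)

theorem conj_mem {x : G} (hx : x ∈ A) {g : G} (hg : g * x * g⁻¹ ∈ (S : Subgroup G)) : g * x * g⁻¹ ∈ A :=
  h.closed.2 x hx g hg

theorem sylow_conj_mem {s x : G} (hs : s ∈ (S : Subgroup G)) (hx : x ∈ A) : s * x * s⁻¹ ∈ A :=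
  h.conj_mem hx (mul_mem (mul_mem hs (h.le hx)) (inv_mem hs))

theorem mem_normalizer_of_forall {n : G} (hn : ∀ x ∈ A, n * x * n⁻¹ ∈ (S : Subgroup G)) :
    n ∈ normalizer (A : Set G) := by
  rw [← CfsgLib.Transfer.map_conj_eq_self_iff]
  refine eq_of_le_of_card_ge ?_ ?_
  · rintro _ ⟨x, hx, rfl⟩
    exact h.conj_mem hx (hn x hx)
  · exact (Nat.card_congr (A.equivMapOfInjective _ (MulAut.conj n).injective).toEquiv).le

theorem sylow_le_normalizer : (S : Subgroup G) ≤ normalizer (A : Set G) := fun _ hs =>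
  h.mem_normalizer_of_forall fun _ hx => mul_mem (mul_mem hs (h.le hx)) (inv_mem hs)

theorem weaklyClosed : IsWeaklyClosed A (S : Subgroup G) := by
  refine ⟨h.le, fun g hg => ?_⟩
  rw [CfsgLib.Transfer.map_conj_eq_self_iff]
  exact h.mem_normalizer_of_forall fun x hx => hg (mem_map_of_mem _ hx)

/-- Strong closure passes to a normal subgroup. -/
theorem subgroup {N : Subgroup G} (Q : Sylow 2 N) (hQ : (Q : Subgroup N) = (S : Subgroup G).subgroupOf N) :
    Closed Q (A.subgroupOf N) := by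
  refine ⟨⟨⟨fun a b => Subtype.ext (Subtype.ext (h.commute a.2 b.2).eq)⟩⟩, ?_⟩
  rw [hQ]
  exact ⟨fun x hx => h.le hx, fun x hx g hg => h.conj_mem hx hg⟩

/-- Strong closure passes to a quotient by a subgroup of `S`. -/
theorem map {K : Type v} [Group K] [Finite K] (f : G →* K) (hf : Function.Surjective f)
    (hker : f.ker ≤ (S : Subgroup G)) : Closed (S.mapSurjective hf) (A.map f) := by
  refine ⟨⟨⟨?_⟩⟩, ?_⟩
  · rintro ⟨_, a, ha, rfl⟩ ⟨_, b, hb, rfl⟩
    exact Subtype.ext (by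
      show f a * f b = f b * f a
      rw [← map_mul, ← map_mul, (h.commute ha hb).eq])
  rw [Sylow.coe_mapSurjective]
  refine ⟨map_mono h.le, ?_⟩
  rintro _ ⟨x, hx, rfl⟩ k hk
  obtain ⟨g, rfl⟩ := hf k
  rw [← map_inv, ← map_mul, ← map_mul] at hk ⊢
  obtain ⟨s, hs, hse⟩ := hk
  have hd : s⁻¹ * (g * x * g⁻¹) ∈ f.ker := by
    rw [MonoidHom.mem_ker, map_mul, map_inv, hse, inv_mul_cancel]
  refine mem_map_of_mem _ (h.conj_mem hx ?_)
  simpa using mul_mem hs (hker hd)

/-- Fusion in `A` is controlled by its normaliser. -/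
theorem exists_normalizer_conj {a g : G} (ha : a ∈ A) (hg : g * a * g⁻¹ ∈ A) :
    ∃ n ∈ normalizer (A : Set G), n * a * n⁻¹ = g * a * g⁻¹ := by
  haveI := Fact.mk Nat.prime_two
  set C := centralizer ({a} : Set G) with hC
  have h1 : A ≤ C := fun x hx => mem_centralizer_singleton_iff.2 (h.commute hx ha).eq
  have h2 : A.map (MulAut.conj g⁻¹).toMonoidHom ≤ C := by
    rintro _ ⟨x, hx, rfl⟩
    refine mem_centralizer_singleton_iff.2 ?_
    show (g⁻¹ * x * g⁻¹⁻¹) * a = a * (g⁻¹ * x * g⁻¹⁻¹)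
    calc (g⁻¹ * x * g⁻¹⁻¹) * a = g⁻¹ * (x * (g * a * g⁻¹)) * g := by group
      _ = g⁻¹ * ((g * a * g⁻¹) * x) * g := by rw [(h.commute hx hg).eq]
      _ = a * (g⁻¹ * x * g⁻¹⁻¹) := by group
  have hAp : IsPGroup 2 A := S.2.to_le h.le
  obtain ⟨T, hAT, -, hTp, hTi⟩ := CfsgLib.Transfer.exists_sylow_of_le h1 hAp
  obtain ⟨c, hc, hcT⟩ := CfsgLib.Transfer.exists_conj_le hTp hTi h2 (hAp.map _)
  have h3 := CfsgLib.Transfer.map_conj_eq_of_le_pGroup h.weaklyClosed hTp (a := 1) (b := c⁻¹ * g⁻¹)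
    (by rintro _ ⟨x, hx, rfl⟩; simpa using hAT hx)
    (by
      rintro _ ⟨x, hx, rfl⟩
      simpa [mul_assoc] using hcT _ (mem_map_of_mem (MulAut.conj g⁻¹).toMonoidHom hx))
  have h4 : c⁻¹ * g⁻¹ ∈ normalizer (A : Set G) := by
    rw [← CfsgLib.Transfer.map_conj_eq_self_iff, ← h3]
    ext x
    simp
  refine ⟨g * c, by simpa using inv_mem h4, ?_⟩
  have hca : c * a = a * c := mem_centralizer_singleton_iff.1 hc
  calc g * c * a * (g * c)⁻¹ = g * ((c * a) * c⁻¹) * g⁻¹ := by group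
    _ = g * a * g⁻¹ := by rw [hca]; group

/-- Elements of `A` without other conjugates in `A` are central (Z*). -/
theorem commute_of_fixed {L : Subgroup G} [L.Normal] (hO : pPrimeCore 2 L = ⊥) {a : G} (ha : a ∈ A)
    (hfix : ∀ (g : G) (k : ℕ), g * a ^ k * g⁻¹ ∈ A → g * a ^ k * g⁻¹ = a ^ k) {g : G}
    (hL : a * g * a⁻¹ * g⁻¹ ∈ L) : Commute a g := by
  have h1 := CfsgLib.ZStar.commutator_mem_oddCore_of_fixed S (x := a)
    ⟨h.le ha, fun g k hk => hfix g k (h.conj_mem (pow_mem ha k) hk)⟩ g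
  have h2 : (⟨_, hL⟩ : L) ∈ (oddCore G).subgroupOf L := h1
  have h3 : (oddCore G).subgroupOf L ≤ pPrimeCore 2 L :=
    CfsgLib.Core.le_pPrimeCore ((CfsgLib.Core.coprime_card_pPrimeCore 2 G).coprime_dvd_left
      (card_comap_dvd_of_injective _ _ L.subtype_injective))
  have h4 : a * g * a⁻¹ * g⁻¹ = 1 := congrArg Subtype.val (mem_bot.1 (hO ▸ h3 h2) : (⟨_, hL⟩ : L) = 1)
  exact mul_inv_eq_iff_eq_mul.1 (mul_inv_eq_one.1 h4)

/-- `A` centralises a core-free subgroup, Sylow in `S`, that it normalises and meets trivially. -/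
theorem le_centralizer {L : Subgroup G} (Q : Sylow 2 L) (hQ : (Q : Subgroup L) = (S : Subgroup G).subgroupOf L)
    (hO : pPrimeCore 2 L = ⊥) (hAL : A ⊓ L = ⊥) {a : G} (ha : a ∈ A) (haL : a ∈ normalizer (L : Set G))
    {x : G} (hx : x ∈ L) : Commute a x := by
  haveI := Fact.mk Nat.prime_two
  set H := L ⊔ zpowers a with hH
  have hzL : zpowers a ≤ normalizer (L : Set G) := zpowers_le.2 haL
  have haH : a ∈ H := mem_sup_right (mem_zpowers a)
  haveI : (L.subgroupOf H).Normal := normal_subgroupOf_of_le_normalizer (sup_le le_normalizer hzL)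
  have hmul : ∀ g ∈ H, ∃ l ∈ L, ∃ i : ℤ, g = l * a ^ i := fun g hg => by
    have hg' : g ∈ (H : Set G) := hg
    rw [hH, coe_mul_of_right_le_normalizer_left _ _ hzL] at hg'
    obtain ⟨l, hl, z, ⟨i, rfl⟩, rfl⟩ := hg'
    exact ⟨l, hl, i, rfl⟩
  -- a Sylow subgroup of `H` inside `S`
  let P : Subgroup H := (S : Subgroup G).subgroupOf H
  have hPp : IsPGroup 2 P := S.2.comap_subtype
  have hidx : ¬ 2 ∣ P.index := by
    intro hd
    refine Q.not_dvd_index ?_
    rw [hQ]
    show 2 ∣ (S : Subgroup G).relIndex L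
    have h1 : (S : Subgroup G).relIndex H ∣ (S : Subgroup G).relIndex L := by
      have hHS : (S : Subgroup G) ⊓ H = ((S : Subgroup G) ⊓ L) ⊔ zpowers a := by
        refine le_antisymm ?_ (sup_le (inf_le_inf_left _ le_sup_left) (le_inf (zpowers_le.2 (h.le ha)) le_sup_right))
        rintro g ⟨hgS, hgH⟩
        obtain ⟨l, hl, i, rfl⟩ := hmul g hgH
        have hlS : l ∈ (S : Subgroup G) := by
          simpa using Subgroup.mul_mem _ hgS (Subgroup.inv_mem _ (Subgroup.zpow_mem _ (h.le ha) i))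
        exact mul_mem (mem_sup_left ⟨hlS, hl⟩) (mem_sup_right (Subgroup.zpow_mem _ (mem_zpowers a) i))
      have hLH : L ≤ H := le_sup_left
      have e : (S : Subgroup G).relIndex H = ((S : Subgroup G) ⊓ H).relIndex H := (inf_relIndex_right _ _).symm
      have hsup : L ⊔ ((S : Subgroup G) ⊓ H) = H := by
        rw [hHS, ← sup_assoc, sup_eq_left.2 (inf_le_right : (S : Subgroup G) ⊓ L ≤ L)]
      have hN : ((S : Subgroup G) ⊓ H) ≤ normalizer (L : Set G) :=
        inf_le_right.trans (sup_le le_normalizer hzL)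
      have c1 := CfsgLib.Core.card_sup_mul_card_inf ((S : Subgroup G) ⊓ H) L hN
      rw [sup_comm, hsup, inf_assoc, inf_eq_right.2 hLH] at c1
      have c2 : Nat.card ↥((S : Subgroup G) ⊓ H) * ((S : Subgroup G) ⊓ H).relIndex H = Nat.card H := by
        rw [← relIndex_bot_left, ← relIndex_bot_left H]
        exact relIndex_mul_relIndex _ _ _ bot_le inf_le_right
      have c3 : Nat.card ↥((S : Subgroup G) ⊓ L) * ((S : Subgroup G) ⊓ L).relIndex L = Nat.card L := by
        rw [← relIndex_bot_left, ← relIndex_bot_left L]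
        exact relIndex_mul_relIndex _ _ _ bot_le inf_le_right
      rw [e]
      have key : ((S : Subgroup G) ⊓ H).relIndex H = ((S : Subgroup G) ⊓ L).relIndex L := by
        refine Nat.eq_of_mul_eq_mul_left
          (Nat.mul_pos (Nat.card_pos (α := ↥((S : Subgroup G) ⊓ L))) (Nat.card_pos (α := ↥((S : Subgroup G) ⊓ H)))) ?_
        rw [mul_assoc, c2, mul_comm, c1, mul_comm _ (Nat.card L), ← c3]
        ring
      rw [key, inf_relIndex_right]
    exact hd.trans h1
  let P' : Sylow 2 H := hPp.toSylow hidx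
  have hcl : Closed P' (A.subgroupOf H) := h.subgroup P' (rfl)
  have hO' : pPrimeCore 2 (L.subgroupOf H) = ⊥ := by
    have e := subgroupOfEquivOfLe (le_sup_left : L ≤ H)
    refine (map_eq_bot_iff_of_injective _ (f := e.toMonoidHom) e.injective).1 (le_bot_iff.1 ?_)
    exact (CfsgLib.Core.map_pPrimeCore_le e.toMonoidHom e.surjective).trans hO.le
  have hcomm : ∀ g ∈ H, ∀ k : ℕ, a ^ k * g * (a ^ k)⁻¹ * g⁻¹ ∈ L := by
    intro g hg k
    obtain ⟨l, hl, i, rfl⟩ := hmul g hg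
    have hn : a ^ k * l * (a ^ k)⁻¹ ∈ L := (mem_normalizer_iff.1 (Subgroup.pow_mem _ haL k) l).1 hl
    rw [show a ^ k * (l * a ^ i) * (a ^ k)⁻¹ * (l * a ^ i)⁻¹ = (a ^ k * l * (a ^ k)⁻¹) * l⁻¹ by
      rw [← zpow_natCast]; group]
    exact mul_mem hn (inv_mem hl)
  have hfix : ∀ (g : H) (k : ℕ), g * (⟨a, haH⟩ : H) ^ k * g⁻¹ ∈ A.subgroupOf H →
      g * (⟨a, haH⟩ : H) ^ k * g⁻¹ = (⟨a, haH⟩ : H) ^ k := by
    intro g k hk
    have hk' : (g : G) * a ^ k * (g : G)⁻¹ ∈ A := hk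
    refine Subtype.ext ?_
    show (g : G) * a ^ k * (g : G)⁻¹ = a ^ k
    have hm : a ^ k * g * (a ^ k)⁻¹ * (g : G)⁻¹ ∈ A ⊓ L := by
      refine ⟨?_, hcomm g g.2 k⟩
      rw [show a ^ k * g * (a ^ k)⁻¹ * (g : G)⁻¹ = a ^ k * ((g : G) * a ^ k * (g : G)⁻¹)⁻¹ by group]
      exact A.mul_mem (A.pow_mem ha k) (A.inv_mem hk')
    rw [hAL, mem_bot] at hm
    exact (mul_inv_eq_iff_eq_mul.2 (mul_inv_eq_iff_eq_mul.1 (mul_inv_eq_one.1 hm)).symm)
  have hxH : x ∈ H := mem_sup_left hx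
  exact congrArg Subtype.val (hcl.commute_of_fixed hO' (a := ⟨a, haH⟩) ha hfix (g := ⟨x, hxH⟩) (by
    show a * x * a⁻¹ * x⁻¹ ∈ L
    simpa using hcomm x hxH 1))

end Closed

end CfsgLib.TwoFusion.StructGold
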