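import Cfsg.Agent.Lib.TwoFusion.StructGold.Main

/-!
Owner: helper7. S2767: two strongly closed subgroups `S₁`, `S₂` commuting elementwise, `D` their intersection
and `M` the normal closure of `D`, when `M` has trivial cores, so is a product of simple factors.

* `Pair.inner`: if `S₁ ∩ L` consists of involutions, `S₁` induces inner automorphisms on the factor `L`
  (`S₁ ∩ L⟨s⟩` is then abelian and strongly closed, so no automorphisms of `L` have to be known).
* On every factor one of the two normal closures is inner, and modulo `M` the two subgroups meet trivially.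
-/

set_option autoImplicit false
set_option linter.unusedSectionVars false
set_option linter.style.haveILetI false

namespace CfsgLib.TwoFusion.StructGold

open Subgroup Cfsg
open scoped commutatorElement

universe u

variable {G : Type u} [Group G] [Finite G]

/-- The image of a strongly closed subgroup is strongly closed. -/
theorem isStronglyClosed_mapSurjective {K : Type u} [Group K] [Finite K] (f : G →* K) (hf : Function.Surjective f)
    (S : Sylow 2 G) {E : Subgroup G} (hE : IsStronglyClosed E (S : Subgroup G)) :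
    IsStronglyClosed (E.map f) ((S.mapSurjective hf : Sylow 2 K) : Subgroup K) := by
  haveI := Fact.mk Nat.prime_two
  rw [Sylow.coe_mapSurjective]
  refine ⟨map_mono hE.1, ?_⟩
  rintro _ ⟨x, hx, rfl⟩ k hk
  obtain ⟨g, rfl⟩ := hf k
  obtain ⟨y, hy, hyx⟩ := hk
  set U := (S : Subgroup G) ⊔ f.ker with hU
  have hmem : g * x * g⁻¹ ∈ U := by
    have : g * x * g⁻¹ = y * (y⁻¹ * (g * x * g⁻¹)) := by group
    rw [this]
    exact mul_mem_sup hy (by rw [MonoidHom.mem_ker, map_mul, map_inv, hyx, map_mul, map_mul, map_inv]; group)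
  have hPi : ¬ 2 ∣ (S : Subgroup G).relIndex U := fun hd =>
    S.not_dvd_index (hd.trans (relIndex_dvd_index_of_le le_sup_left))
  have hxp : IsPGroup 2 ↥(zpowers (g * x * g⁻¹)) := by
    have := (S.2.to_le (zpowers_le.2 (hE.1 hx))).map (MulAut.conj g).toMonoidHom
    rwa [MonoidHom.map_zpowers] at this
  obtain ⟨v, hv, hvx⟩ := CfsgLib.Transfer.exists_conj_le S.2 hPi (zpowers_le.2 hmem) hxp
  have hvx' : (v⁻¹ * g) * x * (v⁻¹ * g)⁻¹ ∈ (S : Subgroup G) := by
    convert hvx _ (mem_zpowers _) using 1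
    group
  obtain ⟨a, ha, w, hw, rfl⟩ := mem_sup_of_normal_right.1 hv
  have hd := hE.2 x hx _ hvx'
  set z := ((a * w)⁻¹ * g) * x * ((a * w)⁻¹ * g)⁻¹ with hz
  refine ⟨a * z * a⁻¹, hE.2 z hd a (mul_mem (mul_mem ha (hE.1 hd)) (inv_mem ha)), ?_⟩
  rw [hz]
  simp only [map_mul, map_inv, MonoidHom.mem_ker.1 hw, mul_one]
  group

/-- The closure of `A` inside its normal closure is everything. -/
theorem Closed.normalClosure_subgroupOf {S : Sylow 2 G} {A : Subgroup G} (h : Closed S A) :
    normalClosure ((A.subgroupOf (normalClosure (A : Set G)) : Subgroup ↥(normalClosure (A : Set G))) :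
      Set ↥(normalClosure (A : Set G))) = ⊤ := by
  haveI := Fact.mk Nat.prime_two
  set K := normalClosure (A : Set G) with hK
  haveI : K.Normal := normalClosure_normal
  obtain ⟨SK, hSK⟩ := exists_sylow_subgroupOf S K
  have hAK : A ≤ K := fun a ha => subset_normalClosure ha
  set N := normalClosure ((A.subgroupOf K : Subgroup K) : Set K) with hN
  have hAN : A ≤ N.map K.subtype := fun a ha => ⟨⟨a, hAK ha⟩, subset_normalClosure ha, rfl⟩
  haveI hNn : (N.map K.subtype).Normal := by
    rw [← normalizer_eq_top_iff, eq_top_iff]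
    intro g _
    have hg : g ∈ ((normalizer ((SK : Subgroup K).map K.subtype : Set G) ⊔ K : Subgroup G) : Set G) := by
      rw [Sylow.normalizer_sup_eq_top SK]
      trivial
    rw [mul_normal] at hg
    obtain ⟨n, hn, k, hk, rfl⟩ := hg
    refine mul_mem ?_ ?_
    · rw [← CfsgLib.Transfer.map_conj_eq_self_iff]
      refine eq_of_le_of_card_ge ?_
        (Nat.card_congr ((N.map K.subtype).equivMapOfInjective _ (MulAut.conj n).injective).toEquiv).le
      have hnA : n ∈ normalizer (A : Set G) := h.mem_normalizer_of_forall fun a ha => by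
        have hm : a ∈ (SK : Subgroup K).map K.subtype := ⟨⟨a, hAK ha⟩, by rw [hSK]; exact h.le ha, rfl⟩
        obtain ⟨y, hy, hye⟩ := (mem_normalizer_iff.1 hn a).1 hm
        rw [← hye]
        rw [hSK] at hy
        exact hy
      rintro _ ⟨_, ⟨x, hx, rfl⟩, rfl⟩
      have hle : N ≤ N.comap (MulAut.conjNormal n : MulAut K).toMonoidHom := by
        refine normalClosure_le_normal fun x hx => subset_normalClosure ?_
        show ((MulAut.conjNormal n : MulAut K) x : G) ∈ A
        rw [MulAut.conjNormal_apply]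
        exact (mem_normalizer_iff.1 hnA x).1 hx
      exact ⟨_, hle hx, MulAut.conjNormal_apply n x⟩
    · exact le_normalizer_map K.subtype (mem_map_of_mem K.subtype
        (show (⟨k, hk⟩ : K) ∈ normalizer (N : Set K) by rw [normalizer_eq_top]; exact mem_top _))
  refine map_injective K.subtype_injective ?_
  rw [← MonoidHom.range_eq_map, range_subtype]
  exact le_antisymm (map_subtype_le N) (normalClosure_le_normal hAN)

/-- Two strongly closed subgroups commuting elementwise. -/
structure Pair (S : Sylow 2 G) (S₁ S₂ : Subgroup G) : Prop where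
  cl₁ : IsStronglyClosed S₁ (S : Subgroup G)
  cl₂ : IsStronglyClosed S₂ (S : Subgroup G)
  comm : ∀ a ∈ S₁, ∀ b ∈ S₂, a * b = b * a

variable {S : Sylow 2 G} {S₁ S₂ : Subgroup G}

theorem Pair.symm (p : Pair S S₁ S₂) : Pair S S₂ S₁ :=
  ⟨p.cl₂, p.cl₁, fun a ha b hb => (p.comm b hb a ha).symm⟩

theorem Pair.inf_closed (p : Pair S S₁ S₂) : Closed S (S₁ ⊓ S₂) :=
  ⟨⟨⟨fun a b => Subtype.ext (p.comm a a.2.1 b b.2.2)⟩⟩, inf_le_left.trans p.cl₁.1,
    fun x hx g hg => ⟨p.cl₁.2 x hx.1 g hg, p.cl₂.2 x hx.2 g hg⟩⟩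

theorem Pair.map (p : Pair S S₁ S₂) {K : Type u} [Group K] [Finite K] (f : G →* K) (hf : Function.Surjective f) :
    Pair (S.mapSurjective hf) (S₁.map f) (S₂.map f) := by
  refine ⟨isStronglyClosed_mapSurjective f hf S p.cl₁, isStronglyClosed_mapSurjective f hf S p.cl₂, ?_⟩
  rintro _ ⟨a, ha, rfl⟩ _ ⟨b, hb, rfl⟩
  rw [← map_mul, p.comm a ha b hb, map_mul]

/-- An element of a strongly closed `E` centralising `E ∩ L`, an abelian group, is inner on `L`. -/
theorem exists_inner (hG : CfsgLib.SThreeFree.GoldschmidtInput.{u}) (hW : CfsgLib.Walter.WalterList.{u})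
    {E L : Subgroup G} (hE : IsStronglyClosed E (S : Subgroup G)) [L.Normal] [IsSimpleGroup L]
    (hna : ¬ IsMulCommutative L) (hne : E ⊓ L ≠ ⊥) {s : G} (hs : s ∈ E)
    (hab : ∀ x ∈ E ⊓ L, ∀ y ∈ E ⊓ L, Commute x y) (hsx : ∀ x ∈ E ⊓ L, Commute s x) :
    ∃ z ∈ E ⊓ L, z * s ∈ centralizer (L : Set G) := by
  haveI := Fact.mk Nat.prime_two
  set H := L ⊔ zpowers s with hH
  have hsH : s ∈ H := mem_sup_right (mem_zpowers s)
  have hdec : ∀ g ∈ H, ∃ l ∈ L, ∃ i : ℤ, g = l * s ^ i := fun g hg => by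
    have hg' : g ∈ (H : Set G) := hg
    rw [hH, normal_mul] at hg'
    obtain ⟨l, hl, _, ⟨i, rfl⟩, rfl⟩ := hg'
    exact ⟨l, hl, i, rfl⟩
  obtain ⟨Q, hQ⟩ := exists_sylow_between (S := S) (le_sup_left : L ≤ H) fun g hg => by
    obtain ⟨l, hl, i, rfl⟩ := hdec g hg
    exact ⟨l, hl, s ^ i, zpow_mem (hE.1 hs) i, rfl⟩
  have hdecE : ∀ g ∈ E, g ∈ H → ∃ x ∈ E ⊓ L, ∃ i : ℤ, g = x * s ^ i := fun g hg hgH => by
    obtain ⟨l, hl, i, rfl⟩ := hdec g hgH
    exact ⟨l, ⟨by simpa using mul_mem hg (inv_mem (zpow_mem hs i)), hl⟩, i, rfl⟩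
  have hcl : Closed Q (E.subgroupOf H) := by
    refine ⟨⟨⟨fun a b => Subtype.ext (Subtype.ext ?_)⟩⟩, ?_⟩
    · show ((a : H) : G) * ((b : H) : G) = ((b : H) : G) * ((a : H) : G)
      obtain ⟨x, hx, i, hxi⟩ := hdecE _ a.2 (a : H).2
      obtain ⟨y, hy, j, hyj⟩ := hdecE _ b.2 (b : H).2
      simp only [Subgroup.coe_subtype] at hxi hyj
      rw [hxi, hyj]
      have h1 : Commute x (y * s ^ j) := (hab x hx y hy).mul_right ((hsx x hx).symm.zpow_right j)
      have h2 : Commute (s ^ i) (y * s ^ j) :=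
        ((hsx y hy).zpow_left i).mul_right ((Commute.refl s).zpow_zpow i j)
      exact (h1.mul_left h2).eq
    · rw [hQ]
      exact ⟨fun x hx => hE.1 hx, fun x hx g hg => hE.2 x hx g hg⟩
  have eL : ↥(L.subgroupOf H) ≃* ↥L := subgroupOfEquivOfLe le_sup_left
  haveI : IsSimpleGroup ↥(L.subgroupOf H) := eL.isSimpleGroup_congr.2 inferInstance
  have hna' : ¬ IsMulCommutative ↥(L.subgroupOf H) := fun hc => hna ⟨⟨fun x y => eL.symm.injective (by
    rw [map_mul, map_mul]; exact hc.is_comm.comm _ _)⟩⟩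
  have hne' : E.subgroupOf H ⊓ L.subgroupOf H ≠ ⊥ := fun e => hne (by
    have e' : (E ⊓ L).subgroupOf H = ⊥ := e
    rw [subgroupOf_eq_bot] at e'
    exact disjoint_self.1 (e'.mono_right (inf_le_right.trans le_sup_left)))
  obtain ⟨z, hz, hzc⟩ := hcl.exists_mul_mem_centralizer hG hW hna' hne' (a := ⟨s, hsH⟩) hs
  refine ⟨z, hz, mem_centralizer_iff.2 fun x hx => ?_⟩
  exact congrArg Subtype.val (mem_centralizer_iff.1 hzc ⟨x, mem_sup_left hx⟩ hx)

/-- A product over commuting subgroups of local corrections. -/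
theorem exists_global {ι : Type*} (L U : ι → Subgroup G) (hUL : ∀ i, U i ≤ L i)
    (hc : ∀ i j, i ≠ j → ∀ x ∈ L i, ∀ y ∈ L j, Commute x y) (x : G)
    (hx : ∀ i, ∃ z ∈ U i, z * x ∈ centralizer (L i : Set G)) (s : Finset ι) :
    ∃ z ∈ ⨆ i ∈ s, U i, ∀ i ∈ s, z * x ∈ centralizer (L i : Set G) := by
  classical
  induction s using Finset.induction with
  | empty => exact ⟨1, one_mem _, by simp⟩
  | @insert j s hj ih =>
    obtain ⟨z, hz, hzs⟩ := ih
    obtain ⟨w, hw, hwj⟩ := hx j
    have hzj : z ∈ centralizer (L j : Set G) := by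
      refine (iSup₂_le fun i hi => ?_ : ⨆ i ∈ s, U i ≤ centralizer (L j : Set G)) hz
      exact (hUL i).trans fun y hy => mem_centralizer_iff.2 fun u hu =>
        (hc j i (fun e => hj (e ▸ hi)) u hu y hy).eq
    have hle : ⨆ i ∈ s, U i ≤ ⨆ i ∈ insert j s, U i := biSup_mono fun i hi => Finset.mem_insert_of_mem hi
    refine ⟨z * w, mul_mem (hle hz) (le_iSup₂_of_le (f := fun i _ => U i) j (Finset.mem_insert_self j s) le_rfl hw),
      fun i hi => ?_⟩
    rcases Finset.mem_insert.1 hi with rfl | hi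
    · rw [mul_assoc]
      exact mul_mem hzj hwj
    · have hzw : z * w = w * z := mem_centralizer_iff.1 hzj w (hUL j hw) |>.symm
      rw [hzw, mul_assoc]
      refine mul_mem (mem_centralizer_iff.2 fun u hu => ?_) (hzs i hi)
      exact (hc i j (fun e => hj (e ▸ hi)) u hu w (hUL j hw)).eq

/-- A factor of `M`. -/
structure Factor (S : Sylow 2 G) (D M L : Subgroup G) : Prop where
  le : L ≤ M
  norm : M ≤ normalizer (L : Set G)
  simple : IsSimpleGroup L
  noncomm : ¬ IsMulCommutative L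
  meets : D ⊓ L ≠ ⊥
  sq : ∀ x ∈ D ⊓ L, x * x = 1
  facts : ∃ Q : Sylow 2 L, (Q : Subgroup L) = (S : Subgroup G).subgroupOf L ∧ SylFacts (Q : Subgroup L)

/-- The decomposition of `M`. -/
structure Split (S : Sylow 2 G) (D M : Subgroup G) where
  n : ℕ
  L : Fin n → Subgroup G
  factor : ∀ i, Factor S D M (L i)
  comm : ∀ i j, i ≠ j → ∀ x ∈ L i, ∀ y ∈ L j, Commute x y
  sup : ⨆ i, L i = M
  inv_le : ∀ y ∈ (S : Subgroup G), y ∈ M → y * y = 1 → y ∈ D
  center_bot : ∀ y ∈ M, y ∈ centralizer (M : Set G) → y = 1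

theorem exists_split (hG : CfsgLib.SThreeFree.GoldschmidtInput.{u}) (hW : CfsgLib.Walter.WalterList.{u})
    {D : Subgroup G} (h : Closed S D) (hO : pPrimeCore 2 G = ⊥)
    (hZ : pCore 2 ↥(normalClosure (D : Set G)) = ⊥) : Nonempty (Split S D (normalClosure (D : Set G))) := by
  haveI := Fact.mk Nat.prime_two
  set M := normalClosure (D : Set G) with hM
  haveI : M.Normal := normalClosure_normal
  obtain ⟨SM, hSM⟩ := exists_sylow_subgroupOf S M
  have hcl := h.subgroup SM hSM
  have hOM : pPrimeCore 2 ↥M = ⊥ := (map_eq_bot_iff_of_injective _ M.subtype_injective).1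
    (le_bot_iff.1 ((CfsgLib.Core.map_subtype_pPrimeCore_le (p := 2) M).trans hO.le))
  obtain ⟨E⟩ := hcl.exists_decomp hG hW h.normalClosure_subgroupOf hOM hZ
  refine ⟨⟨E.n, fun i => (E.L i).map M.subtype, fun i => ?_, ?_, ?_, ?_, ?_⟩⟩
  · haveI := E.normal i
    haveI := E.simple i
    let e : ↥(E.L i) ≃* ↥((E.L i).map M.subtype) := (E.L i).equivMapOfInjective _ M.subtype_injective
    refine ⟨map_subtype_le _, fun m hm => ?_, e.symm.isSimpleGroup_congr.2 inferInstance, fun hc => E.noncomm i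
      ⟨⟨fun x y => e.injective (by rw [map_mul, map_mul]; exact hc.is_comm.comm _ _)⟩⟩, fun hb => E.meets i ?_,
      fun x hx => ?_, ?_⟩
    · exact le_normalizer_map M.subtype ⟨⟨m, hm⟩, by
        show (⟨m, hm⟩ : M) ∈ normalizer (E.L i : Set M)
        rw [normalizer_eq_top]
        exact mem_top _, rfl⟩
    · refine eq_bot_iff.2 fun x hx => mem_bot.2 (Subtype.ext ?_)
      have : (x : G) ∈ (⊥ : Subgroup G) := hb ▸ ⟨hx.1, x, hx.2, rfl⟩
      exact mem_bot.1 this
    · obtain ⟨y, hy, rfl⟩ := hx.2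
      exact congrArg Subtype.val ((hcl.inf_eq (E.good i) (E.meets i)).1 ⟨hx.1, hy⟩).2.2
    · obtain ⟨Q, hQ, hf⟩ := facts_of_good (S := SM) (E.good i)
      obtain ⟨T, hT⟩ : ∃ T : Sylow 2 ↥((E.L i).map M.subtype), (T : Subgroup _) = (Q : Subgroup _).map e.toMonoidHom :=
        ⟨Q.mapSurjective (f := e.toMonoidHom) e.surjective, Sylow.coe_mapSurjective _ _⟩
      refine ⟨T, ?_, SylFacts.of_mulEquiv e.symm (T' := (Q : Subgroup ↥(E.L i))) ?_ hf⟩
      · rw [hT, hQ, hSM]
        have hcoe : ∀ y, ((e y : ↥((E.L i).map M.subtype)) : G) = ((y : M) : G) := fun y =>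
          coe_equivMapOfInjective_apply (E.L i) M.subtype M.subtype_injective y
        ext x
        constructor
        · rintro ⟨y, hy, rfl⟩
          show ((e y : ↥((E.L i).map M.subtype)) : G) ∈ (S : Subgroup G)
          rw [hcoe]
          exact hy
        · intro hx
          refine ⟨e.symm x, ?_, e.apply_symm_apply x⟩
          show (((e.symm x : ↥(E.L i)) : M) : G) ∈ (S : Subgroup G)
          rw [← hcoe, e.apply_symm_apply]
          exact hx
      · rw [hT, Subgroup.map_map]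
        convert Subgroup.map_id _
        ext x
        simp
  · intro i j hij x hx y hy
    obtain ⟨x, hx, rfl⟩ := hx
    obtain ⟨y, hy, rfl⟩ := hy
    exact (E.commute hij hx hy).map M.subtype
  · rw [← Subgroup.map_iSup, E.sup, ← MonoidHom.range_eq_map, range_subtype]
  · intro y hy hyM hyy
    exact E.inv_le ⟨y, hyM⟩ (by rw [hSM]; exact hy) (Subtype.ext hyy)
  · intro y hy hyc
    have : (⟨y, hy⟩ : M) ∈ center M := mem_center_iff.2 fun x => Subtype.ext (mem_centralizer_iff.1 hyc x x.2)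
    rw [E.center_eq_bot, mem_bot] at this
    exact congrArg Subtype.val this

end CfsgLib.TwoFusion.StructGold
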