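import Cfsg.Agent.Lib.Invol.CentralMeet.Models
import Cfsg.Prelude.Def_LocalEven

/-!
Owner: helper7. S2775: what is used about the simple Goldschmidt groups.

* `SylFacts T`: involutions of `T` are central and absorb commutators; the only invariant subgroup above
  them besides `T` consists of involutions; an equivariant homomorphism to them killing them is trivial.
* `NoPair T`: an invariant alternating pairing on `T` killing the involutions is trivial.
* `Good L`: the facts for a simple group of the list.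
-/

set_option autoImplicit false
set_option linter.unusedSectionVars false

namespace CfsgLib.TwoFusion.StructGold

open Subgroup
open scoped commutatorElement

universe u v w

/-- The facts on a Sylow 2-subgroup. -/
structure SylFacts {L : Type v} [Group L] (T : Subgroup L) : Prop where
  central : ∀ x ∈ T, ∀ y ∈ T, x * x = 1 → x * y = y * x
  comm_sq : ∀ x ∈ T, ∀ y ∈ T, ⁅x, y⁆ * ⁅x, y⁆ = 1
  elem_or : (∀ x ∈ T, x * x = 1) ∨ ∃ x ∈ T, ∃ y ∈ T, x * y ≠ y * x
  irr : ∀ K : Subgroup L, K ≤ T → (∀ x ∈ T, x * x = 1 → x ∈ K) →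
    (∀ n ∈ normalizer (T : Set L), ∀ k ∈ K, n * k * n⁻¹ ∈ K) → (∀ x ∈ K, x * x = 1) ∨ K = T
  noTwist : ∀ φ : L → L, (∀ x ∈ T, φ x ∈ T ∧ φ x * φ x = 1) →
    (∀ x ∈ T, ∀ y ∈ T, φ (x * y) = φ x * φ y) → (∀ x ∈ T, x * x = 1 → φ x = 1) →
    (∀ n ∈ normalizer (T : Set L), ∀ x ∈ T, φ (n * x * n⁻¹) = n * φ x * n⁻¹) → ∀ x ∈ T, φ x = 1

/-- Invariant alternating pairings killing the involutions are trivial. -/
def NoPair {L : Type v} [Group L] (T : Subgroup L) : Prop :=
  ∀ (R : Type w) [CommGroup R] (β : L → L → R),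
    (∀ x ∈ T, ∀ y ∈ T, ∀ z ∈ T, β (x * y) z = β x z * β y z) →
    (∀ x ∈ T, ∀ y ∈ T, β y x = (β x y)⁻¹) → (∀ x ∈ T, β x x = 1) →
    (∀ z ∈ T, z * z = 1 → ∀ y ∈ T, β z y = 1) →
    (∀ n ∈ normalizer (T : Set L), ∀ x ∈ T, ∀ y ∈ T, β (n * x * n⁻¹) (n * y * n⁻¹) = β x y) →
    ∀ x ∈ T, ∀ y ∈ T, β x y = 1

/-- A simple group of the list. -/
structure Good (L : Type u) [Group L] : Prop where
  gold : Cfsg.IsGoldschmidtGroup L
  conj : ∀ x y : L, orderOf x = 2 → orderOf y = 2 → IsConj x y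
  two : ∃ s t : L, orderOf s = 2 ∧ orderOf t = 2 ∧ s ≠ t ∧ s * t = t * s
  syl : ∀ T : Sylow 2 L, SylFacts (T : Subgroup L) ∧
    (CfsgLib.CentralMeet.OddCover L ∨ NoPair.{u, u} (T : Subgroup L))

variable {L : Type v} [Group L] {L' : Type w} [Group L']

/-- The facts hold for a subgroup of exponent two. -/
theorem SylFacts.of_exponent_two {T : Subgroup L} (h : ∀ x ∈ T, x * x = 1) : SylFacts T where
  central x hx y hy _ := by
    have hi : ∀ z ∈ T, z⁻¹ = z := fun z hz => inv_eq_of_mul_eq_one_right (h z hz)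
    calc x * y = (x * y)⁻¹ := (hi _ (T.mul_mem hx hy)).symm
      _ = y * x := by rw [mul_inv_rev, hi x hx, hi y hy]
  comm_sq x hx y hy := h _ (T.mul_mem (T.mul_mem (T.mul_mem hx hy) (T.inv_mem hx)) (T.inv_mem hy))
  elem_or := Or.inl h
  irr K hK _ _ := Or.inl fun x hx => h x (hK hx)
  noTwist _ _ _ hφ _ x hx := hφ x hx (h x hx)

theorem NoPair.of_exponent_two {T : Subgroup L} (h : ∀ x ∈ T, x * x = 1) : NoPair.{v, u} T :=
  fun _ _ _ _ _ _ hz _ x hx y hy => hz x hx (h x hx) y hy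

theorem mem_normalizer_of_equiv (e : L ≃* L') {T : Subgroup L} {T' : Subgroup L'}
    (he : T.map e.toMonoidHom = T') {n : L'} (hn : n ∈ normalizer (T' : Set L')) :
    e.symm n ∈ normalizer (T : Set L) := by
  have hmem : ∀ z : L, e z ∈ T' ↔ z ∈ T := fun z => by
    rw [← he, mem_map_equiv, MulEquiv.symm_apply_apply]
  refine mem_normalizer_iff.2 fun z => ?_
  rw [← hmem, ← hmem, mem_normalizer_iff.1 hn (e z)]
  simp

theorem SylFacts.of_mulEquiv (e : L ≃* L') {T : Subgroup L} {T' : Subgroup L'}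
    (he : T.map e.toMonoidHom = T') (h : SylFacts T') : SylFacts T := by
  have hmem : ∀ z : L, e z ∈ T' ↔ z ∈ T := fun z => by
    rw [← he, mem_map_equiv, MulEquiv.symm_apply_apply]
  have hsymm : ∀ z : L', z ∈ T' → e.symm z ∈ T := fun z hz => (hmem _).1 (by simpa using hz)
  have hsq : ∀ z : L, e z * e z = 1 ↔ z * z = 1 := fun z => by rw [← map_mul, map_eq_one_iff e e.injective]
  refine ⟨fun x hx y hy hxx => e.injective ?_, fun x hx y hy => e.injective ?_, ?_, fun K hK hinv hn => ?_,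
    fun φ h1 h2 h3 h4 x hx => ?_⟩
  · simpa using h.central _ ((hmem x).2 hx) _ ((hmem y).2 hy) ((hsq x).2 hxx)
  · simpa [commutatorElement_def] using h.comm_sq _ ((hmem x).2 hx) _ ((hmem y).2 hy)
  · rcases h.elem_or with h' | ⟨x, hx, y, hy, hne⟩
    · exact Or.inl fun x hx => (hsq x).1 (h' _ ((hmem x).2 hx))
    · exact Or.inr ⟨e.symm x, hsymm x hx, e.symm y, hsymm y hy, fun e' => hne (by simpa using congrArg e e')⟩
  · rcases h.irr (K.map e.toMonoidHom) (he ▸ map_mono hK)
      (fun x hx hxx => ⟨e.symm x, hinv _ (hsymm x hx) ((hsq _).1 (by simpa using hxx)), by simp⟩)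
      (fun n hn' k hk => by
        obtain ⟨k, hk', rfl⟩ := hk
        exact ⟨_, hn _ (mem_normalizer_of_equiv e he hn') k hk', by simp⟩) with h' | h'
    · exact Or.inl fun x hx => (hsq x).1 (h' _ (mem_map_of_mem _ hx))
    · exact Or.inr (map_injective e.injective (h'.trans he.symm))
  · have := h.noTwist (fun z => e (φ (e.symm z)))
      (fun z hz => ⟨(hmem _).2 (h1 _ (hsymm z hz)).1, (hsq _).2 (h1 _ (hsymm z hz)).2⟩)
      (fun z hz w hw => by simp only [map_mul, h2 _ (hsymm z hz) _ (hsymm w hw)])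
      (fun z hz hzz => by simp only [h3 _ (hsymm z hz) ((hsq _).1 (by simpa using hzz)), map_one])
      (fun n hn z hz => by
        have := h4 _ (mem_normalizer_of_equiv e he hn) _ (hsymm z hz)
        simp only [map_mul, map_inv] at this ⊢
        rw [this]
        simp)
      (e x) ((hmem x).2 hx)
    simpa using this

theorem NoPair.of_mulEquiv (e : L ≃* L') {T : Subgroup L} {T' : Subgroup L'}
    (he : T.map e.toMonoidHom = T') (h : NoPair.{w, u} T') : NoPair.{v, u} T := by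
  have hmem : ∀ z : L, e z ∈ T' ↔ z ∈ T := fun z => by
    rw [← he, mem_map_equiv, MulEquiv.symm_apply_apply]
  have hsymm : ∀ z : L', z ∈ T' → e.symm z ∈ T := fun z hz => (hmem _).1 (by simpa using hz)
  intro R _ β b1 b2 b3 b4 b5 x hx y hy
  have := h R (fun z w => β (e.symm z) (e.symm w))
    (fun a ha b hb c hc => by simpa using b1 _ (hsymm a ha) _ (hsymm b hb) _ (hsymm c hc))
    (fun a ha b hb => b2 _ (hsymm a ha) _ (hsymm b hb)) (fun a ha => b3 _ (hsymm a ha))
    (fun a ha haa b hb => b4 _ (hsymm a ha) (by rw [← map_mul, haa, map_one]) _ (hsymm b hb))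
    (fun n hn a ha b hb => by
      simpa using b5 _ (mem_normalizer_of_equiv e he hn) _ (hsymm a ha) _ (hsymm b hb))
    (e x) ((hmem x).2 hx) (e y) ((hmem y).2 hy)
  simpa using this

/-- The facts are independent of the Sylow subgroup. -/
theorem sylFacts_of_one [Finite L] (T₀ : Sylow 2 L) (h : SylFacts (T₀ : Subgroup L)) (T : Sylow 2 L) :
    SylFacts (T : Subgroup L) ∧ ((NoPair.{v, u} (T₀ : Subgroup L)) → NoPair.{v, u} (T : Subgroup L)) := by
  haveI := Fact.mk Nat.prime_two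
  obtain ⟨g, hg⟩ := MulAction.exists_smul_eq L T T₀
  have he : (T : Subgroup L).map (MulAut.conj g : L ≃* L).toMonoidHom = (T₀ : Subgroup L) := by
    rw [← hg]
    rfl
  exact ⟨h.of_mulEquiv _ he, fun h' => h'.of_mulEquiv _ he⟩

end CfsgLib.TwoFusion.StructGold
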