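import Cfsg.Agent.Lib.TwoFusion.StructGold.Socle
import Cfsg.Agent.Lib.ThreePrime.Comp.Basic
import Cfsg.Prelude.Def_PLocal
import Mathlib.GroupTheory.SchurZassenhaus

/-!
Owner: helper7. S2775 from the inputs `GoldschmidtInput` and `WalterList`: the structure of a group generated
by the conjugates of a strongly closed abelian subgroup of a Sylow 2-subgroup.
-/

set_option autoImplicit false
set_option linter.unusedSectionVars false
set_option linter.style.haveILetI false

namespace CfsgLib.TwoFusion.StructGold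

open Subgroup Cfsg
open scoped commutatorElement

universe u

variable {G : Type u} [Group G] [Finite G]

/-- A central 2-subgroup adds nothing to the odd core. -/
theorem pPrimeCore_quotient_central {Z : Subgroup G} [Z.Normal] (hZc : Z ≤ center G) (hZ : IsPGroup 2 Z)
    (hO : pPrimeCore 2 G = ⊥) : pPrimeCore 2 (G ⧸ Z) = ⊥ := by
  haveI := Fact.mk Nat.prime_two
  set N := (pPrimeCore 2 (G ⧸ Z)).comap (QuotientGroup.mk' Z) with hN
  have hZN : Z ≤ N := fun z hz => by
    rw [hN, mem_comap, show QuotientGroup.mk' Z z = 1 from (QuotientGroup.eq_one_iff z).2 hz]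
    exact one_mem _
  haveI hNn : N.Normal := inferInstanceAs ((pPrimeCore 2 (G ⧸ Z)).comap _).Normal
  set Z' := Z.subgroupOf N
  haveI : Z'.Normal := (inferInstance : Z.Normal).subgroupOf N
  have hidx : Z'.index = Nat.card (pPrimeCore 2 (G ⧸ Z)) := by
    have h1 := Z'.card_mul_index
    rw [Nat.card_congr (subgroupOfEquivOfLe hZN).toEquiv,
      show Nat.card N = Nat.card Z * Nat.card (pPrimeCore 2 (G ⧸ Z)) from CfsgLib.Core.card_comap_mk' _ _] at h1
    exact Nat.eq_of_mul_eq_mul_left Nat.card_pos h1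
  obtain ⟨i, hi⟩ := hZ.exists_card_eq
  obtain ⟨R, hR⟩ := exists_right_complement'_of_coprime (N := Z') (by
    rw [hidx, Nat.card_congr (subgroupOfEquivOfLe hZN).toEquiv, hi]
    exact ((CfsgLib.Core.coprime_card_pPrimeCore 2 (G ⧸ Z)).symm).pow_left i)
  have hRc : Nat.card R = Nat.card (pPrimeCore 2 (G ⧸ Z)) := by rw [← hR.symm.index_eq_card, hidx]
  haveI hRn : R.Normal := by
    refine ⟨fun r hr x => ?_⟩
    obtain ⟨⟨z, r'⟩, hzr, -⟩ := hR.existsUnique x
    dsimp at hzr
    rw [← hzr]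
    have hz : ∀ y : N, Commute ((z : N)) y := fun y => Subtype.ext (mem_center_iff.1 (hZc z.2) y).symm
    rw [show (z : N) * r' * r * ((z : N) * r')⁻¹ = z * ((r' : N) * r * (r' : N)⁻¹) * (z : N)⁻¹ by group,
      (hz _).eq, mul_inv_cancel_right]
    exact mul_mem (mul_mem r'.2 hr) (inv_mem r'.2)
  have h1 : R ≤ pPrimeCore 2 N := CfsgLib.Core.le_pPrimeCore (hRc ▸ CfsgLib.Core.coprime_card_pPrimeCore 2 _)
  have h2 : R = ⊥ := by
    refine (map_eq_bot_iff_of_injective _ N.subtype_injective).1 (le_bot_iff.1 ?_)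
    exact (map_mono h1).trans ((CfsgLib.Core.map_subtype_pPrimeCore_le (p := 2) N).trans hO.le)
  rw [h2, card_bot] at hRc
  exact card_eq_one.1 hRc.symm

variable {S : Sylow 2 G} {A : Subgroup G}

theorem Closed.normalClosure_map (_h : Closed S A) {K : Type u} [Group K] (f : G →* K) (hf : Function.Surjective f)
    (hgen : normalClosure (A : Set G) = ⊤) : normalClosure ((A.map f : Subgroup K) : Set K) = ⊤ := by
  rw [coe_map, ← map_normalClosure _ f hf, hgen, map_top_of_surjective f hf]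

/-- Distinct nontrivial elements of a factor. -/
theorem Decomp.exists_third (h : Closed S A) (D : Decomp S A) (i : Fin D.n) (z : G) :
    ∃ w ∈ A ⊓ D.L i, w ≠ 1 ∧ w ≠ z := by
  haveI := Fact.mk Nat.prime_two
  haveI := D.normal i
  obtain ⟨s, t, hs, ht, hne, hst⟩ := (D.good i).two
  obtain ⟨Q, hQ⟩ := exists_sylow_subgroupOf S (D.L i)
  have hp : IsPGroup 2 ↥(closure ({s, t} : Set (D.L i))) := by
    have hst' : Commute s t := hst
    have hs2 : s * s = 1 := by rw [← pow_two, ← hs, pow_orderOf_eq_one]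
    have ht2 : t * t = 1 := by rw [← pow_two, ← ht, pow_orderOf_eq_one]
    intro x
    refine ⟨1, Subtype.ext ?_⟩
    show (x : D.L i) ^ (2 ^ 1) = 1
    have key : ∀ y ∈ closure ({s, t} : Set (D.L i)), Commute y s ∧ Commute y t ∧ y * y = 1 := by
      intro y hy
      induction hy using closure_induction with
      | mem y hy =>
        rcases hy with rfl | rfl
        · exact ⟨Commute.refl _, hst', hs2⟩
        · exact ⟨hst'.symm, Commute.refl _, ht2⟩
      | one => exact ⟨Commute.one_left _, Commute.one_left _, one_mul 1⟩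
      | mul y w hy hw hy' hw' =>
        refine ⟨hy'.1.mul_left hw'.1, hy'.2.1.mul_left hw'.2.1, ?_⟩
        have hyw : Commute y w := by
          have : closure ({s, t} : Set (D.L i)) ≤ centralizer ({y} : Set (D.L i)) := by
            rw [closure_le]
            rintro v (rfl | rfl)
            · exact mem_centralizer_singleton_iff.2 hy'.1.symm.eq
            · exact mem_centralizer_singleton_iff.2 hy'.2.1.symm.eq
          exact (mem_centralizer_singleton_iff.1 (this hw)).symm
        rw [mul_mul_mul_comm' hyw, hy'.2.2, hw'.2.2, one_mul]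
      | inv y hy hy' => exact ⟨hy'.1.inv_left, hy'.2.1.inv_left, by rw [← mul_inv_rev, hy'.2.2, inv_one]⟩
    rw [pow_one, pow_two]
    exact (key x x.2).2.2
  obtain ⟨P, hP⟩ := hp.exists_le_sylow
  obtain ⟨g, hg⟩ := MulAction.exists_smul_eq (D.L i) P Q
  have hmem : ∀ x ∈ ({s, t} : Set (D.L i)), orderOf x = 2 →
      ((g * x * g⁻¹ : D.L i) : G) ∈ A ⊓ D.L i ∧ ((g * x * g⁻¹ : D.L i) : G) ≠ 1 := by
    intro x hx hx2
    have h1 : g * x * g⁻¹ ∈ (Q : Subgroup (D.L i)) := by
      rw [← hg, Sylow.coe_subgroup_smul]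
      exact Subgroup.smul_mem_pointwise_smul x (MulAut.conj g) _ (hP (subset_closure hx))
    rw [hQ] at h1
    refine ⟨(h.inf_eq (D.good i) (D.meets i)).2 ⟨h1, (g * x * g⁻¹).2, ?_⟩, fun e => ?_⟩
    · have hxx : x * x = 1 := by rw [← pow_two, ← hx2, pow_orderOf_eq_one]
      have e : (g * x * g⁻¹) * (g * x * g⁻¹) = 1 := by
        calc (g * x * g⁻¹) * (g * x * g⁻¹) = g * (x * x) * g⁻¹ := by group
          _ = 1 := by rw [hxx]; group
      exact congrArg Subtype.val e
    · have e' : g * x * g⁻¹ = 1 := Subtype.ext e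
      rw [conj_eq_one_iff] at e'
      rw [e', orderOf_one] at hx2
      omega
  obtain ⟨h1, h1'⟩ := hmem s (Set.mem_insert _ _) hs
  obtain ⟨h2, h2'⟩ := hmem t (Set.mem_insert_of_mem _ rfl) ht
  by_cases he : ((g * s * g⁻¹ : D.L i) : G) = z
  · refine ⟨_, h2, h2', fun e => hne ?_⟩
    have e2 : g * s * g⁻¹ = g * t * g⁻¹ := Subtype.ext (he.trans e.symm)
    simpa using e2
  · exact ⟨_, h1, h1', he⟩
where
  mul_mul_mul_comm' {M : Type u} [Group M] {y w : M} (h : Commute y w) : y * w * (y * w) = y * y * (w * w) := by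
    rw [mul_assoc, ← mul_assoc w y w, ← h.eq]; group

/-- The factors are perfect. -/
theorem Decomp.commutator_eq (D : Decomp S A) (i : Fin D.n) : ⁅D.L i, D.L i⁆ = D.L i := by
  haveI := D.simple i
  rcases IsSimpleGroup.eq_bot_or_eq_top_of_normal (commutator (D.L i)) inferInstance with h | h
  · refine absurd ?_ (D.noncomm i)
    rw [commutator_def, commutator_eq_bot_iff_le_centralizer] at h
    exact ⟨⟨fun a b => mem_centralizer_iff.1 (h (mem_top b)) a (mem_top a)⟩⟩
  · rw [← map_subtype_commutator, h, ← MonoidHom.range_eq_map, range_subtype]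

/-- If the 2-core meets `A` trivially it is trivial, given the decomposition of the quotient. -/
theorem Closed.pCore_eq_bot_of_decomp (h : Closed S A) (hgen : normalClosure (A : Set G) = ⊤)
    (hAR : A ⊓ pCore 2 G = ⊥)
    (hdec : pCore 2 G ≤ center G → Nonempty (Decomp (S.mapSurjective (QuotientGroup.mk'_surjective (pCore 2 G)))
      (A.map (QuotientGroup.mk' (pCore 2 G))))) : pCore 2 G = ⊥ := by
  classical
  haveI := Fact.mk Nat.prime_two
  set R := pCore 2 G with hR
  have hRS : R ≤ (S : Subgroup G) := CfsgLib.Core.pCore_le_sylow S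
  have hRc : R ≤ center G := by
    intro r hr
    refine mem_center_iff.2 fun g => ?_
    have h1 : A ≤ centralizer (R : Set G) := fun a ha => mem_centralizer_iff.2 fun r hr => by
      have hm : r * a * r⁻¹ * a⁻¹ ∈ A ⊓ R := ⟨A.mul_mem (h.sylow_conj_mem (hRS hr) ha) (A.inv_mem ha), by
        rw [show r * a * r⁻¹ * a⁻¹ = r * (a * r⁻¹ * a⁻¹) by group]
        exact R.mul_mem hr ((inferInstance : R.Normal).conj_mem _ (R.inv_mem hr) a)⟩
      rw [hAR, mem_bot] at hm
      exact mul_inv_eq_iff_eq_mul.1 (mul_inv_eq_one.1 hm)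
    have h2 : (⊤ : Subgroup G) ≤ centralizer (R : Set G) := hgen ▸ normalClosure_le_normal h1
    exact (mem_centralizer_iff.1 (h2 (mem_top g)) r hr).symm
  set π := QuotientGroup.mk' R with hπdef
  have hπ : Function.Surjective π := QuotientGroup.mk'_surjective R
  have hker : π.ker = R := QuotientGroup.ker_mk' R
  have hcl := h.map π hπ (hker.le.trans hRS)
  obtain ⟨D⟩ := hdec hRc
  have hpre : ∀ x : G, π x ∈ ((S.mapSurjective hπ : Sylow 2 _) : Subgroup (G ⧸ R)) → x ∈ (S : Subgroup G) := by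
    intro x hx
    rw [Sylow.coe_mapSurjective] at hx
    obtain ⟨s, hs, hse⟩ := hx
    have hd : s⁻¹ * x ∈ R := QuotientGroup.eq.1 hse
    simpa using mul_mem hs (hRS hd)
  have hone : ∀ a ∈ A, π a = 1 → a = 1 := fun a ha he => by
    have hm : a ∈ A ⊓ R := ⟨ha, (QuotientGroup.eq_one_iff a).1 he⟩
    rwa [hAR, mem_bot] at hm
  have hinjA : ∀ a ∈ A, ∀ b ∈ A, π a = π b → a = b := fun a ha b hb e =>
    mul_inv_eq_one.1 (hone _ (mul_mem ha (inv_mem hb)) (by rw [map_mul, map_inv, e, mul_inv_cancel]))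
  -- `A` lies in the derived subgroup
  have hA' : A ≤ commutator G := by
    intro a ha
    have hle : ⨆ i, A.map π ⊓ D.L i ≤ (A ⊓ commutator G).map π := by
      refine iSup_le fun i z hz => ?_
      by_cases hz1 : z = 1
      · exact hz1 ▸ one_mem _
      obtain ⟨w, hw, hw1, hwz⟩ := D.exists_third hcl i z
      obtain ⟨a, ha, rfl⟩ := hz.1
      obtain ⟨b, hb, rfl⟩ := hw.1
      refine mem_map_of_mem _ ⟨ha, ?_⟩
      haveI := D.normal i
      have hinv : ∀ c ∈ A, π c ∈ D.L i → π c ≠ 1 → ∃ hc : π c ∈ D.L i, orderOf (⟨π c, hc⟩ : D.L i) = 2 := by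
        intro c hc hcL hc1
        refine ⟨hcL, orderOf_eq_prime ?_ fun e => hc1 (congrArg Subtype.val e)⟩
        exact Subtype.ext (by
          show π c ^ 2 = 1
          rw [pow_two]
          exact ((hcl.inf_eq (D.good i) (D.meets i)).1 ⟨mem_map_of_mem _ hc, hcL⟩).2.2)
      have hconj : ∀ c ∈ A, π c ∈ D.L i → π c ≠ 1 → Abelianization.of c = Abelianization.of a := by
        intro c hc hcL hc1
        obtain ⟨_, hc2⟩ := hinv c hc hcL hc1
        obtain ⟨_, ha2⟩ := hinv a ha hz.2 hz1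
        obtain ⟨g, hg⟩ := isConj_iff.1 ((D.good i).conj _ _ ha2 hc2)
        obtain ⟨g', hg'⟩ := hπ g
        have hg2 : π (g' * a * g'⁻¹) = π c := by
          rw [map_mul, map_mul, map_inv, hg']
          exact congrArg Subtype.val hg
        have hm : g' * a * g'⁻¹ ∈ A := h.conj_mem ha (hpre _ (by
          rw [hg2, Sylow.coe_mapSurjective]
          exact mem_map_of_mem _ (h.le hc)))
        rw [← hinjA _ hm c hc hg2, map_mul, map_mul, map_inv, mul_inv_cancel_comm]
      have e1 := hconj b hb hw.2 hw1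
      have e2 := hconj (a * b) (mul_mem ha hb) (by rw [map_mul]; exact mul_mem hz.2 hw.2) (fun e => hwz (by
        rw [map_mul, mul_eq_one_iff_eq_inv] at e
        have hbb : π b * π b = 1 := ((hcl.inf_eq (D.good i) (D.meets i)).1 hw).2.2
        rw [e, inv_eq_of_mul_eq_one_right hbb]))
      rw [map_mul, e1, mul_eq_left] at e2
      exact (QuotientGroup.eq_one_iff a).1 e2
    obtain ⟨b, hb, hbe⟩ := hle (D.le_sup (mem_map_of_mem π ha))
    exact hinjA b hb.1 a ha hbe ▸ hb.2
  have hperf : commutator G = ⊤ := top_le_iff.1 (hgen ▸ normalClosure_le_normal hA')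
  -- the perfect preimages of the factors
  let E : Fin D.n → Subgroup G := fun i => (D.L i).comap π
  let P : Fin D.n → Subgroup G := fun i => ⁅E i, E i⁆
  have hEn : ∀ i, (E i).Normal := fun i => (D.normal i).comap π
  have hPn : ∀ i, (P i).Normal := fun i => haveI := hEn i; Subgroup.commutator_normal _ _
  have hPE : ∀ i, P i ≤ E i := fun i => commutator_le_self _
  have hPmap : ∀ i, (P i).map π = D.L i := fun i => by
    rw [map_commutator, map_comap_eq_self_of_surjective hπ, D.commutator_eq i]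
  have hsplit : ∀ i, ∀ e ∈ E i, ∃ d ∈ P i, ∃ r ∈ R, e = d * r := fun i e he => by
    obtain ⟨d, hd, hde⟩ : π e ∈ (P i).map π := hPmap i ▸ he
    exact ⟨d, hd, d⁻¹ * e, QuotientGroup.eq.1 hde, by group⟩
  have hcommEq : ∀ {d d' r r' : G}, r ∈ R → r' ∈ R → ⁅d * r, d' * r'⁆ = ⁅d, d'⁆ := by
    intro d d' r r' hr hr'
    have e1 := mem_center_iff.1 (hRc hr)
    have e2 := mem_center_iff.1 (hRc hr')
    rw [commutatorElement_def, commutatorElement_def]
    calc d * r * (d' * r') * (d * r)⁻¹ * (d' * r')⁻¹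
        = d * ((r * (d' * r' * r⁻¹)) * d⁻¹) * (r'⁻¹ * d'⁻¹) := by group
      _ = d * ((d' * r' * r⁻¹ * r) * d⁻¹) * (r'⁻¹ * d'⁻¹) := by rw [← e1 (d' * r' * r⁻¹)]
      _ = d * d' * (r' * d⁻¹) * (r'⁻¹ * d'⁻¹) := by group
      _ = d * d' * (d⁻¹ * r') * (r'⁻¹ * d'⁻¹) := by rw [← e2 d⁻¹]
      _ = d * d' * d⁻¹ * d'⁻¹ := by group
  have hPperf : ∀ i, ⁅P i, P i⁆ = P i := fun i => by
    refine le_antisymm (commutator_le_self _) ?_
    show ⁅E i, E i⁆ ≤ _
    rw [commutator_le]
    intro x hx y hy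
    obtain ⟨d, hd, r, hr, rfl⟩ := hsplit i x hx
    obtain ⟨d', hd', r', hr', rfl⟩ := hsplit i y hy
    rw [hcommEq hr hr']
    exact commutator_mem_commutator hd hd'
  -- each kernel is trivial
  have hkerP : ∀ i, ∀ r ∈ R, r ∈ P i → r = 1 := by
    intro i r hr hrP
    haveI := hPn i
    haveI := D.normal i
    obtain ⟨QP, hQP⟩ := exists_sylow_subgroupOf S (P i)
    obtain ⟨QL, hQL⟩ := exists_sylow_subgroupOf (S.mapSurjective hπ) (D.L i)
    obtain ⟨hf, hcase⟩ := (D.good i).syl QL
    have hperfP : commutator ↥(P i) = ⊤ := by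
      refine map_injective (P i).subtype_injective ?_
      rw [map_subtype_commutator, hPperf, ← MonoidHom.range_eq_map, range_subtype]
    rcases hcase with hcov | hpair
    · let σ : ↥(P i) →* ↥(D.L i) := (π.comp (P i).subtype).codRestrict _ fun x => hPE i x.2
      have hσ : Function.Surjective σ := fun y => by
        obtain ⟨x, hx, hxe⟩ : (y : G ⧸ R) ∈ (P i).map π := (hPmap i).symm ▸ y.2
        exact ⟨⟨x, hx⟩, Subtype.ext hxe⟩
      have hmemk : ∀ x : P i, x ∈ σ.ker → (x : G) ∈ R := fun x hx =>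
        (QuotientGroup.eq_one_iff _).1 (congrArg Subtype.val (MonoidHom.mem_ker.1 hx) :)
      have hkc : σ.ker ≤ center ↥(P i) := fun x hx => mem_center_iff.2 fun y =>
        Subtype.ext (mem_center_iff.1 (hRc (hmemk x hx)) y)
      have hodd := hcov ↥(P i) σ (Group.isPerfect_def.2 hperfP) hσ hkc
      have hk : (⟨r, hrP⟩ : P i) ∈ σ.ker := MonoidHom.mem_ker.2 (Subtype.ext ((QuotientGroup.eq_one_iff r).2 hr))
      have hord : orderOf r ∣ Nat.card σ.ker := by
        rw [← Subgroup.orderOf_mk r hrP]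
        exact Subgroup.orderOf_dvd_natCard _ hk
      obtain ⟨k, hk2⟩ := IsPGroup.iff_orderOf.1 (CfsgLib.Core.isPGroup_pCore 2 G) ⟨r, hr⟩
      rw [Subgroup.orderOf_mk] at hk2
      rw [hk2] at hord
      rw [← orderOf_eq_one_iff, hk2]
      exact Nat.eq_one_of_dvd_coprimes ((Nat.coprime_two_left.2 hodd).pow_left k) dvd_rfl hord
    · -- the commutators of `S ∩ E` lie in `A`
      letI : CommGroup R := { (inferInstance : Group R) with
        mul_comm := fun a b => Subtype.ext (mem_center_iff.1 (hRc b.2) a) }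
      have hmemQ : ∀ y : D.L i, y ∈ (QL : Subgroup (D.L i)) ↔
          (y : G ⧸ R) ∈ ((S.mapSurjective hπ : Sylow 2 _) : Subgroup (G ⧸ R)) := fun y => by rw [hQL]; rfl
      have hAbar : ∀ {z : G ⧸ R}, z ∈ A.map π → ∀ {t : G ⧸ R}, t ∈ D.L i →
          t ∈ ((S.mapSurjective hπ : Sylow 2 _) : Subgroup (G ⧸ R)) → Commute z t := by
        intro z hz t htL htS
        have hle : (⨆ j, A.map π ⊓ D.L j) ≤ centralizer ({t} : Set (G ⧸ R)) := iSup_le fun j w hw => by
          refine mem_centralizer_singleton_iff.2 ?_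
          by_cases hji : j = i
          · subst hji
            obtain ⟨hwS, hwL, hww⟩ := (hcl.inf_eq (D.good j) (D.meets j)).1 hw
            exact (congrArg Subtype.val (hf.central ⟨w, hwL⟩ ((hmemQ _).2 hwS) ⟨t, htL⟩ ((hmemQ _).2 htS)
              (Subtype.ext hww)) :)
          · exact (D.commute hji hw.2 htL).eq
        exact mem_centralizer_singleton_iff.1 (hle (D.le_sup hz))
      have hAu : ∀ {a : G}, a ∈ A → ∀ {u : G}, u ∈ (S : Subgroup G) → u ∈ E i → Commute u a := by
        intro a ha u huS huE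
        have hc := hAbar (mem_map_of_mem π ha) huE (by rw [Sylow.coe_mapSurjective]; exact mem_map_of_mem _ huS)
        exact mul_inv_eq_iff_eq_mul.1 (hinjA _ (h.sylow_conj_mem huS ha) a ha (by
          rw [map_mul, map_mul, map_inv, ← hc.eq, mul_inv_cancel_right]))
      have hdec : ∀ {x y : G}, x ∈ (S : Subgroup G) → x ∈ E i → y ∈ (S : Subgroup G) → y ∈ E i →
          ∃ a ∈ A, ∃ s ∈ R, ⁅x, y⁆ = a * s := by
        intro x y hxS hxE hyS hyE
        have hcS : ⁅x, y⁆ ∈ (S : Subgroup G) := mul_mem (mul_mem (mul_mem hxS hyS) (inv_mem hxS)) (inv_mem hyS)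
        have hm := D.inv_le (π ⁅x, y⁆) (by rw [Sylow.coe_mapSurjective]; exact mem_map_of_mem _ hcS) (by
          have hxQ : (⟨π x, hxE⟩ : D.L i) ∈ (QL : Subgroup (D.L i)) :=
            (hmemQ _).2 (by rw [Sylow.coe_mapSurjective]; exact mem_map_of_mem _ hxS)
          have hyQ : (⟨π y, hyE⟩ : D.L i) ∈ (QL : Subgroup (D.L i)) :=
            (hmemQ _).2 (by rw [Sylow.coe_mapSurjective]; exact mem_map_of_mem _ hyS)
          rw [map_commutatorElement]
          exact congrArg Subtype.val (hf.comm_sq _ hxQ _ hyQ))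
        obtain ⟨a, ha, hae⟩ := hm
        exact ⟨a, ha, a⁻¹ * ⁅x, y⁆, QuotientGroup.eq.1 hae, by group⟩
      have huniq : ∀ {a a' s s' : G}, a ∈ A → a' ∈ A → s ∈ R → s' ∈ R → a * s = a' * s' → s = s' := by
        intro a a' s s' ha ha' hs hs' e
        have e' : a = a' := hinjA a ha a' ha' (by
          have := congrArg π e
          rwa [map_mul, map_mul, show π s = 1 from (QuotientGroup.eq_one_iff s).2 hs,
            show π s' = 1 from (QuotientGroup.eq_one_iff s').2 hs',
            mul_one, mul_one] at this)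
        subst e'
        exact mul_left_cancel e
      let ρ : G → R := fun c => if hc : ∃ s : R, c * (s : G)⁻¹ ∈ A then hc.choose else 1
      have hρ : ∀ {c a s : G}, a ∈ A → (hs : s ∈ R) → c = a * s → ρ c = ⟨s, hs⟩ := by
        intro c a s ha hs e
        have hex : ∃ s : R, c * (s : G)⁻¹ ∈ A := ⟨⟨s, hs⟩, by rw [e, mul_inv_cancel_right]; exact ha⟩
        simp only [ρ, dif_pos hex]
        exact Subtype.ext (huniq hex.choose_spec ha hex.choose.2 hs (by rw [inv_mul_cancel_right]; exact e))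
      let ℓ : G ⧸ R → G := Function.surjInv hπ
      have hℓ : ∀ {x : D.L i}, x ∈ (QL : Subgroup (D.L i)) → ℓ x ∈ (S : Subgroup G) ∧ ℓ x ∈ E i := fun {x} hx =>
        ⟨hpre _ (by rw [Function.surjInv_eq hπ]; exact (hmemQ x).1 hx), by
          show π (ℓ x) ∈ D.L i
          rw [Function.surjInv_eq hπ]; exact x.2⟩
      let β : D.L i → D.L i → R := fun x y => ρ ⁅ℓ x, ℓ y⁆
      have hβ : ∀ {x y : D.L i} {u v : G}, π u = x → π v = y → ⁅ℓ x, ℓ y⁆ = ⁅u, v⁆ := fun {x y u v} hu hv => by
        have e1 : u⁻¹ * ℓ x ∈ R := QuotientGroup.eq.1 (hu.trans (Function.surjInv_eq hπ _).symm)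
        have e2 : v⁻¹ * ℓ y ∈ R := QuotientGroup.eq.1 (hv.trans (Function.surjInv_eq hπ _).symm)
        conv_lhs => rw [← mul_inv_cancel_left u (ℓ x), ← mul_inv_cancel_left v (ℓ y)]
        exact hcommEq e1 e2
      have hzero := hpair R β ?_ ?_ ?_ ?_ ?_
      · have hle : ⁅(QP : Subgroup (P i)), (QP : Subgroup (P i))⁆ ≤ A.subgroupOf (P i) := by
          rw [commutator_le]
          intro x hx y hy
          rw [hQP] at hx hy
          show ((⁅x, y⁆ : P i) : G) ∈ A
          have hxE := hPE i x.2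
          have hyE := hPE i y.2
          obtain ⟨a, ha, s, hs, he⟩ := hdec (x := (x : G)) (y := (y : G)) hx hxE hy hyE
          have hxQ : (⟨π x, hxE⟩ : D.L i) ∈ (QL : Subgroup (D.L i)) :=
            (hmemQ _).2 (by rw [Sylow.coe_mapSurjective]; exact mem_map_of_mem _ hx)
          have hyQ : (⟨π y, hyE⟩ : D.L i) ∈ (QL : Subgroup (D.L i)) :=
            (hmemQ _).2 (by rw [Sylow.coe_mapSurjective]; exact mem_map_of_mem _ hy)
          have h0 := hzero _ hxQ _ hyQ
          have e : ρ ⁅ℓ (π x), ℓ (π y)⁆ = ⟨s, hs⟩ := by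
            rw [hβ (x := ⟨π x, hxE⟩) (y := ⟨π y, hyE⟩) (u := x) (v := y) rfl rfl]
            exact hρ ha hs he
          have hs1 : s = 1 := congrArg Subtype.val (e.symm.trans h0)
          show ⁅(x : G), (y : G)⁆ ∈ A
          rw [he, hs1, mul_one]
          exact ha
        have hm := CfsgLib.ThreePrime.Comp.center_le_commutator_sylow hperfP QP (z := ⟨r, hrP⟩)
          (mem_center_iff.2 fun y => Subtype.ext (mem_center_iff.1 (hRc hr) y)) (by rw [hQP]; exact hRS hr)
        have hrA : r ∈ A := hle hm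
        exact hone r hrA ((QuotientGroup.eq_one_iff r).2 hr)
      · intro x hx y hy w hw
        obtain ⟨hxS, hxE⟩ := hℓ hx
        obtain ⟨hyS, hyE⟩ := hℓ hy
        obtain ⟨hwS, hwE⟩ := hℓ hw
        obtain ⟨a, ha, s, hs, he⟩ := hdec hxS hxE hwS hwE
        obtain ⟨a', ha', s', hs', he'⟩ := hdec hyS hyE hwS hwE
        show ρ ⁅ℓ ((x * y : D.L i) : G ⧸ R), ℓ w⁆ = ρ ⁅ℓ x, ℓ w⁆ * ρ ⁅ℓ y, ℓ w⁆
        rw [hβ (x := x * y) (y := w) (u := ℓ x * ℓ y) (v := ℓ w) (by
          rw [map_mul, Function.surjInv_eq hπ, Function.surjInv_eq hπ]; rfl) (Function.surjInv_eq hπ _),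
          hρ ha hs he, hρ ha' hs' he']
        refine hρ (mul_mem ha' ha) (mul_mem hs hs') ?_
        have e0 : ⁅ℓ x * ℓ y, ℓ w⁆ = ℓ x * ⁅ℓ y, ℓ w⁆ * (ℓ x)⁻¹ * ⁅ℓ x, ℓ w⁆ := by
          rw [commutatorElement_def, commutatorElement_def, commutatorElement_def]; group
        rw [e0, he, he']
        have c1 := mem_center_iff.1 (hRc hs')
        calc ℓ x * (a' * s') * (ℓ x)⁻¹ * (a * s) = (ℓ x * a') * (s' * (ℓ x)⁻¹) * (a * s) := by group
          _ = (a' * ℓ x) * ((ℓ x)⁻¹ * s') * (a * s) := by rw [(hAu ha' hxS hxE).eq, c1]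
          _ = a' * (s' * a) * s := by group
          _ = a' * (a * s') * s := by rw [c1]
          _ = a' * a * (s * s') := by rw [← mul_assoc, mul_assoc (a' * a), ← c1 s]
      · intro x hx y hy
        obtain ⟨hxS, hxE⟩ := hℓ hx
        obtain ⟨hyS, hyE⟩ := hℓ hy
        obtain ⟨a, ha, s, hs, he⟩ := hdec hxS hxE hyS hyE
        show ρ ⁅ℓ y, ℓ x⁆ = (ρ ⁅ℓ x, ℓ y⁆)⁻¹
        rw [← commutatorElement_inv (ℓ x) (ℓ y), hρ ha hs he]
        refine hρ (inv_mem ha) (inv_mem hs) ?_
        rw [he, mul_inv_rev, ← mem_center_iff.1 (inv_mem (hRc hs))]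
      · intro x hx
        show ρ ⁅ℓ x, ℓ x⁆ = 1
        exact hρ (one_mem A) (one_mem R) (by rw [commutatorElement_self, mul_one])
      · intro x hx hxx y hy
        obtain ⟨hyS, hyE⟩ := hℓ hy
        obtain ⟨hxA, -⟩ := (hcl.inf_eq (D.good i) (D.meets i)).2 ⟨(hmemQ x).1 hx, x.2, congrArg Subtype.val hxx⟩
        obtain ⟨a, ha, hae⟩ := hxA
        show ρ ⁅ℓ x, ℓ y⁆ = 1
        rw [hβ (x := x) (y := y) (u := a) (v := ℓ y) hae (Function.surjInv_eq hπ _)]
        exact hρ (one_mem A) (one_mem R) (by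
          rw [mul_one, commutatorElement_eq_one_iff_commute.2 (hAu ha hyS hyE).symm])
      · intro n hn x hx y hy
        obtain ⟨hxS, hxE⟩ := hℓ hx
        obtain ⟨hyS, hyE⟩ := hℓ hy
        obtain ⟨a, ha, s, hs, he⟩ := hdec hxS hxE hyS hyE
        show ρ ⁅ℓ ((n * x * n⁻¹ : D.L i) : G ⧸ R), ℓ ((n * y * n⁻¹ : D.L i) : G ⧸ R)⁆ = ρ ⁅ℓ x, ℓ y⁆
        rw [hβ (x := n * x * n⁻¹) (y := n * y * n⁻¹) (u := ℓ n * ℓ x * (ℓ n)⁻¹) (v := ℓ n * ℓ y * (ℓ n)⁻¹)
          (by simp [map_mul, map_inv, ℓ, Function.surjInv_eq hπ]) (by simp [map_mul, map_inv, ℓ, Function.surjInv_eq hπ]),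
          hρ ha hs he]
        refine hρ (a := ℓ n * a * (ℓ n)⁻¹) ?_ hs ?_
        · refine h.conj_mem ha (hpre _ ?_)
          rw [map_mul, map_mul, map_inv, Function.surjInv_eq hπ]
          have hle : (⨆ j, A.map π ⊓ D.L j) ≤
              ((S.mapSurjective hπ : Sylow 2 _) : Subgroup (G ⧸ R)).comap (MulAut.conj (n : G ⧸ R)).toMonoidHom :=
            iSup_le fun j w hw => by
              rw [Subgroup.mem_comap, MulEquiv.coe_toMonoidHom, MulAut.conj_apply]
              by_cases hji : i = j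
              · subst hji
                obtain ⟨hwS, hwL, -⟩ := (hcl.inf_eq (D.good i) (D.meets i)).1 hw
                exact (hmemQ (n * ⟨w, hwL⟩ * n⁻¹)).1 ((mem_normalizer_iff.1 hn ⟨w, hwL⟩).1 ((hmemQ _).2 hwS))
              · rw [(D.commute hji n.2 hw.2).eq, mul_inv_cancel_right]
                exact hcl.le hw.1
          exact hle (D.le_sup (mem_map_of_mem π ha))
        · have e1 : ⁅ℓ n * ℓ x * (ℓ n)⁻¹, ℓ n * ℓ y * (ℓ n)⁻¹⁆ = ℓ n * ⁅ℓ x, ℓ y⁆ * (ℓ n)⁻¹ := by
            rw [commutatorElement_def, commutatorElement_def]; group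
          rw [e1, he, ← mul_assoc, mul_assoc (ℓ n * a), ← mem_center_iff.1 (hRc hs), ← mul_assoc]
  -- the preimages generate
  have hPEcomm : ∀ i j, i ≠ j → ∀ x ∈ P i, ∀ y ∈ E j, Commute x y := by
    intro i j hij x hx y hy
    let C : Subgroup G := centralizer ({y} : Set G)
    refine (mem_centralizer_singleton_iff.1 ((?_ : P i ≤ C) hx) :)
    show ⁅E i, E i⁆ ≤ C
    rw [commutator_le]
    intro u hu v hv
    have hsw : ∀ w ∈ E i, ∃ t ∈ R, y * w * y⁻¹ = t * w := fun w hw =>
      ⟨y * w * y⁻¹ * w⁻¹, (QuotientGroup.eq_one_iff _).1 (by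
        show π (y * w * y⁻¹ * w⁻¹) = 1
        rw [map_mul, map_mul, map_mul, map_inv, map_inv, (D.commute hij hw hy).symm.eq, mul_inv_cancel_right,
          mul_inv_cancel]), by group⟩
    obtain ⟨t, ht, htu⟩ := hsw u hu
    obtain ⟨t', ht', htv⟩ := hsw v hv
    refine mem_centralizer_singleton_iff.2 ?_
    have e1 : y * ⁅u, v⁆ * y⁻¹ = ⁅u, v⁆ := by
      rw [show y * ⁅u, v⁆ * y⁻¹ = ⁅y * u * y⁻¹, y * v * y⁻¹⁆ by
        rw [commutatorElement_def, commutatorElement_def]; group, htu, htv,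
        ← mem_center_iff.1 (hRc ht) u, ← mem_center_iff.1 (hRc ht') v, hcommEq ht ht']
    exact (mul_inv_eq_iff_eq_mul.1 e1).symm
  haveI hUn : (⨆ i, P i).Normal := by
    refine ⟨fun x hx g => ?_⟩
    have h1 : (⨆ i, P i).map (MulAut.conj g).toMonoidHom ≤ ⨆ i, P i := by
      rw [Subgroup.map_iSup]
      refine iSup_le fun i => ?_
      rintro _ ⟨y, hy, rfl⟩
      exact le_iSup P i ((hPn i).conj_mem y hy g)
    exact h1 (mem_map_of_mem _ hx)
  have hU : ⨆ i, P i = ⊤ := by
    rw [eq_top_iff, ← hperf, _root_.commutator_def, commutator_le]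
    intro x _ y _
    have hsp : ∀ g : G, ∃ d ∈ ⨆ i, P i, ∃ t ∈ R, g = d * t := fun g => by
      obtain ⟨d, hd, hde⟩ : π g ∈ (⨆ i, P i).map π := by
        rw [Subgroup.map_iSup]
        simp only [hPmap]
        rw [D.sup]
        exact mem_top _
      exact ⟨d, hd, d⁻¹ * g, QuotientGroup.eq.1 hde, by group⟩
    obtain ⟨d, hd, r, hr, rfl⟩ := hsp x
    obtain ⟨d', hd', r', hr', rfl⟩ := hsp y
    rw [hcommEq hr hr']
    exact mul_mem (mul_mem (mul_mem hd hd') (inv_mem hd)) (inv_mem hd')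
  have key : ∀ s : Finset (Fin D.n), ∀ y ∈ ⨆ i ∈ s, P i, π y = 1 → y = 1 := by
    intro s
    induction s using Finset.induction with
    | empty => intro y hy _; simpa using hy
    | @insert j s hj ih =>
      intro y hy hyr
      rw [Finset.iSup_insert] at hy
      haveI := hPn j
      have hy' : y ∈ ((P j ⊔ ⨆ i ∈ s, P i : Subgroup G) : Set G) := hy
      rw [normal_mul] at hy'
      obtain ⟨l, hl, w, hw, hlw⟩ := hy'
      have hlw' : l * w = y := hlw
      subst hlw'
      have hlL : π l ∈ D.L j := (hPmap j).le (mem_map_of_mem _ hl)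
      rw [map_mul] at hyr
      have hl1 : π l = 1 := D.center_factor j hlL (by
        rw [eq_inv_of_mul_eq_one_left hyr]
        refine inv_mem ?_
        refine (iSup₂_le fun i hi x hx => ?_ : ⨆ i ∈ s, P i ≤ (centralizer (D.L j : Set (G ⧸ R))).comap π) hw
        exact mem_centralizer_iff.2 fun u hu =>
          (D.commute (i := j) (j := i) (fun e => hj (e ▸ hi)) hu ((hPmap i).le (mem_map_of_mem _ hx))).eq)
      rw [hkerP j l ((QuotientGroup.eq_one_iff l).1 hl1) hl, one_mul]
      exact ih w hw (by rwa [hl1, one_mul] at hyr)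
  refine eq_bot_iff.2 fun r hr => mem_bot.2 (key Finset.univ r ?_ ((QuotientGroup.eq_one_iff r).2 hr))
  simp [hU]

/-- If the 2-core meets `A` trivially it is trivial. -/
theorem Closed.pCore_eq_bot (h : Closed S A) (hG : CfsgLib.SThreeFree.GoldschmidtInput.{u})
    (hW : CfsgLib.Walter.WalterList.{u}) (hgen : normalClosure (A : Set G) = ⊤) (hO : pPrimeCore 2 G = ⊥)
    (hAR : A ⊓ pCore 2 G = ⊥) : pCore 2 G = ⊥ := by
  haveI := Fact.mk Nat.prime_two
  refine h.pCore_eq_bot_of_decomp hgen hAR fun hRc => ?_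
  have hker : (QuotientGroup.mk' (pCore 2 G)).ker ≤ (S : Subgroup G) :=
    (QuotientGroup.ker_mk' _).le.trans (CfsgLib.Core.pCore_le_sylow S)
  exact (h.map _ (QuotientGroup.mk'_surjective _) hker).exists_decomp hG hW
    (h.normalClosure_map _ (QuotientGroup.mk'_surjective _) hgen)
    (pPrimeCore_quotient_central hRc (CfsgLib.Core.isPGroup_pCore 2 G) hO) (CfsgLib.Core.pCore_quotient_pCore 2 G)

/-- The 2-core lies in `A` and is central. -/
theorem Closed.pCore_le (h : Closed S A) (hG : CfsgLib.SThreeFree.GoldschmidtInput.{u})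
    (hW : CfsgLib.Walter.WalterList.{u}) (hgen : normalClosure (A : Set G) = ⊤) (hO : pPrimeCore 2 G = ⊥) :
    pCore 2 G ≤ A ∧ pCore 2 G ≤ center G := by
  haveI := Fact.mk Nat.prime_two
  set R := pCore 2 G with hR
  have hRS : R ≤ (S : Subgroup G) := CfsgLib.Core.pCore_le_sylow S
  set R₀ := A ⊓ R with hR₀
  have hR₀c : R₀ ≤ center G := by
    have hn : R₀.Normal := ⟨fun x hx g =>
      ⟨h.conj_mem hx.1 (hRS ((inferInstance : R.Normal).conj_mem x hx.2 g)),
        (inferInstance : R.Normal).conj_mem x hx.2 g⟩⟩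
    haveI := hn
    intro r hr
    refine mem_center_iff.2 fun g => ?_
    have h2 : (⊤ : Subgroup G) ≤ centralizer (R₀ : Set G) := hgen ▸ normalClosure_le_normal fun a ha =>
      mem_centralizer_iff.2 fun r hr => (h.commute hr.1 ha).eq
    exact (mem_centralizer_iff.1 (h2 (mem_top g)) r hr).symm
  haveI : R₀.Normal := ⟨fun x hx g => by rwa [mem_center_iff.1 (hR₀c hx) g, mul_inv_cancel_right]⟩
  have hker : (QuotientGroup.mk' R₀).ker ≤ (S : Subgroup G) :=
    (QuotientGroup.ker_mk' R₀).le.trans (inf_le_right.trans hRS)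
  have hsurj := QuotientGroup.mk'_surjective R₀
  have hp : IsPGroup 2 R₀ := (CfsgLib.Core.isPGroup_pCore 2 G).to_le inf_le_right
  have hcore : pCore 2 (G ⧸ R₀) = R.map (QuotientGroup.mk' R₀) := by
    refine le_antisymm ?_ (CfsgLib.Core.map_pCore_le _ hsurj)
    conv_lhs => rw [← map_comap_eq_self_of_surjective hsurj (pCore 2 (G ⧸ R₀))]
    exact map_mono (CfsgLib.Core.le_pCore ((CfsgLib.Core.isPGroup_pCore 2 _).comap_of_ker_isPGroup _
      (by rw [QuotientGroup.ker_mk']; exact hp)))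
  have hbot := (h.map _ hsurj hker).pCore_eq_bot hG hW (h.normalClosure_map _ hsurj hgen)
    (pPrimeCore_quotient_central hR₀c hp hO) (by
      rw [hcore, eq_bot_iff]
      rintro _ ⟨⟨a, ha, rfl⟩, r, hr, hre⟩
      have hd : r⁻¹ * a ∈ R₀ := QuotientGroup.eq.1 hre
      refine mem_bot.2 ((QuotientGroup.eq_one_iff a).2 ⟨ha, ?_⟩)
      simpa using R.mul_mem hr hd.2)
  rw [hcore, Subgroup.map_eq_bot_iff, QuotientGroup.ker_mk'] at hbot
  exact ⟨hbot.trans inf_le_left, hbot.trans hR₀c⟩

/-- The structure with trivial odd core. -/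
theorem Closed.structure_of_core (h : Closed S A) (hG : CfsgLib.SThreeFree.GoldschmidtInput.{u})
    (hW : CfsgLib.Walter.WalterList.{u}) (hgen : normalClosure (A : Set G) = ⊤) (hO : pPrimeCore 2 G = ⊥) :
    pCore 2 G ⊔ commutator G = ⊤ ∧ pCore 2 G ≤ center G ∧
      (∃ T : Sylow 2 G, A ≤ (T : Subgroup G) ∧ A = pCore 2 G ⊔ omegaOne 2 (T : Subgroup G)) ∧
      ∃ (ι : Type) (_ : Fintype ι) (L : ι → Type u) (_ : ∀ i, Group (L i)),
        (∀ i, IsSimpleGroup (L i) ∧ ¬ IsMulCommutative (L i) ∧ IsGoldschmidtGroup (L i)) ∧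
          Nonempty (↥(commutator G) ⧸ center ↥(commutator G) ≃* ((i : ι) → L i)) := by
  haveI := Fact.mk Nat.prime_two
  obtain ⟨hRA, hRc⟩ := h.pCore_le hG hW hgen hO
  set R := pCore 2 G with hR
  set π := QuotientGroup.mk' R with hπdef
  have hπ : Function.Surjective π := QuotientGroup.mk'_surjective R
  have hker : π.ker = R := QuotientGroup.ker_mk' R
  have hcl := h.map π hπ (hker.le.trans (CfsgLib.Core.pCore_le_sylow S))
  obtain ⟨D⟩ := hcl.exists_decomp hG hW (h.normalClosure_map π hπ hgen)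
    (pPrimeCore_quotient_central hRc (CfsgLib.Core.isPGroup_pCore 2 G) hO) (CfsgLib.Core.pCore_quotient_pCore 2 G)
  have hSbar : ((S.mapSurjective hπ : Sylow 2 _) : Subgroup (G ⧸ R)) = (S : Subgroup G).map π :=
    Sylow.coe_mapSurjective _ _
  have hcomtop : (commutator G).map π = ⊤ := by
    rw [eq_top_iff, ← D.sup]
    refine iSup_le fun i => ?_
    rw [← D.commutator_eq i, _root_.commutator_def, map_commutator, map_top_of_surjective π hπ]
    exact commutator_mono le_top le_top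
  have hsup : R ⊔ commutator G = ⊤ := by
    have := comap_map_eq π (commutator G)
    rw [hcomtop, comap_top, hker] at this
    rw [sup_comm, ← this]
  have hpreA : ∀ {x : G}, π x ∈ A.map π → x ∈ A := fun {x} hx => by
    obtain ⟨a, ha, hae⟩ := hx
    simpa using mul_mem ha (hRA (QuotientGroup.eq.1 hae : a⁻¹ * x ∈ R))
  refine ⟨hsup, hRc, ⟨S, h.le, le_antisymm ?_ (sup_le hRA ?_)⟩, Fin D.n, inferInstance, fun i => ↥(D.L i),
    fun i => inferInstance, fun i => ⟨D.simple i, D.noncomm i, (D.good i).gold⟩, ?_⟩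
  · have hΩ : ⨆ i, A.map π ⊓ D.L i ≤ (omegaOne 2 (S : Subgroup G)).map π := by
      refine iSup_le fun i z hz => ?_
      by_cases hz1 : z = 1
      · exact hz1 ▸ one_mem _
      obtain ⟨w, hw, hw1, hwz⟩ := D.exists_third hcl i z
      obtain ⟨a, ha, rfl⟩ := hz.1
      obtain ⟨b, hb, rfl⟩ := hw.1
      haveI := D.normal i
      have hord : ∀ {c : G} (hc : π c ∈ A.map π ⊓ D.L i), π c ≠ 1 → orderOf (⟨π c, hc.2⟩ : D.L i) = 2 :=
        fun {c} hc hc1 => orderOf_eq_prime (Subtype.ext (by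
          show π c ^ 2 = 1
          rw [pow_two]
          exact ((hcl.inf_eq (D.good i) (D.meets i)).1 hc).2.2)) fun e => hc1 (congrArg Subtype.val e)
      have hconj : ∀ {c : G} (hc : π c ∈ A.map π ⊓ D.L i), π c ≠ 1 → ∃ r ∈ R, a * a = c * c * (r * r) := by
        intro c hc hc1
        obtain ⟨g, hg⟩ := isConj_iff.1 ((D.good i).conj _ _ (hord hz hz1) (hord hc hc1))
        obtain ⟨g', hg'⟩ := hπ g
        have hg2 : π (g' * a * g'⁻¹) = π c := by
          rw [map_mul, map_mul, map_inv, hg']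
          exact congrArg Subtype.val hg
        have hr : c⁻¹ * (g' * a * g'⁻¹) ∈ R := QuotientGroup.eq.1 hg2.symm
        refine ⟨_, hr, ?_⟩
        set r := c⁻¹ * (g' * a * g'⁻¹) with hr'
        have haa : a * a ∈ center G := hRc ((QuotientGroup.eq_one_iff _).1 (by
          show π (a * a) = 1
          rw [map_mul]
          exact ((hcl.inf_eq (D.good i) (D.meets i)).1 hz).2.2))
        have e1 : g' * a * g'⁻¹ * (g' * a * g'⁻¹) = a * a := by
          rw [show g' * a * g'⁻¹ * (g' * a * g'⁻¹) = g' * (a * a) * g'⁻¹ by group,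
            mem_center_iff.1 haa g', mul_inv_cancel_right]
        have e2 : g' * a * g'⁻¹ = c * r := by rw [hr']; group
        rw [← e1, e2, mul_assoc, ← mul_assoc r c r, ← mem_center_iff.1 (hRc hr) c]
        group
      obtain ⟨r, hr, h1⟩ := hconj hw hw1
      have hab : π (a * b) ∈ A.map π ⊓ D.L i := by
        rw [map_mul]
        exact mul_mem hz hw
      obtain ⟨r', hr', h2⟩ := hconj hab (fun e => hwz (by
        rw [map_mul, mul_eq_one_iff_eq_inv] at e
        rw [e, inv_eq_of_mul_eq_one_right ((hcl.inf_eq (D.good i) (D.meets i)).1 hw).2.2]))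
      have hrA : r ∈ A := hRA hr
      have hrA' : r' ∈ A := hRA hr'
      have hbb : b * b = (r' * r')⁻¹ := by
        have e3 : a * b * (a * b) = a * a * (b * b) := by
          rw [mul_assoc, ← mul_assoc b a b, (h.commute hb ha).eq]; group
        rw [e3, mul_assoc, left_eq_mul] at h2
        exact eq_inv_of_mul_eq_one_left h2
      have hinv : a * a = (r * r'⁻¹) * (r * r'⁻¹) := by
        rw [h1, hbb]
        letI : CommGroup A := { (inferInstance : Group A) with mul_comm := h.comm.is_comm.comm }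
        have : ((⟨r', hrA'⟩ : A) * ⟨r', hrA'⟩)⁻¹ * (⟨r, hrA⟩ * ⟨r, hrA⟩) =
            (⟨r, hrA⟩ * (⟨r', hrA'⟩)⁻¹) * (⟨r, hrA⟩ * (⟨r', hrA'⟩)⁻¹) := by
          rw [mul_inv, mul_mul_mul_comm]
          ac_rfl
        exact congrArg Subtype.val this
      have hk : r * r'⁻¹ ∈ R := mul_mem hr (inv_mem hr')
      refine ⟨a * (r * r'⁻¹)⁻¹, subset_closure ⟨h.le (mul_mem ha (inv_mem (hRA hk))), ?_⟩, ?_⟩
      · rw [pow_two, mul_assoc, ← mul_assoc _ a, ← mem_center_iff.1 (inv_mem (hRc hk)) a, mul_assoc a,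
          ← mul_assoc, hinv]
        group
      · rw [map_mul, map_inv, show π (r * r'⁻¹) = 1 from (QuotientGroup.eq_one_iff _).2 hk, inv_one, mul_one]
    intro a ha
    obtain ⟨w, hw, hwe⟩ := hΩ (D.le_sup (mem_map_of_mem π ha))
    rw [← mul_inv_cancel_left w a, sup_comm]
    exact mul_mem (mem_sup_left hw) (mem_sup_right (QuotientGroup.eq.1 hwe))
  · refine (closure_le _).2 fun x ⟨hxS, hx2⟩ => hpreA (D.inv_le (π x) (hSbar ▸ mem_map_of_mem _ hxS) ?_)
    rw [← map_mul, ← pow_two, hx2, map_one]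
  · let φ : ↥(commutator G) →* G ⧸ R := π.comp (commutator G).subtype
    have hφ : Function.Surjective φ := fun y => by
      obtain ⟨x, hx, hxe⟩ : y ∈ (commutator G).map π := hcomtop ▸ mem_top y
      exact ⟨⟨x, hx⟩, hxe⟩
    have hk : φ.ker = center ↥(commutator G) := by
      refine le_antisymm (fun x hx => mem_center_iff.2 fun y => Subtype.ext ?_) fun x hx => ?_
      · exact mem_center_iff.1 (hRc ((QuotientGroup.eq_one_iff _).1 (MonoidHom.mem_ker.1 hx))) y
      · have hc : φ x ∈ center (G ⧸ R) := mem_center_iff.2 fun y => by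
          obtain ⟨z, rfl⟩ := hφ y
          rw [← map_mul, ← map_mul, mem_center_iff.1 hx z]
        rw [D.center_eq_bot, mem_bot] at hc
        exact hc
    obtain ⟨e⟩ := D.nonempty_equiv
    exact ⟨(QuotientGroup.quotientMulEquivOfEq hk.symm).trans
      ((QuotientGroup.quotientKerEquivOfSurjective φ hφ).trans e.symm)⟩

/-- **Goldschmidt's theorem, structural form (S2775), from the inputs.** -/
theorem structure_of (hG : CfsgLib.SThreeFree.GoldschmidtInput.{u}) (hW : CfsgLib.Walter.WalterList.{u})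
    {G : Type u} [Group G] [Finite G] (S : Sylow 2 G) (A : Subgroup G) (hA : IsMulCommutative ↥A)
    (hsc : Cfsg.IsStronglyClosed A (S : Subgroup G)) (K : Subgroup G) (hK : K = Subgroup.normalClosure (A : Set G))
    (Q : Type u) [Group Q] (π : ↥K →* Q) (hπ : Function.Surjective π) (hker : π.ker = Cfsg.pPrimeCore 2 ↥K) :
    Cfsg.pCore 2 Q ⊔ commutator Q = ⊤ ∧ Cfsg.pCore 2 Q ≤ Subgroup.center Q ∧
      (∃ T : Sylow 2 Q, (A.subgroupOf K).map π ≤ (T : Subgroup Q) ∧
        (A.subgroupOf K).map π = Cfsg.pCore 2 Q ⊔ Cfsg.omegaOne 2 (T : Subgroup Q)) ∧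
      ∃ (ι : Type) (_ : Fintype ι) (L : ι → Type u) (_ : ∀ i, Group (L i)),
        (∀ i, IsSimpleGroup (L i) ∧ ¬ IsMulCommutative (L i) ∧ Cfsg.IsGoldschmidtGroup (L i)) ∧
          Nonempty (↥(commutator Q) ⧸ Subgroup.center ↥(commutator Q) ≃* ((i : ι) → L i)) := by
  haveI := Fact.mk Nat.prime_two
  haveI : Finite Q := Finite.of_surjective π hπ
  have h : Closed S A := ⟨hA, hsc⟩
  haveI : K.Normal := hK ▸ normalClosure_normal
  obtain ⟨SK, hSK⟩ := exists_sylow_subgroupOf S K
  have hclK := h.subgroup SK hSK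
  have hAK : A ≤ K := fun a ha => hK ▸ subset_normalClosure ha
  -- the closure inside `K`
  have hgenK : normalClosure ((A.subgroupOf K : Subgroup K) : Set K) = ⊤ := by
    set N := normalClosure ((A.subgroupOf K : Subgroup K) : Set K) with hN
    have hAN : A ≤ N.map K.subtype := fun a ha => ⟨⟨a, hAK ha⟩, subset_normalClosure ha, rfl⟩
    haveI hNn : (N.map K.subtype).Normal := by
      rw [← normalizer_eq_top_iff, eq_top_iff]
      intro g _
      have hg : g ∈ ((normalizer ((SK : Subgroup K).map K.subtype : Set G) ⊔ K : Subgroup G) : Set G) := by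
        rw [Sylow.normalizer_sup_eq_top SK]
        trivial
      rw [mul_normal] at hg
      obtain ⟨n, hn, k, hk, rfl⟩ := hg
      refine mul_mem ?_ ?_
      · rw [← CfsgLib.Transfer.map_conj_eq_self_iff]
        refine eq_of_le_of_card_ge ?_ (Nat.card_congr ((N.map K.subtype).equivMapOfInjective _ (MulAut.conj n).injective).toEquiv).le
        have hnA : n ∈ normalizer (A : Set G) := h.mem_normalizer_of_forall fun a ha => by
          have hm : a ∈ (SK : Subgroup K).map K.subtype := ⟨⟨a, hAK ha⟩, by rw [hSK]; exact h.le ha, rfl⟩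
          obtain ⟨y, hy, hye⟩ := (mem_normalizer_iff.1 hn a).1 hm
          rw [← hye]
          rw [hSK] at hy
          exact hy
        rintro _ ⟨_, ⟨x, hx, rfl⟩, rfl⟩
        have hle : N ≤ N.comap (MulAut.conjNormal n : MulAut K).toMonoidHom := by
          refine normalClosure_le_normal fun x hx => subset_normalClosure ?_
          show ((MulAut.conjNormal n : MulAut K) x : G) ∈ A
          rw [MulAut.conjNormal_apply]
          exact (mem_normalizer_iff.1 hnA x).1 hx
        exact ⟨_, hle hx, MulAut.conjNormal_apply n x⟩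
      · exact le_normalizer_map K.subtype (mem_map_of_mem K.subtype
          (show (⟨k, hk⟩ : K) ∈ normalizer (N : Set K) by rw [normalizer_eq_top]; exact mem_top _))
    refine map_injective K.subtype_injective ?_
    rw [← MonoidHom.range_eq_map, range_subtype]
    refine le_antisymm (map_subtype_le N) ?_
    conv_lhs => rw [hK]
    exact normalClosure_le_normal hAN
  have hcop : (Nat.card π.ker).Coprime 2 := hker ▸ CfsgLib.Core.coprime_card_pPrimeCore 2 ↥K
  have hclQ : Closed (SK.mapSurjective hπ) ((A.subgroupOf K).map π) := by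
    refine ⟨⟨⟨?_⟩⟩, ?_⟩
    · rintro ⟨_, a, ha, rfl⟩ ⟨_, b, hb, rfl⟩
      exact Subtype.ext (by
        show π a * π b = π b * π a
        rw [← map_mul, ← map_mul, (hclK.commute ha hb).eq])
    · rw [Sylow.coe_mapSurjective]
      refine ⟨map_mono hclK.le, ?_⟩
      rintro _ ⟨x, hx, rfl⟩ k hk
      obtain ⟨g, rfl⟩ := hπ k
      obtain ⟨y, hy, hyx⟩ := hk
      set U := (SK : Subgroup K) ⊔ π.ker with hU
      have hmem : g * x * g⁻¹ ∈ U := by
        have : g * x * g⁻¹ = y * (y⁻¹ * (g * x * g⁻¹)) := by group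
        rw [this]
        exact mul_mem_sup hy (by
          rw [MonoidHom.mem_ker, map_mul, map_inv, hyx, map_mul, map_mul, map_inv]; group)
      have hPi : ¬ 2 ∣ (SK : Subgroup K).relIndex U := fun hd =>
        SK.not_dvd_index (hd.trans (relIndex_dvd_index_of_le le_sup_left))
      have hxp : IsPGroup 2 ↥(zpowers (g * x * g⁻¹)) := by
        have := (SK.2.to_le (zpowers_le.2 (hclK.le hx))).map (MulAut.conj g).toMonoidHom
        rwa [MonoidHom.map_zpowers] at this
      obtain ⟨v, hv, hvx⟩ := CfsgLib.Transfer.exists_conj_le SK.2 hPi (zpowers_le.2 hmem) hxp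
      have hvx' : (v⁻¹ * g) * x * (v⁻¹ * g)⁻¹ ∈ (SK : Subgroup K) := by
        convert hvx _ (mem_zpowers _) using 1
        group
      obtain ⟨a, ha, w, hw, rfl⟩ := mem_sup_of_normal_right.1 hv
      have hd := hclK.conj_mem hx hvx'
      refine ⟨a * (((a * w)⁻¹ * g) * x * ((a * w)⁻¹ * g)⁻¹) * a⁻¹, hclK.sylow_conj_mem ha hd, ?_⟩
      simp only [map_mul, map_inv, MonoidHom.mem_ker.1 hw, mul_one]
      group
  have hOQ : pPrimeCore 2 Q = ⊥ := by
    have hc : ((pPrimeCore 2 Q).comap π) ≤ pPrimeCore 2 ↥K := by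
      haveI := CfsgLib.Core.normal_pPrimeCore 2 Q
      refine CfsgLib.Core.le_pPrimeCore ?_
      have hle : π.ker ≤ (pPrimeCore 2 Q).comap π := fun x hx => by
        rw [mem_comap, MonoidHom.mem_ker.1 hx]
        exact one_mem _
      let σ : ↥((pPrimeCore 2 Q).comap π) →* ↥(pPrimeCore 2 Q) :=
        (π.comp ((pPrimeCore 2 Q).comap π).subtype).codRestrict _ fun x => x.2
      have hσ : Function.Surjective σ := fun y => by
        obtain ⟨x, hx⟩ := hπ y
        exact ⟨⟨x, show π x ∈ _ from hx ▸ y.2⟩, Subtype.ext (hx :)⟩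
      have h1 := σ.ker.card_mul_index
      rw [Subgroup.index_ker, MonoidHom.range_eq_top.2 hσ, card_top] at h1
      rw [← h1]
      refine Nat.Coprime.mul_left ?_ (CfsgLib.Core.coprime_card_pPrimeCore 2 Q)
      refine hcop.coprime_dvd_left ?_
      rw [← Subgroup.card_map_of_injective (K := σ.ker) (Subgroup.subtype_injective ((pPrimeCore 2 Q).comap π))]
      refine card_dvd_of_le ?_
      rintro _ ⟨x, hx, rfl⟩
      exact MonoidHom.mem_ker.2 (congrArg Subtype.val (MonoidHom.mem_ker.1 hx) :)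
    rw [← map_comap_eq_self_of_surjective hπ (pPrimeCore 2 Q), Subgroup.map_eq_bot_iff, hker]
    exact hc
  exact hclQ.structure_of_core hG hW (hclK.normalClosure_map π hπ hgenK) hOQ

end CfsgLib.TwoFusion.StructGold
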