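import Cfsg.Agent.Lib.TwoFusion.StructGold.Pair

/-!
Owner: helper7. S2767: on every factor of `M` one of the two closures is inner, and `S₁ ∩ S₂M` lies in `M`.
-/

set_option autoImplicit false
set_option linter.unusedSectionVars false
set_option linter.style.haveILetI false

namespace CfsgLib.TwoFusion.StructGold

open Subgroup Cfsg

universe u

variable {G : Type u} [Group G] [Finite G] {S : Sylow 2 G} {S₁ S₂ D M L : Subgroup G} [M.Normal]

namespace Factor

/-- A 2-element of `L C(L)` in `S` has its `L`-part in `S`. -/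
theorem part_mem (F : Factor S D M L) {y l c : G} (hy : y ∈ (S : Subgroup G)) (hl : l ∈ L)
    (hc : c ∈ centralizer (L : Set G)) (hlc : y = l * c) : l ∈ (S : Subgroup G) := by
  haveI := Fact.mk Nat.prime_two
  haveI := F.simple
  obtain ⟨Q, hQ, -⟩ := F.facts
  let lL : L := ⟨l, hl⟩
  have hlcc : Commute l c := mem_centralizer_iff.1 hc l hl
  have hnQ : zpowers lL ≤ normalizer ((Q : Subgroup L) : Set L) := by
    rw [zpowers_le, mem_normalizer_iff]
    intro w
    have e : l * (w : G) * l⁻¹ = y * w * y⁻¹ := by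
      rw [hlc, show (l * c) * (w : G) * (l * c)⁻¹ = l * (c * w * c⁻¹) * l⁻¹ by group,
        ← mem_centralizer_iff.1 hc w w.2, mul_inv_cancel_right]
    rw [hQ, mem_subgroupOf, mem_subgroupOf]
    show (w : G) ∈ (S : Subgroup G) ↔ l * (w : G) * l⁻¹ ∈ (S : Subgroup G)
    rw [e]
    exact ⟨fun hw => mul_mem (mul_mem hy hw) (inv_mem hy), fun hw => by
      simpa [mul_assoc] using mul_mem (mul_mem (inv_mem hy) hw) hy⟩
  have hz2 : IsPGroup 2 (zpowers lL) := by
    obtain ⟨k, hk⟩ := IsPGroup.iff_orderOf.1 S.2 ⟨y, hy⟩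
    rw [Subgroup.orderOf_mk] at hk
    have h1 : l ^ 2 ^ k * c ^ 2 ^ k = 1 := by rw [← hlcc.mul_pow, ← hlc, ← hk, pow_orderOf_eq_one]
    have h2 : lL ^ 2 ^ k ∈ center L := mem_center_iff.2 fun w => Subtype.ext (by
      show (w : G) * l ^ 2 ^ k = l ^ 2 ^ k * w
      rw [eq_inv_of_mul_eq_one_left h1]
      exact mem_centralizer_iff.1 (inv_mem (pow_mem hc _)) w w.2)
    rcases IsSimpleGroup.eq_bot_or_eq_top_of_normal (center L) inferInstance with h | h
    · intro z
      obtain ⟨_, i, rfl⟩ := z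
      refine ⟨k, Subtype.ext ?_⟩
      rw [h, mem_bot] at h2
      show (lL ^ i) ^ 2 ^ k = 1
      rw [← zpow_natCast, ← zpow_mul, mul_comm, zpow_mul, zpow_natCast, h2, one_zpow]
    · exact absurd ⟨⟨fun a b => (mem_center_iff.1 (h ▸ mem_top b) a)⟩⟩ F.noncomm
  have hp : IsPGroup 2 ↥((Q : Subgroup L) ⊔ zpowers lL) := Q.2.to_sup_of_normal_left' hz2 hnQ
  have : lL ∈ (Q : Subgroup L) := by
    rw [← Q.3 hp le_sup_left]
    exact mem_sup_right (mem_zpowers lL)
  rwa [hQ] at this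

/-- A strongly closed subgroup containing the involutions consists of them on `L`, or contains `S ∩ L`. -/
theorem sq_or_le (F : Factor S D M L) (hinv : ∀ y ∈ (S : Subgroup G), y ∈ L → y * y = 1 → y ∈ D)
    {E : Subgroup G} (hDE : D ≤ E) (hE : IsStronglyClosed E (S : Subgroup G)) :
    (∀ x ∈ E ⊓ L, x * x = 1) ∨ (S : Subgroup G) ⊓ L ≤ E := by
  obtain ⟨Q, hQ, hf⟩ := F.facts
  have hmem : ∀ y : L, y ∈ (Q : Subgroup L) ↔ (y : G) ∈ (S : Subgroup G) := fun y => by
    rw [hQ]; rfl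
  rcases hf.irr (E.subgroupOf L) (fun y hy => (hmem y).2 (hE.1 hy))
      (fun y hy hyy => hDE (hinv _ ((hmem y).1 hy) y.2 (congrArg Subtype.val hyy)))
      (fun n hn k hk => hE.2 _ hk _ ((hmem _).1 ((mem_normalizer_iff.1 hn k).1 ((hmem _).2 (hE.1 hk))))) with h | h
  · exact Or.inl fun x hx => congrArg Subtype.val (h ⟨x, hx.2⟩ hx.1)
  · exact Or.inr fun x hx => (h.ge ((hmem ⟨x, hx.2⟩).2 hx.1) : (⟨x, hx.2⟩ : L) ∈ E.subgroupOf L)

end Factor

variable (p : Pair S S₁ S₂) (P : Split S (S₁ ⊓ S₂) M)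

namespace Split

/-- The same decomposition for the pair in the other order. -/
def swap : Split S (S₂ ⊓ S₁) M where
  n := P.n
  L := P.L
  factor k := inf_comm S₁ S₂ ▸ P.factor k
  comm := P.comm
  sup := P.sup
  inv_le y hy hyM hyy := inf_comm S₁ S₂ ▸ P.inv_le y hy hyM hyy
  center_bot := P.center_bot

include P

/-- A simple subgroup of `M` normalised by `M` is a factor. -/
theorem exists_eq {L' : Subgroup G} (hle : L' ≤ M) (hn : M ≤ normalizer (L' : Set G)) [IsSimpleGroup L'] :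
    ∃ i, L' = P.L i := by
  haveI : Nontrivial L' := inferInstance
  by_contra hne
  push Not at hne
  have hcom : ∀ i, P.L i ≤ centralizer (L' : Set G) := by
    intro i
    haveI := (P.factor i).simple
    haveI : (L'.subgroupOf (P.L i)).Normal := normal_subgroupOf_of_le_normalizer ((P.factor i).le.trans hn)
    rcases IsSimpleGroup.eq_bot_or_eq_top_of_normal (L'.subgroupOf (P.L i)) inferInstance with h | h
    · rw [subgroupOf_eq_bot, disjoint_iff] at h
      intro x hx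
      refine mem_centralizer_iff.2 fun y hy => ?_
      have hm : y * x * y⁻¹ * x⁻¹ ∈ L' ⊓ P.L i := ⟨by
        rw [show y * x * y⁻¹ * x⁻¹ = y * (x * y⁻¹ * x⁻¹) by group]
        exact mul_mem hy ((mem_normalizer_iff.1 (hn ((P.factor i).le hx)) _).1 (L'.inv_mem hy)),
        (P.L i).mul_mem ((mem_normalizer_iff.1 ((P.factor i).norm (hle hy)) x).1 hx) ((P.L i).inv_mem hx)⟩
      rw [h, mem_bot] at hm
      exact mul_inv_eq_iff_eq_mul.1 (mul_inv_eq_one.1 hm)
    · rw [subgroupOf_eq_top] at h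
      haveI : ((P.L i).subgroupOf L').Normal := normal_subgroupOf_of_le_normalizer (hle.trans (P.factor i).norm)
      rcases IsSimpleGroup.eq_bot_or_eq_top_of_normal ((P.L i).subgroupOf L') inferInstance with h' | h'
      · rw [subgroupOf_eq_bot, disjoint_iff, inf_eq_left.2 h] at h'
        exact absurd h' ((P.L i).nontrivial_iff_ne_bot.1 inferInstance)
      · rw [subgroupOf_eq_top] at h'
        exact absurd (le_antisymm h' h) (hne i)
  obtain ⟨x, hx, hx1⟩ := (bot_or_exists_ne_one L').resolve_left (L'.nontrivial_iff_ne_bot.1 inferInstance)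
  refine hx1 (P.center_bot x (hle hx) (mem_centralizer_iff.2 fun y hy => ?_))
  have hy' : y ∈ centralizer (L' : Set G) := (P.sup ▸ iSup_le hcom : M ≤ centralizer (L' : Set G)) hy
  exact (mem_centralizer_iff.1 hy' x hx).symm

theorem exists_conj (i : Fin P.n) (g : G) : ∃ j, (P.L i).map (MulAut.conj g).toMonoidHom = P.L j := by
  haveI := (P.factor i).simple
  have e := (P.L i).equivMapOfInjective (MulAut.conj g).toMonoidHom (MulAut.conj g).injective
  haveI : IsSimpleGroup ↥((P.L i).map (MulAut.conj g).toMonoidHom) := e.symm.isSimpleGroup_congr.2 inferInstance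
  refine P.exists_eq ?_ fun m hm => ?_
  · rintro _ ⟨x, hx, rfl⟩
    exact (inferInstance : M.Normal).conj_mem x ((P.factor i).le hx) g
  · have h1 := (P.factor i).norm ((inferInstance : M.Normal).conj_mem m hm g⁻¹)
    have h2 := le_normalizer_map (MulAut.conj g).toMonoidHom (mem_map_of_mem _ h1)
    simpa [mul_assoc] using h2

include p

/-- Every element of `S₁` normalises every factor. -/
theorem normalizes (i : Fin P.n) {s : G} (hs : s ∈ S₁) : s ∈ normalizer (P.L i : Set G) := by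
  haveI := (P.factor i).simple
  obtain ⟨j, hj⟩ := P.exists_conj i s
  obtain ⟨x, hx, hx1⟩ := (bot_or_exists_ne_one _).resolve_left (P.factor i).meets
  rw [← CfsgLib.Transfer.map_conj_eq_self_iff, hj]
  by_contra hne
  have hxj : x ∈ P.L j := by
    rw [← hj]
    exact ⟨x, hx.2, show s * x * s⁻¹ = x by rw [p.comm s hs x hx.1.2, mul_inv_cancel_right]⟩
  refine hx1 (P.center_bot x ((P.factor i).le hx.2) ?_)
  refine mem_centralizer_iff.2 fun y hy => ?_
  have h1 : M ≤ centralizer ({x} : Set G) := by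
    rw [← P.sup]
    refine iSup_le fun k z hz => mem_centralizer_singleton_iff.2 ?_
    by_cases hk : k = i
    · subst hk
      exact (P.comm k j (fun e => hne (by rw [e])) z hz x hxj).eq
    · exact (P.comm k i hk z hz x hx.2).eq
  exact mem_centralizer_singleton_iff.1 (h1 hy)

/-- `S₁` is inner on a factor where it only has involutions. -/
theorem inner_of_sq (hG : CfsgLib.SThreeFree.GoldschmidtInput.{u}) (hW : CfsgLib.Walter.WalterList.{u})
    (i : Fin P.n) (hsq : ∀ x ∈ S₁ ⊓ P.L i, x * x = 1) {s : G} (hs : s ∈ S₁) :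
    ∃ z ∈ S₁ ⊓ P.L i, z * s ∈ centralizer (P.L i : Set G) := by
  haveI := (P.factor i).simple
  set L := P.L i with hL
  set N := normalizer (L : Set G)
  have hD : ∀ x ∈ S₁ ⊓ L, x ∈ S₂ := fun x hx =>
    (P.inv_le x (p.cl₁.1 hx.1) ((P.factor i).le hx.2) (hsq x hx)).2
  set H := M ⊔ zpowers s with hH
  have hsH : s ∈ H := mem_sup_right (mem_zpowers s)
  have hHN : H ≤ N := sup_le (P.factor i).norm (zpowers_le.2 (Split.normalizes p P i hs))
  obtain ⟨Q, hQ⟩ := exists_sylow_between (S := S) (le_sup_left : M ≤ H) fun g hg => by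
    have hg' : g ∈ (H : Set G) := hg
    rw [hH, normal_mul] at hg'
    obtain ⟨l, hl, _, ⟨k, rfl⟩, rfl⟩ := hg'
    exact ⟨l, hl, s ^ k, zpow_mem (p.cl₁.1 hs) k, rfl⟩
  have hLH : L ≤ H := (P.factor i).le.trans le_sup_left
  haveI : (L.subgroupOf H).Normal := normal_subgroupOf_of_le_normalizer hHN
  have eL : ↥(L.subgroupOf H) ≃* ↥L := subgroupOfEquivOfLe hLH
  haveI : IsSimpleGroup ↥(L.subgroupOf H) := eL.isSimpleGroup_congr.2 inferInstance
  have hna' : ¬ IsMulCommutative ↥(L.subgroupOf H) := fun hc => (P.factor i).noncomm ⟨⟨fun x y =>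
    eL.symm.injective (by rw [map_mul, map_mul]; exact hc.is_comm.comm _ _)⟩⟩
  obtain ⟨z, hz, hzc⟩ := exists_inner hG hW (S := Q) (E := S₁.subgroupOf H) (L := L.subgroupOf H)
    (by rw [hQ]; exact ⟨fun x hx => p.cl₁.1 hx, fun x hx g hg => p.cl₁.2 x hx g hg⟩) hna'
    (fun e => (P.factor i).meets (eq_bot_iff.2 fun x hx => mem_bot.2 (by
      have hm : (⟨x, hLH hx.2⟩ : H) ∈ (⊥ : Subgroup H) := e ▸ ⟨hx.1.1, hx.2⟩
      exact congrArg Subtype.val (mem_bot.1 hm))))
    (s := ⟨s, hsH⟩) hs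
    (fun x hx y hy => Subtype.ext (p.comm x hx.1 y (hD y ⟨hy.1, hy.2⟩)))
    (fun x hx => Subtype.ext (p.comm s hs x (hD x ⟨hx.1, hx.2⟩)))
  exact ⟨z, ⟨hz.1, hz.2⟩, mem_centralizer_iff.2 fun x hx =>
    congrArg Subtype.val (mem_centralizer_iff.1 hzc ⟨x, hLH hx⟩ hx)⟩

/-- If `S₁` contains `S ∩ L`, then `S₂` only has involutions on `L`. -/
theorem sq_right (i : Fin P.n) (hT : (S : Subgroup G) ⊓ P.L i ≤ S₁) : ∀ x ∈ S₂ ⊓ P.L i, x * x = 1 :=
  fun x hx => (P.factor i).sq x ⟨⟨hT ⟨p.cl₂.1 hx.1, hx.2⟩, hx.1⟩, hx.2⟩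

/-- The condition `S ∩ L ≤ S₁` is invariant under conjugation. -/
theorem le_left_conj (i j : Fin P.n) {g : G} (hj : (P.L i).map (MulAut.conj g).toMonoidHom = P.L j)
    (hT : (S : Subgroup G) ⊓ P.L i ≤ S₁) : (S : Subgroup G) ⊓ P.L j ≤ S₁ := by
  haveI := Fact.mk Nat.prime_two
  rintro x ⟨hxS, hxL⟩
  obtain ⟨y, hy, hyx⟩ : x ∈ (P.L i).map (MulAut.conj g).toMonoidHom := hj ▸ hxL
  have hyx' : g * y * g⁻¹ = x := hyx
  obtain ⟨Q, hQ, -⟩ := (P.factor i).facts
  have hp : IsPGroup 2 (zpowers (⟨y, hy⟩ : P.L i)) := by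
    obtain ⟨k, hk⟩ := IsPGroup.iff_orderOf.1 S.2 ⟨x, hxS⟩
    rw [Subgroup.orderOf_mk, ← hyx'] at hk
    have e : orderOf (g * y * g⁻¹) = orderOf y :=
      orderOf_injective (MulAut.conj g).toMonoidHom (MulAut.conj g).injective y
    rw [e] at hk
    exact IsPGroup.of_card (n := k) (by rw [Nat.card_zpowers, Subgroup.orderOf_mk, hk])
  obtain ⟨R, hR⟩ := hp.exists_le_sylow
  obtain ⟨l, hl⟩ := MulAction.exists_smul_eq (P.L i) R Q
  have hm : l * ⟨y, hy⟩ * l⁻¹ ∈ (Q : Subgroup (P.L i)) := by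
    rw [← hl, Sylow.coe_subgroup_smul]
    exact Subgroup.smul_mem_pointwise_smul _ (MulAut.conj l) _ (hR (mem_zpowers _))
  rw [hQ] at hm
  have h1 : (l : G) * y * (l : G)⁻¹ ∈ S₁ := hT ⟨hm, (l * ⟨y, hy⟩ * l⁻¹).2⟩
  have h2 := p.cl₁.2 _ h1 (g * (l : G)⁻¹) (by
    rw [show g * (l : G)⁻¹ * ((l : G) * y * (l : G)⁻¹) * (g * (l : G)⁻¹)⁻¹ = g * y * g⁻¹ by group, hyx']
    exact hxS)
  rwa [show g * (l : G)⁻¹ * ((l : G) * y * (l : G)⁻¹) * (g * (l : G)⁻¹)⁻¹ = g * y * g⁻¹ by group, hyx'] at h2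

/-- An element of `S₁ ∩ S₂ M` has, on every factor, its part in `S₁`. -/
theorem part_left (hG : CfsgLib.SThreeFree.GoldschmidtInput.{u}) (hW : CfsgLib.Walter.WalterList.{u})
    (i : Fin P.n) {a b : G} (ha : a ∈ S₁) (hb : b ∈ S₂) (hab : b⁻¹ * a ∈ M) :
    ∃ z ∈ S₁ ⊓ P.L i, z * a ∈ centralizer (P.L i : Set G) := by
  rcases (P.factor i).sq_or_le (fun y hy hyL => P.inv_le y hy ((P.factor i).le hyL)) (inf_le_left) p.cl₁ with h | h
  · exact Split.inner_of_sq p P hG hW i h ha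
  obtain ⟨z, ⟨hzS, hzL⟩, hzb⟩ :=
    Split.inner_of_sq p.symm P.swap hG hW i (Split.sq_right p P i h) hb
  have hzL : z ∈ P.L i := hzL
  have hzb : z * b ∈ centralizer (P.L i : Set G) := hzb
  have hm : b⁻¹ * a ∈ ((P.L i ⊔ centralizer (P.L i : Set G) : Subgroup G) : Set G) := by
    refine (?_ : M ≤ P.L i ⊔ centralizer (P.L i : Set G)) hab
    refine P.sup.ge.trans (iSup_le fun k => ?_)
    by_cases hk : i = k
    · exact hk ▸ le_sup_left
    · exact le_sup_of_le_right fun x hx => mem_centralizer_iff.2 fun u hu => (P.comm i k hk u hu x hx).eq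
  rw [coe_mul_of_right_le_normalizer_left (P.L i) (centralizer (P.L i : Set G)) (centralizer_le_normalizer _)] at hm
  obtain ⟨t, ht, c, hc, htc⟩ := hm
  have htc' : t * c = b⁻¹ * a := htc
  have htS := (P.factor i).part_mem ((S : Subgroup G).mul_mem ((S : Subgroup G).inv_mem (p.cl₂.1 hb)) (p.cl₁.1 ha)) ht hc htc'.symm
  have hzS₁ : z ∈ S₁ := h ⟨p.cl₂.1 hzS, hzL⟩
  refine ⟨t⁻¹ * z, ⟨S₁.mul_mem (S₁.inv_mem (h ⟨htS, ht⟩)) hzS₁, (P.L i).mul_mem ((P.L i).inv_mem ht) hzL⟩, ?_⟩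
  have e : t⁻¹ * z * a = z * b * c := by
    have hzb' : t * (z * b) = z * b * t := mem_centralizer_iff.1 hzb t ht
    rw [show a = b * (t * c) by rw [htc']; group,
      show t⁻¹ * z * (b * (t * c)) = t⁻¹ * (z * b * t) * c by group, ← hzb', inv_mul_cancel_left]
  rw [e]
  exact mul_mem hzb hc

end Split

end CfsgLib.TwoFusion.StructGold
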