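import Cfsg.Agent.Lib.TwoFusion.StructGold.PairInner
import Cfsg.Agent.Lib.TwoFusion.ProductFusion.Setup

/-!
Owner: helper7. S2767 from the inputs `GoldschmidtInput` and `WalterList`: the normal closures of two commuting
strongly closed subgroups commute modulo the closure of their intersection and the odd core.
-/

set_option autoImplicit false
set_option linter.unusedSectionVars false
set_option linter.style.haveILetI false

namespace CfsgLib.TwoFusion.StructGold

open Subgroup Cfsg

universe u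

variable {G : Type u} [Group G] [Finite G] {S : Sylow 2 G} {S₁ S₂ : Subgroup G}

/-- The closure of a subgroup is killed or mapped onto the closure of the image. -/
theorem map_closure (E : Subgroup G) {K : Type u} [Group K] (f : G →* K) (hf : Function.Surjective f) :
    (normalClosure (E : Set G)).map f = normalClosure ((E.map f : Subgroup K) : Set K) := by
  rw [coe_map, map_normalClosure _ f hf]

/-- The case of trivial odd core and a product of simple factors. -/
theorem Pair.commutator_le_of_split (p : Pair S S₁ S₂) (hG : CfsgLib.SThreeFree.GoldschmidtInput.{u})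
    (hW : CfsgLib.Walter.WalterList.{u}) (hO : pPrimeCore 2 G = ⊥) (M : Subgroup G) [M.Normal]
    (P : Split S (S₁ ⊓ S₂) M) (hDM : S₁ ⊓ S₂ ≤ M) :
    ⁅normalClosure (S₁ : Set G), normalClosure (S₂ : Set G)⁆ ≤ M := by
  haveI := Fact.mk Nat.prime_two
  set C := centralizer (M : Set G) with hC
  haveI : C.Normal := inferInstance
  have hcomb : ∀ (U : Fin P.n → Subgroup G), (∀ i, U i ≤ P.L i) → ∀ x : G,
      (∀ i, ∃ z ∈ U i, z * x ∈ centralizer (P.L i : Set G)) → ∃ z ∈ ⨆ i, U i, z * x ∈ C := by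
    intro U hU x hx
    obtain ⟨z, hz, hzc⟩ := exists_global P.L U hU P.comm x hx Finset.univ
    refine ⟨z, by simpa using hz, mem_centralizer_iff.2 fun y hy => ?_⟩
    have hle : M ≤ centralizer ({z * x} : Set G) := P.sup.ge.trans (iSup_le fun i y hy =>
      mem_centralizer_singleton_iff.2 (mem_centralizer_iff.1 (hzc i (Finset.mem_univ i)) y hy))
    exact mem_centralizer_singleton_iff.1 (hle hy)
  -- modulo `M` the two subgroups meet trivially
  set π := QuotientGroup.mk' M with hπdef
  have hπ : Function.Surjective π := QuotientGroup.mk'_surjective M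
  have hone : ∀ x ∈ M, x ∈ C → x = 1 := fun x hx hxc => P.center_bot x hx hxc
  have hdisj : S₁.map π ⊓ S₂.map π = ⊥ := by
    rw [eq_bot_iff]
    rintro _ ⟨⟨a, ha, rfl⟩, b, hb, hba⟩
    have hab : b⁻¹ * a ∈ M := QuotientGroup.eq.1 hba
    obtain ⟨z, hz, hza⟩ := hcomb (fun i => S₁ ⊓ P.L i) (fun i => inf_le_right) a fun i =>
      Split.part_left p P hG hW i ha hb hab
    obtain ⟨w, hw, hwb⟩ := hcomb (fun i => S₂ ⊓ P.L i) (fun i => inf_le_right) b fun i =>
      Split.part_left p.symm P.swap hG hW i hb ha (by simpa using inv_mem hab)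
    have hzM : z ∈ S₁ ⊓ M := (iSup_le fun i => inf_le_inf_left _ (P.factor i).le : ⨆ i, S₁ ⊓ P.L i ≤ S₁ ⊓ M) hz
    have hwM : w ∈ S₂ ⊓ M := (iSup_le fun i => inf_le_inf_left _ (P.factor i).le : ⨆ i, S₂ ⊓ P.L i ≤ S₂ ⊓ M) hw
    have hd : (w * b)⁻¹ * (z * a) = 1 := hone _ (by
      rw [show (w * b)⁻¹ * (z * a) = b⁻¹ * (w⁻¹ * z) * b * (b⁻¹ * a) by group]
      refine M.mul_mem ?_ hab
      simpa using (inferInstance : M.Normal).conj_mem _ (M.mul_mem (M.inv_mem hwM.2) hzM.2) b⁻¹)
      (C.mul_mem (C.inv_mem hwb) hza)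
    have he : w * b = z * a := inv_mul_eq_one.1 hd
    have hD : z * a ∈ S₁ ⊓ S₂ := ⟨S₁.mul_mem hzM.1 ha, he ▸ S₂.mul_mem hwM.1 hb⟩
    have hz1 : z * a = 1 := hone _ (hDM hD) hza
    refine mem_bot.2 ((QuotientGroup.eq_one_iff a).2 ?_)
    rw [show a = z⁻¹ by exact eq_inv_of_mul_eq_one_right hz1]
    exact M.inv_mem hzM.2
  -- on every factor one of the closures is inner
  intro x hx
  have hfac : ∀ i, ∃ z ∈ P.L i, z * x ∈ centralizer (P.L i : Set G) := by
    intro i
    set X := P.L i ⊔ centralizer (P.L i : Set G) with hX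
    have hnorm : ∀ E : Subgroup G, (∀ j, ∀ e ∈ E, e ∈ normalizer (P.L j : Set G)) →
        normalClosure (E : Set G) ≤ normalizer (P.L i : Set G) := by
      intro E hE
      refine (closure_le _).2 fun y hy => ?_
      obtain ⟨e, he, hey⟩ := Group.mem_conjugatesOfSet_iff.1 hy
      obtain ⟨g, rfl⟩ := isConj_iff.1 hey
      obtain ⟨j, hj⟩ := P.exists_conj i g⁻¹
      have h1 := hE j e he
      rw [← hj] at h1
      have h2 := le_normalizer_map (MulAut.conj g).toMonoidHom (mem_map_of_mem _ h1)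
      rwa [Subgroup.map_map, show (MulAut.conj g).toMonoidHom.comp (MulAut.conj g⁻¹).toMonoidHom = MonoidHom.id G by
        ext u; simp [mul_assoc], Subgroup.map_id] at h2
    have hN₁ := hnorm S₁ fun j e he => Split.normalizes p P j he
    have hN₂ := hnorm S₂ fun j e he => Split.normalizes p.symm P.swap j he
    have hXn : ∀ {g : G}, g ∈ normalizer (P.L i : Set G) → ∀ {y : G}, y ∈ X → g * y * g⁻¹ ∈ X := by
      intro g hg y hy
      have hle : X ≤ X.comap (MulAut.conj g).toMonoidHom := by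
        refine sup_le (fun z hz => mem_sup_left ((mem_normalizer_iff.1 hg z).1 hz)) fun z hz => mem_sup_right ?_
        refine mem_centralizer_iff.2 fun u hu => ?_
        have hu' : g⁻¹ * u * g ∈ P.L i := by simpa using (mem_normalizer_iff.1 (inv_mem hg) u).1 hu
        show u * (g * z * g⁻¹) = g * z * g⁻¹ * u
        calc u * (g * z * g⁻¹) = g * ((g⁻¹ * u * g) * z) * g⁻¹ := by group
          _ = g * (z * (g⁻¹ * u * g)) * g⁻¹ := by rw [mem_centralizer_iff.1 hz _ hu']
          _ = g * z * g⁻¹ * u := by group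
      exact hle hy
    have hgen : ∀ E : Subgroup G, (∀ g : G, ∀ j, (P.L i).map (MulAut.conj g⁻¹).toMonoidHom = P.L j →
        ∀ e ∈ E, ∃ z ∈ P.L j, z * e ∈ centralizer (P.L j : Set G)) → normalClosure (E : Set G) ≤ X := by
      intro E hE
      refine (closure_le _).2 fun y hy => ?_
      obtain ⟨e, he, hey⟩ := Group.mem_conjugatesOfSet_iff.1 hy
      obtain ⟨g, rfl⟩ := isConj_iff.1 hey
      obtain ⟨j, hj⟩ := P.exists_conj i g⁻¹
      obtain ⟨z, hz, hzc⟩ := hE g j hj e he
      rw [← hj] at hz hzc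
      obtain ⟨z', hz', rfl⟩ := hz
      refine (?_ : g * e * g⁻¹ ∈ X)
      have h1 : z' * (g * e * g⁻¹) ∈ centralizer (P.L i : Set G) := mem_centralizer_iff.2 fun u hu => by
        have := mem_centralizer_iff.1 hzc _ (mem_map_of_mem (MulAut.conj g⁻¹).toMonoidHom hu)
        simp only [MulEquiv.coe_toMonoidHom, MulAut.conj_apply, inv_inv] at this
        calc u * (z' * (g * e * g⁻¹)) = g * (g⁻¹ * u * g * (g⁻¹ * z' * g * e)) * g⁻¹ := by group
          _ = g * (g⁻¹ * z' * g * e * (g⁻¹ * u * g)) * g⁻¹ := by rw [this]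
          _ = z' * (g * e * g⁻¹) * u := by group
      rw [show g * e * g⁻¹ = z'⁻¹ * (z' * (g * e * g⁻¹)) by group]
      exact mul_mem (mem_sup_left (inv_mem hz')) (mem_sup_right h1)
    have hX' : x ∈ X := by
      refine (commutator_le.2 fun y hy w hw => ?_) hx
      by_cases hT : (S : Subgroup G) ⊓ P.L i ≤ S₁
      · have h2 : normalClosure (S₂ : Set G) ≤ X := hgen S₂ fun g j hj e he => by
          obtain ⟨z, hz, hzc⟩ := Split.inner_of_sq p.symm P.swap hG hW j
            (Split.sq_right p P j (Split.le_left_conj p P i j hj hT)) he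
          exact ⟨z, hz.2, hzc⟩
        rw [commutatorElement_def]
        exact X.mul_mem (hXn (hN₁ hy) (h2 hw)) (X.inv_mem (h2 hw))
      · have h1 : normalClosure (S₁ : Set G) ≤ X := hgen S₁ fun g j hj e he => by
          have hsq : ∀ u ∈ S₁ ⊓ P.L j, u * u = 1 := by
            refine ((P.factor j).sq_or_le (fun u hu huL => P.inv_le u hu ((P.factor j).le huL)) inf_le_left
              p.cl₁).resolve_right fun hT' => hT ?_
            refine Split.le_left_conj p P j i (g := g) ?_ hT'
            rw [← hj, Subgroup.map_map]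
            convert Subgroup.map_id (P.L i)
            ext u
            simp [mul_assoc]
          obtain ⟨z, hz, hzc⟩ := Split.inner_of_sq p P hG hW j hsq he
          exact ⟨z, hz.2, hzc⟩
        rw [commutatorElement_def, mul_assoc (y * w), mul_assoc y, ← mul_assoc w y⁻¹]
        exact X.mul_mem (h1 hy) (hXn (hN₂ hw) (X.inv_mem (h1 hy)))
    rw [← SetLike.mem_coe, hX,
      coe_mul_of_right_le_normalizer_left (P.L i) (centralizer (P.L i : Set G)) (centralizer_le_normalizer _)] at hX'
    obtain ⟨t, ht, c, hc, rfl⟩ := hX'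
    exact ⟨t⁻¹, (P.L i).inv_mem ht, by simpa using hc⟩
  obtain ⟨z, hz, hzc⟩ := hcomb P.L (fun i => le_rfl) x hfac
  have hzM : z ∈ M := (iSup_le fun i => (P.factor i).le : ⨆ i, P.L i ≤ M) hz
  -- in `G/M` the closures commute modulo the odd core
  have hq := CfsgLib.TwoFusion.ProductFusion.normalClosure_commutator_le (p.map π hπ).cl₁ (p.map π hπ).cl₂
    (p.map π hπ).comm hdisj
  rw [← map_closure S₁ π hπ, ← map_closure S₂ π hπ, ← map_commutator] at hq
  have hzx : z * x ∈ C ⊓ (pPrimeCore 2 (G ⧸ M)).comap π := ⟨hzc, by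
    show π (z * x) ∈ pPrimeCore 2 (G ⧸ M)
    rw [map_mul, show π z = 1 from (QuotientGroup.eq_one_iff z).2 hzM, one_mul]
    exact hq (mem_map_of_mem π hx)⟩
  haveI : (C ⊓ (pPrimeCore 2 (G ⧸ M)).comap π).Normal := inferInstance
  have hbot : C ⊓ (pPrimeCore 2 (G ⧸ M)).comap π = ⊥ := by
    refine le_bot_iff.1 ((CfsgLib.Core.le_pPrimeCore ?_).trans hO.le)
    refine (CfsgLib.Core.coprime_card_pPrimeCore 2 (G ⧸ M)).coprime_dvd_left ?_
    refine (card_dvd_of_injective
      ((π.comp (C ⊓ (pPrimeCore 2 (G ⧸ M)).comap π).subtype).codRestrict (pPrimeCore 2 (G ⧸ M)) fun v => v.2.2) ?_)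
    rw [injective_iff_map_eq_one]
    intro v hv
    have hvM : π v = 1 := congrArg Subtype.val hv
    exact Subtype.ext (hone _ ((QuotientGroup.eq_one_iff _).1 hvM) v.2.1)
  rw [hbot, mem_bot] at hzx
  rw [eq_inv_of_mul_eq_one_right hzx]
  exact inv_mem hzM

/-- The statement, by induction on the order. -/
theorem commutator_le_aux (hG : CfsgLib.SThreeFree.GoldschmidtInput.{u}) (hW : CfsgLib.Walter.WalterList.{u}) :
    ∀ (n : ℕ) (G : Type u) [Group G] [Finite G], Nat.card G < n → ∀ (S : Sylow 2 G) (S₁ S₂ : Subgroup G),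
      Pair S S₁ S₂ → ⁅normalClosure (S₁ : Set G), normalClosure (S₂ : Set G)⁆ ≤
        normalClosure ((S₁ ⊓ S₂ : Subgroup G) : Set G) ⊔ pPrimeCore 2 G := by
  intro n
  induction n with
  | zero => intro G _ _ h; omega
  | succ n ih =>
    intro G _ _ hn S S₁ S₂ p
    haveI := Fact.mk Nat.prime_two
    set D := S₁ ⊓ S₂ with hD
    set M := normalClosure (D : Set G) with hM
    have h := p.inf_closed
    -- a quotient by `N` with the same intersection
    have hquot : ∀ N : Subgroup G, [N.Normal] → N ≠ ⊥ →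
        (∀ a ∈ S₁, ∀ b ∈ S₂, b⁻¹ * a ∈ N → a ∈ D ⊔ N) →
        ⁅normalClosure (S₁ : Set G), normalClosure (S₂ : Set G)⁆ ≤
          M ⊔ N ⊔ (pPrimeCore 2 (G ⧸ N)).comap (QuotientGroup.mk' N) := by
      intro N _ hN hint
      set π := QuotientGroup.mk' N with hπdef
      have hπ : Function.Surjective π := QuotientGroup.mk'_surjective N
      have hlt : Nat.card (G ⧸ N) < n := by
        have h1 : Nat.card (G ⧸ N) * Nat.card N = Nat.card G := (card_eq_card_quotient_mul_card_subgroup N).symm
        have h2 : 1 < Nat.card N := one_lt_card_iff_ne_bot N |>.2 hN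
        have h3 : 0 < Nat.card (G ⧸ N) := Nat.card_pos
        nlinarith
      have hmap := ih (G ⧸ N) hlt _ _ _ (p.map π hπ)
      rw [← map_closure S₁ π hπ, ← map_closure S₂ π hπ, ← map_commutator] at hmap
      have hint' : S₁.map π ⊓ S₂.map π ≤ D.map π := by
        rintro _ ⟨⟨a, ha, rfl⟩, b, hb, hba⟩
        have : π a ∈ (D ⊔ N).map π := mem_map_of_mem π (hint a ha b hb (QuotientGroup.eq.1 hba))
        rwa [Subgroup.map_sup, hπdef, (Subgroup.map_eq_bot_iff N).2 (QuotientGroup.ker_mk' N).ge, sup_bot_eq] at this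
      have hle : normalClosure ((S₁.map π ⊓ S₂.map π : Subgroup (G ⧸ N)) : Set (G ⧸ N)) ≤ M.map π := by
        rw [hM, map_closure D π hπ]
        exact normalClosure_mono hint'
      intro x hx
      have hx' : π x ∈ M.map π ⊔ pPrimeCore 2 (G ⧸ N) := sup_le_sup_right hle _ (hmap (mem_map_of_mem π hx))
      rw [← map_comap_eq_self_of_surjective hπ (pPrimeCore 2 (G ⧸ N)), ← Subgroup.map_sup] at hx'
      have : x ∈ (M ⊔ (pPrimeCore 2 (G ⧸ N)).comap π) ⊔ π.ker := by
        rw [← comap_map_eq]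
        exact hx'
      rw [QuotientGroup.ker_mk'] at this
      have hle' : (M ⊔ (pPrimeCore 2 (G ⧸ N)).comap π) ⊔ N ≤ M ⊔ N ⊔ (pPrimeCore 2 (G ⧸ N)).comap π :=
        sup_le (sup_le (le_sup_left.trans le_sup_left) le_sup_right) (le_sup_right.trans le_sup_left)
      exact hle' this
    by_cases hO : pPrimeCore 2 G = ⊥
    · haveI : M.Normal := normalClosure_normal
      rw [hO, sup_bot_eq]
      have hDM : D ≤ M := fun x hx => subset_normalClosure hx
      by_cases hZ : pCore 2 G ⊓ M = ⊥
      · have hZ' : pCore 2 ↥M = ⊥ := (map_eq_bot_iff_of_injective _ M.subtype_injective).1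
          (le_bot_iff.1 ((le_inf (CfsgLib.Core.map_subtype_pCore_le M) (map_subtype_le _)).trans hZ.le))
        obtain ⟨P⟩ := exists_split hG hW h hO hZ'
        exact p.commutator_le_of_split hG hW hO M P hDM
      · set Z := pCore 2 G ⊓ M with hZdef
        obtain ⟨SM, hSM⟩ := exists_sylow_subgroupOf S M
        have hcl := h.subgroup SM hSM
        have hOM : pPrimeCore 2 ↥M = ⊥ := (map_eq_bot_iff_of_injective _ M.subtype_injective).1
          (le_bot_iff.1 ((CfsgLib.Core.map_subtype_pPrimeCore_le (p := 2) M).trans hO.le))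
        obtain ⟨hZD', -⟩ := hcl.pCore_le hG hW h.normalClosure_subgroupOf hOM
        have hZD : Z ≤ D := fun z hz => hZD'
          (CfsgLib.Core.pCore_subgroupOf_le M (show (⟨z, hz.2⟩ : M) ∈ (pCore 2 G).subgroupOf M from hz.1))
        set C := centralizer (Z : Set G) with hC
        have hS₁C : S₁ ≤ C := fun a ha => mem_centralizer_iff.2 fun z hz => (p.comm a ha z (hZD hz).2).symm
        have hS₂C : S₂ ≤ C := fun b hb => mem_centralizer_iff.2 fun z hz => p.comm z (hZD hz).1 b hb
        have hMC : M ≤ C := normalClosure_le_normal fun d hd => hS₁C hd.1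
        have hNC : ⁅normalClosure (S₁ : Set G), normalClosure (S₂ : Set G)⁆ ≤ C :=
          (commutator_mono (normalClosure_le_normal hS₁C) (normalClosure_le_normal hS₂C)).trans (commutator_le_self C)
        intro x hx
        have hx' := hquot Z hZ (fun a ha b hb hab => mem_sup_left ⟨ha, by
          simpa using S₂.mul_mem hb (hZD hab).2⟩) hx
        rw [sup_eq_left.2 (inf_le_right : Z ≤ M)] at hx'
        obtain ⟨m, hm, y, hy, rfl⟩ := mem_sup_of_normal_left.1 hx'
        refine M.mul_mem hm ?_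
        -- `y` centralises `Z`, so lies in it
        have hyC : y ∈ C := by simpa using C.mul_mem (C.inv_mem (hMC hm)) (hNC hx)
        haveI : C.Normal := inferInstance
        set Z' := Z.subgroupOf C with hZ'
        haveI : Z'.Normal := (inferInstance : Z.Normal).subgroupOf C
        have hOC : pPrimeCore 2 ↥C = ⊥ := (map_eq_bot_iff_of_injective _ C.subtype_injective).1
          (le_bot_iff.1 ((CfsgLib.Core.map_subtype_pPrimeCore_le (p := 2) C).trans hO.le))
        have hbot := pPrimeCore_quotient_central (G := C) (Z := Z')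
          (fun z hz => mem_center_iff.2 fun w => Subtype.ext (mem_centralizer_iff.1 w.2 z hz).symm)
          ((CfsgLib.Core.isPGroup_pCore 2 G).to_le inf_le_left |>.comap_subtype) hOC
        let φ : ↥C ⧸ Z' →* G ⧸ Z := QuotientGroup.map Z' Z C.subtype fun z hz => hz
        have hφ : Function.Injective φ := by
          rw [injective_iff_map_eq_one]
          intro v
          obtain ⟨w, rfl⟩ := QuotientGroup.mk_surjective v
          intro hv
          have hv' : ((w : G) : G ⧸ Z) = 1 := hv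
          exact (QuotientGroup.eq_one_iff w).2 (show (w : G) ∈ Z from (QuotientGroup.eq_one_iff _).1 hv')
        have hN : (pPrimeCore 2 (G ⧸ Z)).comap φ ≤ pPrimeCore 2 (↥C ⧸ Z') :=
          CfsgLib.Core.le_pPrimeCore ((CfsgLib.Core.coprime_card_pPrimeCore 2 (G ⧸ Z)).coprime_dvd_left
            (card_comap_dvd_of_injective _ _ hφ))
        have hy1 : ((⟨y, hyC⟩ : C) : ↥C ⧸ Z') = 1 := mem_bot.1 (hbot ▸ hN
          (show φ ((⟨y, hyC⟩ : C) : ↥C ⧸ Z') ∈ pPrimeCore 2 (G ⧸ Z) from hy))
        exact inf_le_right (α := Subgroup G) ((QuotientGroup.eq_one_iff _).1 hy1 :)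
    · intro x hx
      set O := pPrimeCore 2 G with hOdef
      have hbot : pPrimeCore 2 (G ⧸ O) = ⊥ := CfsgLib.Core.pPrimeCore_quotient_pPrimeCore 2 G
      have hx' := hquot O hO (fun a ha b hb hab => by
        have h1 : b⁻¹ * a = 1 := by
          have hSa : b⁻¹ * a ∈ (S : Subgroup G) :=
            (S : Subgroup G).mul_mem ((S : Subgroup G).inv_mem (p.cl₂.1 hb)) (p.cl₁.1 ha)
          obtain ⟨k, hk⟩ := IsPGroup.iff_orderOf.1 S.2 ⟨_, hSa⟩
          rw [Subgroup.orderOf_mk] at hk
          rw [← orderOf_eq_one_iff, hk]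
          refine Nat.eq_one_of_dvd_coprimes
            ((CfsgLib.Core.coprime_card_pPrimeCore 2 G).symm.pow_left k) dvd_rfl ?_
          rw [← hk, ← Subgroup.orderOf_mk (b⁻¹ * a) hab]
          exact orderOf_dvd_natCard _
        exact mem_sup_left ⟨ha, (inv_mul_eq_one.1 h1) ▸ hb⟩) hx
      rw [hbot, MonoidHom.comap_bot, QuotientGroup.ker_mk'] at hx'
      simpa using hx'

/-- **Commuting strongly closed subgroups (S2767), from the inputs.** -/
theorem commutator_closure_le (hG : CfsgLib.SThreeFree.GoldschmidtInput.{u})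
    (hW : CfsgLib.Walter.WalterList.{u}) {G : Type u} [Group G] [Finite G] (S : Sylow 2 G) (S₁ S₂ : Subgroup G)
    (h₁ : Cfsg.IsStronglyClosed S₁ (S : Subgroup G)) (h₂ : Cfsg.IsStronglyClosed S₂ (S : Subgroup G))
    (hc : ∀ a ∈ S₁, ∀ b ∈ S₂, a * b = b * a) :
    ⁅Subgroup.normalClosure (S₁ : Set G), Subgroup.normalClosure (S₂ : Set G)⁆ ≤
      Subgroup.normalClosure ((S₁ ⊓ S₂ : Subgroup G) : Set G) ⊔ Cfsg.pPrimeCore 2 G :=
  commutator_le_aux hG hW (Nat.card G + 1) G (Nat.lt_succ_self _) S S₁ S₂ ⟨h₁, h₂, hc⟩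

end CfsgLib.TwoFusion.StructGold
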