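import Cfsg.Agent.Lib.TwoFusion.StructGold.Families
import Mathlib.GroupTheory.SpecificGroups.Cyclic

/-!
Owner: helper7. S2775: a simple normal subgroup `L` meeting `A`.

* `inf_eq`: `A ∩ L` consists of the involutions of `S ∩ L` and the identity.
* `exists_mul_mem_centralizer`: `A ≤ (A ∩ L) C(L)`; no knowledge of the automorphisms of `L` is used: an element
  of `A` induces on `S ∩ L` an equivariant map to the involutions, so centralises `S ∩ L`, and the product of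
  its images under `N(A)` is unfused, so central.
-/

set_option autoImplicit false
set_option linter.unusedSectionVars false
set_option linter.style.haveILetI false

namespace CfsgLib.TwoFusion.StructGold

open Subgroup Cfsg
open scoped commutatorElement

universe u

variable {G : Type u} [Group G] [Finite G] {S : Sylow 2 G} {A L : Subgroup G} [L.Normal]

/-- Intersections with `S` are Sylow subgroups between `L` and `L S`. -/
theorem exists_sylow_between {H : Subgroup G} (hLH : L ≤ H)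
    (hH : ∀ g ∈ H, ∃ l ∈ L, ∃ s ∈ (S : Subgroup G), g = l * s) :
    ∃ Q : Sylow 2 H, (Q : Subgroup H) = (S : Subgroup G).subgroupOf H := by
  haveI := Fact.mk Nat.prime_two
  obtain ⟨Q, hQ⟩ := exists_sylow_subgroupOf S L
  have hidx : ¬ 2 ∣ ((S : Subgroup G).subgroupOf H).index := by
    intro hd
    refine Q.not_dvd_index ?_
    rw [hQ]
    show 2 ∣ (S : Subgroup G).relIndex L
    have hsup : L ⊔ ((S : Subgroup G) ⊓ H) = H := by
      refine le_antisymm (sup_le hLH inf_le_right) fun g hg => ?_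
      obtain ⟨l, hl, s, hs, rfl⟩ := hH g hg
      exact mul_mem (mem_sup_left hl) (mem_sup_right ⟨hs, by simpa using H.mul_mem (H.inv_mem (hLH hl)) hg⟩)
    have c1 := CfsgLib.Core.card_sup_mul_card_inf ((S : Subgroup G) ⊓ H) L (CfsgLib.Core.le_normalizer_of_normal _ L)
    rw [sup_comm, hsup, inf_assoc, inf_eq_right.2 hLH] at c1
    have c2 : Nat.card ↥((S : Subgroup G) ⊓ H) * ((S : Subgroup G) ⊓ H).relIndex H = Nat.card H := by
      rw [← relIndex_bot_left, ← relIndex_bot_left H]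
      exact relIndex_mul_relIndex _ _ _ bot_le inf_le_right
    have c3 : Nat.card ↥((S : Subgroup G) ⊓ L) * ((S : Subgroup G) ⊓ L).relIndex L = Nat.card L := by
      rw [← relIndex_bot_left, ← relIndex_bot_left L]
      exact relIndex_mul_relIndex _ _ _ bot_le inf_le_right
    have key : ((S : Subgroup G) ⊓ H).relIndex H = ((S : Subgroup G) ⊓ L).relIndex L := by
      refine Nat.eq_of_mul_eq_mul_left
        (Nat.mul_pos (Nat.card_pos (α := ↥((S : Subgroup G) ⊓ L))) (Nat.card_pos (α := ↥((S : Subgroup G) ⊓ H)))) ?_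
      rw [mul_assoc, c2, mul_comm, c1, mul_comm _ (Nat.card L), ← c3]
      ring
    rw [← inf_relIndex_right, ← key, inf_relIndex_right]
    exact hd
  exact ⟨(S.2.comap_subtype (K := H)).toSylow hidx, rfl⟩

/-- The facts, for the subgroups of the ambient group. -/
theorem facts_of_good (hgood : Good L) :
    ∃ Q : Sylow 2 L, (Q : Subgroup L) = (S : Subgroup G).subgroupOf L ∧ SylFacts (Q : Subgroup L) := by
  obtain ⟨Q, hQ⟩ := exists_sylow_subgroupOf S L
  exact ⟨Q, hQ, (hgood.syl Q).1⟩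

/-- A simple nonabelian group of even order has no odd core. -/
theorem pPrimeCore_eq_bot {M : Type u} [Group M] [Finite M] [IsSimpleGroup M] {t : M} (ht : orderOf t = 2) :
    pPrimeCore 2 M = ⊥ := by
  haveI := CfsgLib.Core.normal_pPrimeCore 2 M
  refine (IsSimpleGroup.eq_bot_or_eq_top_of_normal _ inferInstance).resolve_right fun htop => ?_
  have h := CfsgLib.Core.coprime_card_pPrimeCore 2 M
  rw [htop, card_top] at h
  have h2 : 2 ∣ Nat.card M := ht ▸ orderOf_dvd_natCard t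
  exact absurd (Nat.eq_one_of_dvd_coprimes h h2 dvd_rfl) (by norm_num)

namespace Closed

variable (h : Closed S A)

include h

theorem exists_involution (hne : A ⊓ L ≠ ⊥) : ∃ i ∈ A ⊓ L, orderOf i = 2 := by
  haveI := Fact.mk Nat.prime_two
  haveI : Nontrivial ↥(A ⊓ L) := (A ⊓ L).nontrivial_iff_ne_bot.2 hne
  obtain ⟨k, hk⟩ := (S.2.to_le (inf_le_left.trans h.le : A ⊓ L ≤ (S : Subgroup G))).exists_card_eq
  have hd : 2 ∣ Nat.card ↥(A ⊓ L) := by
    rw [hk]
    refine dvd_pow_self 2 ?_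
    rintro rfl
    rw [pow_zero] at hk
    exact (Finite.one_lt_card (α := ↥(A ⊓ L))).ne' hk
  obtain ⟨i, hi⟩ := exists_prime_orderOf_dvd_card' 2 hd
  exact ⟨i, i.2, by rw [orderOf_coe, hi]⟩

/-- `A ∩ L` is the set of elements of order at most two of `S ∩ L`. -/
theorem inf_eq (hgood : Good L) (hne : A ⊓ L ≠ ⊥) {x : G} :
    x ∈ A ⊓ L ↔ x ∈ (S : Subgroup G) ∧ x ∈ L ∧ x * x = 1 := by
  obtain ⟨Q, hQ, hf⟩ := facts_of_good (S := S) hgood
  have hmem : ∀ y : L, y ∈ (Q : Subgroup L) ↔ (y : G) ∈ (S : Subgroup G) := fun y => by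
    rw [hQ]; rfl
  obtain ⟨i, hi, hi2⟩ := h.exists_involution hne
  have hinv : ∀ y : L, y ∈ (Q : Subgroup L) → y * y = 1 → y ∈ A.subgroupOf L := by
    intro y hy hyy
    by_cases hy1 : y = 1
    · exact hy1 ▸ one_mem _
    have hy2 : orderOf y = 2 := orderOf_eq_prime (by rw [pow_two, hyy]) hy1
    obtain ⟨g, hg⟩ := isConj_iff.1 (hgood.conj ⟨i, hi.2⟩ y (by rw [Subgroup.orderOf_mk, hi2]) hy2)
    have hg' : (g : G) * i * (g : G)⁻¹ = y := congrArg Subtype.val hg
    show (y : G) ∈ A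
    rw [← hg']
    refine h.conj_mem hi.1 ?_
    rw [hg']
    exact (hmem y).1 hy
  refine ⟨fun hx => ⟨h.le hx.1, hx.2, ?_⟩, fun ⟨hxS, hxL, hxx⟩ =>
    ⟨hinv ⟨x, hxL⟩ ((hmem _).2 hxS) (Subtype.ext hxx), hxL⟩⟩
  have hle : A.subgroupOf L ≤ (Q : Subgroup L) := fun y hy => (hmem y).2 (h.le hy)
  have key : ∀ y ∈ A.subgroupOf L, y * y = 1 := by
    rcases hf.irr (A.subgroupOf L) hle hinv (fun n hn k hk => h.conj_mem hk ((hmem _).1
      ((mem_normalizer_iff.1 hn k).1 (hle hk)))) with h' | h'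
    · exact h'
    rcases hf.elem_or with he | ⟨y, hy, z, hz, hne'⟩
    · exact fun y hy => he y (hle hy)
    · exact absurd (Subtype.ext (h.commute (h'.ge hy : y ∈ A.subgroupOf L) (h'.ge hz : z ∈ A.subgroupOf L)).eq) hne'
  exact congrArg Subtype.val (key ⟨x, hx.2⟩ hx.1)

/-- When `G = L A`, every element of `A` is central up to `A ∩ L`. -/
theorem exists_central_mul (hgood : Good L) (hne : A ⊓ L ≠ ⊥) (hO : pPrimeCore 2 L = ⊥)
    (htop : L ⊔ A = ⊤) {a : G} (ha : a ∈ A) : ∃ z ∈ A ⊓ L, ∀ g : G, Commute (z * a) g := by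
  classical
  haveI := Fact.mk Nat.prime_two
  obtain ⟨Q, hQ, hf⟩ := facts_of_good (S := S) hgood
  set T : Subgroup G := (S : Subgroup G) ⊓ L with hT
  have hmem : ∀ y : L, y ∈ (Q : Subgroup L) ↔ (y : G) ∈ (S : Subgroup G) := fun y => by
    rw [hQ]; rfl
  have hcomm : ∀ g k : G, g * k * g⁻¹ * k⁻¹ ∈ L := by
    intro g k
    rw [← QuotientGroup.eq_one_iff]
    have hmk : ∀ x : G, ∃ b ∈ A, (x : G ⧸ L) = b := fun x => by
      have hx : x ∈ ((L ⊔ A : Subgroup G) : Set G) := htop ▸ mem_top x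
      rw [sup_comm, Subgroup.mul_normal] at hx
      obtain ⟨b, hb, l, hl, rfl⟩ := hx
      exact ⟨b, hb, by rw [QuotientGroup.mk_mul, (QuotientGroup.eq_one_iff l).2 hl, mul_one]⟩
    obtain ⟨b, hb, hbe⟩ := hmk g
    obtain ⟨c, hc, hce⟩ := hmk k
    simp only [QuotientGroup.mk_mul, QuotientGroup.mk_inv, hbe, hce]
    rw [← QuotientGroup.mk_mul, (h.commute hb hc).eq, QuotientGroup.mk_mul]
    group
  have hZ : ∀ {x : G}, x ∈ A ⊓ L → ∀ {y : G}, y ∈ T → Commute x y := by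
    intro x hx y hy
    obtain ⟨hxS, hxL, hxx⟩ := (h.inf_eq hgood hne).1 hx
    exact congrArg Subtype.val (hf.central ⟨x, hxL⟩ ((hmem _).2 hxS) ⟨y, hy.2⟩ ((hmem _).2 hy.1) (Subtype.ext hxx))
  have hAT : ∀ {b : G}, b ∈ A → ∀ {x : G}, x ∈ T → b * x * b⁻¹ * x⁻¹ ∈ A ⊓ L := fun {b} hb {x} hx => by
    refine ⟨?_, hcomm b x⟩
    rw [show b * x * b⁻¹ * x⁻¹ = b * (x * b * x⁻¹)⁻¹ by group]
    exact A.mul_mem hb (A.inv_mem (h.sylow_conj_mem hx.1 hb))
  have hST : (S : Subgroup G) ≤ normalizer (T : Set G) :=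
    (le_inf le_normalizer (CfsgLib.Core.le_normalizer_of_normal _ L)).trans inf_normalizer_le_normalizer_inf
  -- each element of `N_L(T)` acts on `T` as an element normalising `A` and `T`
  have cover : ∀ n ∈ normalizer (T : Set G), ∃ m ∈ normalizer (A : Set G),
      ∀ x ∈ T, m * x * m⁻¹ = n * x * n⁻¹ := by
    intro n hn
    let K : Subgroup G :=
      { carrier := {g | g ∈ normalizer (T : Set G) ∧ (∀ x ∈ T, g * x * g⁻¹ * x⁻¹ ∈ A ⊓ L) ∧
          ∀ z ∈ A ⊓ L, g * z * g⁻¹ = z}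
        one_mem' := ⟨one_mem _, fun x _ => by simp, fun z _ => by simp⟩
        mul_mem' := by
          rintro g k ⟨hg, hg1, hg2⟩ ⟨hk, hk1, hk2⟩
          refine ⟨mul_mem hg hk, fun x hx => ?_, fun z hz => ?_⟩
          · rw [show g * k * x * (g * k)⁻¹ * x⁻¹ = g * (k * x * k⁻¹ * x⁻¹) * g⁻¹ * (g * x * g⁻¹ * x⁻¹) by group,
              hg2 _ (hk1 x hx)]
            exact mul_mem (hk1 x hx) (hg1 x hx)
          · rw [show g * k * z * (g * k)⁻¹ = g * (k * z * k⁻¹) * g⁻¹ by group, hk2 z hz, hg2 z hz]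
        inv_mem' := by
          rintro g ⟨hg, hg1, hg2⟩
          have h2 : ∀ z ∈ A ⊓ L, g⁻¹ * z * g⁻¹⁻¹ = z := fun z hz => by
            conv_lhs => rw [← hg2 z hz]
            group
          refine ⟨inv_mem hg, fun x hx => ?_, h2⟩
          rw [show g⁻¹ * x * g⁻¹⁻¹ * x⁻¹ = g⁻¹ * (g * x * g⁻¹ * x⁻¹)⁻¹ * g⁻¹⁻¹ by group,
            h2 _ (inv_mem (hg1 x hx))]
          exact inv_mem (hg1 x hx) }
    have hAK : A ≤ K := fun b hb => ⟨hST (h.le hb), fun x hx => hAT hb hx, fun z hz => by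
      rw [(h.commute hb hz.1).eq, mul_inv_cancel_right]⟩
    have hnK : ∀ w ∈ normalizer (T : Set G), ∀ g ∈ K, w * g * w⁻¹ ∈ K := by
      rintro w hw g ⟨hg, hg1, hg2⟩
      have hw' : ∀ z ∈ A ⊓ L, w⁻¹ * z * w ∈ A ⊓ L ∧ w * z * w⁻¹ ∈ A ⊓ L := by
        intro z hz
        obtain ⟨hzS, hzL, hzz⟩ := (h.inf_eq hgood hne).1 hz
        have e1 : w⁻¹ * z * w ∈ T := by simpa using (mem_normalizer_iff.1 (inv_mem hw) z).1 ⟨hzS, hzL⟩
        have e2 : w * z * w⁻¹ ∈ T := (mem_normalizer_iff.1 hw z).1 ⟨hzS, hzL⟩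
        refine ⟨(h.inf_eq hgood hne).2 ⟨e1.1, e1.2, ?_⟩, (h.inf_eq hgood hne).2 ⟨e2.1, e2.2, ?_⟩⟩
        · calc w⁻¹ * z * w * (w⁻¹ * z * w) = w⁻¹ * (z * z) * w := by group
            _ = 1 := by rw [hzz]; group
        · calc w * z * w⁻¹ * (w * z * w⁻¹) = w * (z * z) * w⁻¹ := by group
            _ = 1 := by rw [hzz]; group
      refine ⟨mul_mem (mul_mem hw hg) (inv_mem hw), fun x hx => ?_, fun z hz => ?_⟩
      · have hx' : w⁻¹ * x * w ∈ T := by simpa using (mem_normalizer_iff.1 (inv_mem hw) x).1 hx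
        rw [show w * g * w⁻¹ * x * (w * g * w⁻¹)⁻¹ * x⁻¹ =
          w * (g * (w⁻¹ * x * w) * g⁻¹ * (w⁻¹ * x * w)⁻¹) * w⁻¹ by group]
        exact (hw' _ (hg1 _ hx')).2
      · rw [show w * g * w⁻¹ * z * (w * g * w⁻¹)⁻¹ = w * (g * (w⁻¹ * z * w) * g⁻¹) * w⁻¹ by group,
          hg2 _ (hw' z hz).1]
        group
    -- a Sylow subgroup of `K` inside `S`
    set W := normalizer (T : Set G) with hW
    haveI : (K.subgroupOf W).Normal := ⟨fun g hg w => hnK w w.2 g hg⟩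
    obtain ⟨P, hP⟩ := exists_sylow_subgroupOf (S.subtype hST) (K.subgroupOf W)
    have hKW : K ≤ W := fun g hg => hg.1
    have hPi : ¬ 2 ∣ ((S : Subgroup G) ⊓ K).relIndex K := by
      have h1 := P.not_dvd_index
      rw [hP, Sylow.coe_subtype] at h1
      intro hd
      refine h1 ?_
      show 2 ∣ ((S : Subgroup G).subgroupOf W).relIndex (K.subgroupOf W)
      rw [relIndex_subgroupOf hKW]
      rwa [inf_relIndex_right] at hd
    obtain ⟨k, hk, hkP⟩ := CfsgLib.Transfer.exists_conj_le (N := K)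
      (S := ((S : Subgroup G) ⊓ K).map (MulAut.conj n).toMonoidHom) (S.2.to_inf_left) hPi
      (by rintro _ ⟨g, hg, rfl⟩; exact hnK n hn g hg.2) (S.2.to_inf_left.map _)
    have hm0 : k⁻¹ * n ∈ normalizer (A : Set G) := h.mem_normalizer_of_forall fun b hb => by
      have := (hkP _ (mem_map_of_mem (MulAut.conj n).toMonoidHom ⟨h.le hb, hAK hb⟩)).1
      show k⁻¹ * n * b * (k⁻¹ * n)⁻¹ ∈ (S : Subgroup G)
      have e : k⁻¹ * (n * b * n⁻¹) * k = k⁻¹ * n * b * (k⁻¹ * n)⁻¹ := by group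
      exact e ▸ this
    -- `K = (S ∩ K) C_K(T)`, as the squares in `K` centralise `T`
    haveI hCn : ((centralizer (T : Set G)).subgroupOf K).Normal := normal_subgroupOf_of_le_normalizer
      (hKW.trans (by
        intro w hw
        refine mem_normalizer_iff.2 fun g => ?_
        simp only [mem_centralizer_iff]
        constructor
        · intro hg x hx
          have hx' : w⁻¹ * x * w ∈ T := by simpa using (mem_normalizer_iff.1 (inv_mem hw) x).1 hx
          calc x * (w * g * w⁻¹) = w * ((w⁻¹ * x * w) * g) * w⁻¹ := by group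
            _ = w * (g * (w⁻¹ * x * w)) * w⁻¹ := by rw [hg _ hx']
            _ = w * g * w⁻¹ * x := by group
        · intro hg x hx
          have hx' : w * x * w⁻¹ ∈ T := (mem_normalizer_iff.1 hw x).1 hx
          calc x * g = w⁻¹ * ((w * x * w⁻¹) * (w * g * w⁻¹)) * w := by group
            _ = w⁻¹ * ((w * g * w⁻¹) * (w * x * w⁻¹)) * w := by rw [hg _ hx']
            _ = g * x := by group))
    have hq : IsPGroup 2 (K ⧸ (centralizer (T : Set G)).subgroupOf K) := fun g => ⟨1, by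
      obtain ⟨⟨g, hg, hg1, hg2⟩, rfl⟩ := QuotientGroup.mk_surjective g
      rw [pow_one, ← QuotientGroup.mk_pow, QuotientGroup.eq_one_iff, mem_subgroupOf, SubgroupClass.coe_pow,
        mem_centralizer_iff]
      intro x hx
      set z := g * x * g⁻¹ * x⁻¹ with hz
      have hzz : z * z = 1 := ((h.inf_eq hgood hne).1 (hg1 x hx)).2.2
      have e : g ^ 2 * x * (g ^ 2)⁻¹ = x := by
        rw [show g ^ 2 * x * (g ^ 2)⁻¹ = (g * z * g⁻¹) * (z * x) by rw [hz, pow_two]; group, hg2 z (hg1 x hx),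
          ← mul_assoc, hzz, one_mul]
      rw [mul_inv_eq_iff_eq_mul] at e
      exact e.symm⟩
    let PK : Sylow 2 K := ((S.2.to_inf_left : IsPGroup 2 ↥((S : Subgroup G) ⊓ K)).comap_subtype (K := K)).toSylow hPi
    have hsurj := QuotientGroup.mk'_surjective ((centralizer (T : Set G)).subgroupOf K)
    have htopQ : ((PK.mapSurjective hsurj : Sylow 2 _) :
        Subgroup (K ⧸ (centralizer (T : Set G)).subgroupOf K)) = ⊤ :=
      ((PK.mapSurjective hsurj).3 (hq.to_subgroup ⊤) le_top).symm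
    obtain ⟨p, hp, hpe⟩ : QuotientGroup.mk' ((centralizer (T : Set G)).subgroupOf K) ⟨k, hk⟩ ∈
        ((PK.mapSurjective hsurj : Sylow 2 _) : Subgroup _) := htopQ ▸ mem_top _
    have hc : ((p : G))⁻¹ * k ∈ centralizer (T : Set G) := (QuotientGroup.eq.1 hpe :)
    refine ⟨(p : G) * (k⁻¹ * n), mul_mem (h.sylow_le_normalizer hp.1) hm0, fun x hx => ?_⟩
    have hy : (k⁻¹ * n) * x * (k⁻¹ * n)⁻¹ ∈ T := (mem_normalizer_iff.1 (mul_mem (inv_mem (hKW hk)) hn) x).1 hx
    have e := mem_centralizer_iff.1 hc _ hy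
    calc (p : G) * (k⁻¹ * n) * x * ((p : G) * (k⁻¹ * n))⁻¹
        = (p : G) * (((k⁻¹ * n) * x * (k⁻¹ * n)⁻¹) * (((p : G))⁻¹ * k)) * (((p : G))⁻¹ * k)⁻¹ * (p : G)⁻¹ := by group
      _ = (p : G) * ((((p : G))⁻¹ * k) * ((k⁻¹ * n) * x * (k⁻¹ * n)⁻¹)) * (((p : G))⁻¹ * k)⁻¹ * (p : G)⁻¹ := by rw [e]
      _ = n * x * n⁻¹ := by group
  -- `a` centralises `T`
  have hTa : ∀ {b : G}, b ∈ A → ∀ {x : G}, x ∈ T → Commute b x := by
    intro b hb x hx
    let φ : L → L := fun y => ⟨b * y * b⁻¹ * (y : G)⁻¹, hcomm b y⟩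
    have hφT : ∀ y ∈ (Q : Subgroup L), (φ y : G) ∈ A ⊓ L := fun y hy => hAT hb ⟨(hmem y).1 hy, y.2⟩
    have h0 := hf.noTwist φ
      (fun y hy => ⟨(hmem _).2 ((h.inf_eq hgood hne).1 (hφT y hy)).1,
        Subtype.ext ((h.inf_eq hgood hne).1 (hφT y hy)).2.2⟩)
      (fun y hy w hw => Subtype.ext (by
        show b * ((y : G) * w) * b⁻¹ * ((y : G) * w)⁻¹ = _ * _
        rw [show b * ((y : G) * w) * b⁻¹ * ((y : G) * w)⁻¹ =
          (b * y * b⁻¹ * (y : G)⁻¹) * ((y : G) * (b * w * b⁻¹ * (w : G)⁻¹) * (y : G)⁻¹) by group,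
          show (y : G) * (b * w * b⁻¹ * (w : G)⁻¹) * (y : G)⁻¹ = b * w * b⁻¹ * (w : G)⁻¹ by
            rw [← (hZ (hφT w hw) ⟨(hmem y).1 hy, y.2⟩).eq, mul_inv_cancel_right]]))
      (fun y hy hyy => Subtype.ext (by
        show b * y * b⁻¹ * (y : G)⁻¹ = 1
        rw [(h.commute hb ((h.inf_eq hgood hne).2 ⟨(hmem y).1 hy, y.2, congrArg Subtype.val hyy⟩).1).eq]
        group))
      (fun n hn y hy => Subtype.ext (by
        have hnT : (n : G) ∈ normalizer (T : Set G) := by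
          rw [← CfsgLib.Transfer.map_conj_eq_self_iff]
          refine eq_of_le_of_card_ge ?_ (Nat.card_congr (T.equivMapOfInjective _ (MulAut.conj _).injective).toEquiv).le
          rintro _ ⟨w, hw, rfl⟩
          have h1 := (hmem (n * ⟨w, hw.2⟩ * n⁻¹)).1 ((mem_normalizer_iff.1 hn ⟨w, hw.2⟩).1 ((hmem _).2 hw.1))
          exact ⟨h1, (inferInstance : L.Normal).conj_mem w hw.2 n⟩
        obtain ⟨m, hm, hact⟩ := cover n hnT
        have hyT : (y : G) ∈ T := ⟨(hmem y).1 hy, y.2⟩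
        set z := m * b * m⁻¹ * b⁻¹ with hz
        have hzA : z ∈ A ⊓ L := ⟨A.mul_mem ((mem_normalizer_iff.1 hm b).1 hb) (A.inv_mem hb), hcomm m b⟩
        have hmy : m * y * m⁻¹ ∈ T := by rw [hact _ hyT]; exact (mem_normalizer_iff.1 hnT _).1 hyT
        show b * ((n : G) * y * (n : G)⁻¹) * b⁻¹ * ((n : G) * y * (n : G)⁻¹)⁻¹ =
          (n : G) * (b * y * b⁻¹ * (y : G)⁻¹) * (n : G)⁻¹
        have hφy : b * y * b⁻¹ * (y : G)⁻¹ ∈ T :=
          ⟨((h.inf_eq hgood hne).1 (hφT y hy)).1, (hφT y hy).2⟩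
        rw [← hact _ hyT, ← hact _ hφy]
        set w := m * y * m⁻¹ with hw
        have e1 : Commute z w := hZ hzA hmy
        have e2 : Commute z (b * w * b⁻¹ * w⁻¹) := h.commute hzA.1 (hAT hb hmy).1
        calc b * w * b⁻¹ * w⁻¹ = z * (b * w * b⁻¹ * w⁻¹) * z⁻¹ := by rw [e2.eq, mul_inv_cancel_right]
          _ = z * b * w * b⁻¹ * (w⁻¹ * z⁻¹) := by group
          _ = z * b * w * b⁻¹ * (z⁻¹ * w⁻¹) := by rw [e1.inv_inv.eq]
          _ = m * (b * y * b⁻¹ * (y : G)⁻¹) * m⁻¹ := by rw [hz, hw]; group))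
      ⟨x, hx.2⟩ ((hmem _).2 hx.1)
    have := congrArg Subtype.val h0
    exact mul_inv_eq_iff_eq_mul.1 (mul_inv_eq_one.1 this)
  -- the product of the images of `a` under `N(A)`
  letI : CommGroup A := { (inferInstance : Group A) with mul_comm := h.comm.is_comm.comm }
  let ρ := A.normalizerMonoidHom
  haveI : Fintype ρ.range := Fintype.ofFinite _
  have hodd : Odd (Nat.card ρ.range) := by
    rw [← Subgroup.index_ker]
    refine Nat.not_even_iff_odd.1 fun he => S.not_dvd_index ?_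
    refine ((even_iff_two_dvd.1 he).trans (index_dvd_of_le (?_ : (S : Subgroup G).subgroupOf _ ≤ ρ.ker))).trans
      (relIndex_dvd_index_of_le h.sylow_le_normalizer)
    intro s hs
    rw [normalizerMonoidHom_ker, mem_subgroupOf, mem_centralizer_iff]
    intro b hb
    have hs' : (s : G) ∈ ((L ⊔ A : Subgroup G) : Set G) := htop ▸ mem_top _
    rw [normal_mul] at hs'
    obtain ⟨l, hl, c, hc, hlc⟩ := hs'
    have hlS : l ∈ (S : Subgroup G) := by
      rw [show l = (s : G) * c⁻¹ by rw [← hlc]; group]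
      exact mul_mem hs (inv_mem (h.le hc))
    rw [← hlc]
    exact ((hTa hb ⟨hlS, hl⟩).mul_right (h.commute hb hc)).eq
  set N := Nat.card ρ.range with hN
  let a' : A := ⟨a, ha⟩
  let b : A := ∏ σ : ρ.range, (σ : MulAut A) a'
  have hb : ∀ n ∈ normalizer (A : Set G), n * (b : G) * n⁻¹ = b := by
    intro n hn
    have e : ρ ⟨n, hn⟩ b = b := by
      show ρ ⟨n, hn⟩ (∏ σ : ρ.range, (σ : MulAut A) a') = _
      rw [map_prod]
      exact Fintype.prod_equiv (Equiv.mulLeft (⟨ρ ⟨n, hn⟩, _, rfl⟩ : ρ.range)) _ _ fun σ => rfl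
    exact congrArg Subtype.val e
  have hdiff : (b * (a' ^ N)⁻¹ : A) ∈ L.subgroupOf A := by
    rw [hN, Nat.card_eq_fintype_card, ← Finset.card_univ, ← Finset.prod_const, ← Finset.prod_inv_distrib,
      ← Finset.prod_mul_distrib]
    refine prod_mem fun σ _ => ?_
    obtain ⟨⟨m, hm⟩, hmσ⟩ := σ.2
    rw [← hmσ]
    exact hcomm m a
  have hcen : ∀ g : G, Commute (b : G) g := fun g => h.commute_of_fixed hO b.2 (fun g k hk => by
    obtain ⟨n, hn, he⟩ := h.exists_normalizer_conj (pow_mem b.2 k) hk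
    rw [← he, ← conj_pow, hb n hn]) (hcomm _ g)
  have hda : (b : G) * (a ^ N)⁻¹ ∈ A ⊓ L := ⟨A.mul_mem b.2 (A.inv_mem (A.pow_mem ha N)), hdiff⟩
  obtain ⟨j, hj⟩ := exists_pow_eq_self_of_coprime (x := a) (n := N) (by
    obtain ⟨e, he⟩ := IsPGroup.iff_orderOf.1 S.2 ⟨a, h.le ha⟩
    rw [Subgroup.orderOf_mk] at he
    rw [he]
    exact (Nat.coprime_two_right.2 hodd).pow_right e)
  refine ⟨((b : G) * (a ^ N)⁻¹) ^ j, pow_mem hda j, fun g => ?_⟩
  have e : ((b : G) * (a ^ N)⁻¹) ^ j * a = (b : G) ^ j := by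
    conv_lhs => arg 2; rw [← hj]
    rw [← ((h.commute hda.1 (pow_mem ha N)).mul_pow j), inv_mul_cancel_right]
  rw [e]
  exact (hcen g).pow_left j

/-- A normal simple subgroup meeting `A` is on the list. -/
theorem good (hG : CfsgLib.SThreeFree.GoldschmidtInput.{u}) (hW : CfsgLib.Walter.WalterList.{u}) [IsSimpleGroup L]
    (hna : ¬ IsMulCommutative L) (hne : A ⊓ L ≠ ⊥) : Good L := by
  obtain ⟨Q, hQ⟩ := exists_sylow_subgroupOf S L
  refine good_of_closed hG hW hna (h.subgroup Q hQ) fun e => hne ?_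
  rw [← disjoint_iff]
  exact subgroupOf_eq_bot.1 e

/-- `A ≤ (A ∩ L) C(L)`. -/
theorem exists_mul_mem_centralizer (hG : CfsgLib.SThreeFree.GoldschmidtInput.{u})
    (hW : CfsgLib.Walter.WalterList.{u}) [IsSimpleGroup L] (hna : ¬ IsMulCommutative L) (hne : A ⊓ L ≠ ⊥) {a : G}
    (ha : a ∈ A) : ∃ z ∈ A ⊓ L, z * a ∈ centralizer (L : Set G) := by
  haveI := Fact.mk Nat.prime_two
  set H := L ⊔ A with hH
  obtain ⟨Q, hQ⟩ := exists_sylow_between (S := S) (le_sup_left : L ≤ H) fun g hg => by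
    have hg' : g ∈ (H : Set G) := hg
    rw [hH, normal_mul] at hg'
    obtain ⟨l, hl, b, hb, rfl⟩ := hg'
    exact ⟨l, hl, b, h.le hb, rfl⟩
  have hcl := h.subgroup Q hQ
  have eL : ↥(L.subgroupOf H) ≃* ↥L := subgroupOfEquivOfLe le_sup_left
  haveI : IsSimpleGroup ↥(L.subgroupOf H) := eL.isSimpleGroup_congr.2 inferInstance
  have hna' : ¬ IsMulCommutative ↥(L.subgroupOf H) := fun hc => hna ⟨⟨fun x y => eL.symm.injective (by
    rw [map_mul, map_mul]; exact hc.is_comm.comm _ _)⟩⟩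
  have hne' : A.subgroupOf H ⊓ L.subgroupOf H ≠ ⊥ := fun e => hne (by
    have e' : (A ⊓ L).subgroupOf H = ⊥ := e
    rw [subgroupOf_eq_bot] at e'
    exact disjoint_self.1 (e'.mono_right (inf_le_left.trans le_sup_right)))
  obtain ⟨i, hi, hi2⟩ := hcl.exists_involution hne'
  have hO' : pPrimeCore 2 ↥(L.subgroupOf H) = ⊥ :=
    pPrimeCore_eq_bot (t := (⟨i, hi.2⟩ : L.subgroupOf H)) (by rw [Subgroup.orderOf_mk, hi2])
  obtain ⟨z, hz, hcz⟩ := hcl.exists_central_mul (hcl.good hG hW hna' hne') hne' hO' (by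
    rw [← subgroupOf_sup le_sup_left le_sup_right, subgroupOf_self]) (a := ⟨a, mem_sup_right ha⟩) ha
  exact ⟨z, hz, mem_centralizer_iff.2 fun x hx =>
    (congrArg Subtype.val (hcz ⟨x, mem_sup_left hx⟩).eq).symm⟩

end Closed

end CfsgLib.TwoFusion.StructGold
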