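import Cfsg.Agent.Lib.TwoFusion.StructGold.Simple
import Cfsg.Agent.Lib.Core.MinNormal
import Mathlib.GroupTheory.NoncommPiCoprod

/-!
Owner: helper7. S2775: a group generated by the conjugates of `A` with trivial odd core and trivial 2-core
is the direct product of simple groups on the list, and `A` is the product of their involution sets in `S`.
-/

set_option autoImplicit false
set_option linter.unusedSectionVars false
set_option linter.style.haveILetI false

namespace CfsgLib.TwoFusion.StructGold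

open Subgroup Cfsg

universe u

variable {G : Type u} [Group G] [Finite G]

/-- The decomposition. -/
structure Decomp (S : Sylow 2 G) (A : Subgroup G) where
  n : ℕ
  L : Fin n → Subgroup G
  inj : Function.Injective L
  normal : ∀ i, (L i).Normal
  simple : ∀ i, IsSimpleGroup (L i)
  noncomm : ∀ i, ¬ IsMulCommutative (L i)
  good : ∀ i, Good (L i)
  meets : ∀ i, A ⊓ L i ≠ ⊥
  sup : ⨆ i, L i = ⊤
  inv_le : ∀ y ∈ (S : Subgroup G), y * y = 1 → y ∈ A
  le_sup : A ≤ ⨆ i, A ⊓ L i

/-- An abelian normal subgroup is trivial when both cores are. -/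
theorem abelian_normal_eq_bot (hO : pPrimeCore 2 G = ⊥) (hO2 : pCore 2 G = ⊥) {N : Subgroup G} [N.Normal]
    (hN : IsMulCommutative N) : N = ⊥ := by
  by_contra hne
  obtain ⟨M, hMn, hMb, hMN, hmin⟩ := CfsgLib.Core.exists_minimal_normal_le' N hne
  haveI := hMn
  obtain ⟨p, hp, hpx⟩ := CfsgLib.Core.exists_prime_pow_eq_one_of_minimal_normal M
    ⟨⟨fun a b => Subtype.ext (congrArg Subtype.val (hN.is_comm.comm ⟨a, hMN a.2⟩ ⟨b, hMN b.2⟩) :)⟩⟩ hMb hmin
  haveI := Fact.mk hp
  have hpg : IsPGroup p M := fun x => ⟨1, Subtype.ext (by rw [pow_one, SubgroupClass.coe_pow]; exact hpx x x.2)⟩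
  obtain ⟨k, hk⟩ := hpg.exists_card_eq
  rcases eq_or_ne p 2 with rfl | hp2
  · exact hMb (le_bot_iff.1 (hO2 ▸ CfsgLib.Core.le_pCore hpg))
  · refine hMb (le_bot_iff.1 (hO ▸ CfsgLib.Core.le_pPrimeCore ?_))
    rw [hk]
    exact ((Nat.coprime_primes hp Nat.prime_two).2 hp2).pow_left k

variable {S : Sylow 2 G} {A : Subgroup G}

/-- Minimal normal subgroups are simple and meet `A`. -/
theorem Closed.minimal_normal (h : Closed S A) (hgen : normalClosure (A : Set G) = ⊤) (hO : pPrimeCore 2 G = ⊥)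
    (hO2 : pCore 2 G = ⊥) (N : Subgroup G) [N.Normal] (hN : N ≠ ⊥)
    (hmin : ∀ K : Subgroup G, K.Normal → K ≤ N → K = ⊥ ∨ K = N) :
    IsSimpleGroup N ∧ ¬ IsMulCommutative N ∧ A ⊓ N ≠ ⊥ := by
  have hNc : ¬ IsMulCommutative N := fun hc => hN (abelian_normal_eq_bot hO hO2 hc)
  let Nm : Subgroup G → Prop := fun K => K ≤ N ∧ N ≤ normalizer (K : Set G)
  obtain ⟨L, ⟨⟨hLN, hLn⟩, hLb⟩, hLmin⟩ := WellFounded.has_min (wellFounded_lt (α := Subgroup G))
    {K | Nm K ∧ K ≠ ⊥} ⟨N, ⟨⟨le_rfl, le_normalizer⟩, hN⟩⟩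
  let C : G → Subgroup G := fun g => L.map (MulAut.conj g).toMonoidHom
  have hC1 : C 1 = L := by
    show L.map _ = L
    convert L.map_id
    ext x
    simp
  have hCC : ∀ g g' : G, (C g').map (MulAut.conj g).toMonoidHom = C (g * g') := fun g g' => by
    show (L.map _).map _ = L.map _
    rw [Subgroup.map_map]
    congr 1
    ext x
    simp [mul_assoc]
  have hback : ∀ (K : Subgroup G) (g : G), Nm K → Nm (K.map (MulAut.conj g).toMonoidHom) := by
    rintro K g ⟨h1, h2⟩
    refine ⟨?_, fun x hx => ?_⟩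
    · rintro _ ⟨x, hx, rfl⟩
      exact (inferInstance : N.Normal).conj_mem x (h1 hx) g
    · rw [← CfsgLib.Transfer.map_conj_eq_self_iff, Subgroup.map_map]
      have hx' : g⁻¹ * x * g ∈ normalizer (K : Set G) :=
        h2 (by simpa using (inferInstance : N.Normal).conj_mem x hx g⁻¹)
      conv_rhs => rw [← CfsgLib.Transfer.map_conj_eq_self_iff.2 hx', Subgroup.map_map]
      congr 1
      ext y
      simp [mul_assoc]
  have hNm : ∀ g, Nm (C g) := fun g => hback L g ⟨hLN, hLn⟩
  have hCb : ∀ g, C g ≠ ⊥ := fun g e => hLb ((map_eq_bot_iff_of_injective _ (MulAut.conj g).injective).1 e)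
  have hmin' : ∀ g K, Nm K → K ≤ C g → K = ⊥ ∨ K = C g := by
    intro g K hK hle
    have hle' : K.map (MulAut.conj g⁻¹).toMonoidHom ≤ L := by
      refine (map_mono hle).trans ?_
      rw [hCC, inv_mul_cancel, hC1]
    by_cases hb : K = ⊥
    · exact Or.inl hb
    refine Or.inr (le_antisymm hle ?_)
    have e : K.map (MulAut.conj g⁻¹).toMonoidHom = L := by
      refine eq_of_le_of_not_lt hle' fun hlt => hLmin _ ⟨hback K g⁻¹ hK, fun e => hb ?_⟩ hlt
      exact (map_eq_bot_iff_of_injective _ (MulAut.conj g⁻¹).injective).1 e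
    show L.map _ ≤ K
    rw [← e, Subgroup.map_map]
    rintro _ ⟨x, hx, rfl⟩
    simpa [mul_assoc] using hx
  have hcomm : ∀ g g', C g ≠ C g' → ∀ x ∈ C g, ∀ y ∈ C g', Commute x y := by
    intro g g' hne x hx y hy
    have hd : C g ⊓ C g' = ⊥ := by
      rcases hmin' g (C g ⊓ C g') ⟨inf_le_left.trans (hNm g).1,
        (le_inf (hNm g).2 (hNm g').2).trans inf_normalizer_le_normalizer_inf⟩ inf_le_left with e | e
      · exact e
      · rcases hmin' g' (C g) (hNm g) (inf_eq_left.1 e) with e' | e'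
        · exact absurd e' (hCb g)
        · exact absurd e' hne
    have hm : x * y * x⁻¹ * y⁻¹ ∈ C g ⊓ C g' := ⟨by
      rw [show x * y * x⁻¹ * y⁻¹ = x * (y * x⁻¹ * y⁻¹) by group]
      exact mul_mem hx ((mem_normalizer_iff.1 ((hNm g).2 ((hNm g').1 hy)) _).1 (inv_mem hx)),
      Subgroup.mul_mem _ ((mem_normalizer_iff.1 ((hNm g').2 ((hNm g).1 hx)) _).1 hy) (Subgroup.inv_mem _ hy)⟩
    rw [hd, mem_bot] at hm
    exact mul_inv_eq_iff_eq_mul.1 (mul_inv_eq_one.1 hm)
  have hsup : ⨆ g, C g = N := by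
    have hn : (⨆ g, C g).Normal := ⟨fun x hx g => by
      have h1 : (⨆ g, C g).map (MulAut.conj g).toMonoidHom ≤ ⨆ g, C g := by
        rw [Subgroup.map_iSup]
        exact iSup_le fun g' => (hCC g g').le.trans (le_iSup C (g * g'))
      exact h1 (mem_map_of_mem _ hx)⟩
    refine (hmin _ hn (iSup_le fun g => (hNm g).1)).resolve_left fun e => hLb ?_
    exact le_bot_iff.1 (e ▸ hC1 ▸ le_iSup C 1)
  have hzero : ∀ x ∈ N, (∀ g, ∀ y ∈ C g, Commute x y) → x = 1 := by
    intro x hx hc
    have hxc : x ∈ centralizer (N : Set G) ⊓ N := by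
      refine ⟨mem_centralizer_iff.2 fun y hy => ?_, hx⟩
      have hle : (⨆ g, C g) ≤ centralizer ({x} : Set G) := iSup_le fun g y hy =>
        mem_centralizer_singleton_iff.2 (hc g y hy).eq.symm
      exact mem_centralizer_singleton_iff.1 (hle (hsup ▸ hy))
    rcases hmin (centralizer (N : Set G) ⊓ N) inferInstance inf_le_right with e | e
    · rw [e, mem_bot] at hxc
      exact hxc
    · exact absurd ⟨⟨fun a b => Subtype.ext ((mem_centralizer_iff.1 (e.ge b.2).1) a a.2)⟩⟩ hNc
  -- `A` normalises every conjugate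
  let M : Subgroup G := ⨆ g, ⨆ (_ : A ⊓ C g = ⊥), C g
  have hCM : ∀ g, A ⊓ C g = ⊥ → C g ≤ M := fun g hg => le_iSup₂_of_le g hg le_rfl
  have hMN : M ≤ N := iSup₂_le fun g _ => (hNm g).1
  have hMn : N ≤ normalizer (M : Set G) := fun x hx => by
    rw [← CfsgLib.Transfer.map_conj_eq_self_iff]
    refine eq_of_le_of_card_ge ?_ (Nat.card_congr (M.equivMapOfInjective _ (MulAut.conj _).injective).toEquiv).le
    rw [Subgroup.map_iSup]
    refine iSup_le fun g => ?_
    rw [Subgroup.map_iSup]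
    exact iSup_le fun hg => (CfsgLib.Transfer.map_conj_eq_self_iff.2 ((hNm g).2 hx)).le.trans (hCM g hg)
  -- the facts inside `N`
  have hfac : ∀ K : Subgroup G, K ≤ N → N ≤ normalizer (K : Set G) →
      (∃ Q : Sylow 2 K, (Q : Subgroup K) = (S : Subgroup G).subgroupOf K) ∧ pPrimeCore 2 K = ⊥ := by
    intro K hKN hKn
    haveI : (K.subgroupOf N).Normal := normal_subgroupOf_of_le_normalizer hKn
    obtain ⟨QN, hQN⟩ := exists_sylow_subgroupOf S N
    obtain ⟨Q, hQ⟩ := exists_sylow_subgroupOf QN (K.subgroupOf N)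
    let e := subgroupOfEquivOfLe hKN
    refine ⟨⟨Q.mapSurjective (f := e.toMonoidHom) e.surjective, ?_⟩, ?_⟩
    · refine (Sylow.coe_mapSurjective _ Q).trans ?_
      rw [hQ, hQN]
      ext x
      constructor
      · rintro ⟨y, hy, rfl⟩
        exact hy
      · intro hx
        exact ⟨e.symm x, hx, e.apply_symm_apply x⟩
    · refine le_bot_iff.1 ?_
      intro x hx
      have h1 : e.symm x ∈ pPrimeCore 2 (K.subgroupOf N) :=
        CfsgLib.Core.map_pPrimeCore_le e.symm.toMonoidHom e.symm.surjective (mem_map_of_mem _ hx)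
      have h2 := CfsgLib.Core.map_subtype_pPrimeCore_le (p := 2) N (mem_map_of_mem N.subtype
        (CfsgLib.Core.map_subtype_pPrimeCore_le (p := 2) (K.subgroupOf N) (mem_map_of_mem _ h1)))
      rw [hO, mem_bot] at h2
      exact mem_bot.2 (Subtype.ext h2)
  have hAM : A ⊓ M = ⊥ := by
    rw [eq_bot_iff]
    rintro a ⟨haA, haM⟩
    refine mem_bot.2 (hzero a (hMN haM) fun g => ?_)
    by_cases hg : A ⊓ C g = ⊥
    · obtain ⟨⟨Q, hQ⟩, hOg⟩ := hfac (C g) (hNm g).1 (hNm g).2
      exact fun y hy => h.le_centralizer Q hQ hOg hg haA ((hNm g).2 (hMN haM)) hy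
    · intro y hy
      have hle : M ≤ centralizer (C g : Set G) := iSup₂_le fun g' hg' x hx => mem_centralizer_iff.2 fun z hz =>
        (hcomm g g' (fun e => hg (e ▸ hg')) z hz x hx).eq
      exact (mem_centralizer_iff.1 (hle haM) y hy).symm
  have hAn : ∀ a ∈ A, ∀ g, a ∈ normalizer (C g : Set G) := by
    intro a ha g
    have hnM : a ∈ normalizer (M : Set G) := by
      rw [← CfsgLib.Transfer.map_conj_eq_self_iff]
      refine eq_of_le_of_card_ge ?_ (Nat.card_congr (M.equivMapOfInjective _ (MulAut.conj _).injective).toEquiv).le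
      rw [Subgroup.map_iSup]
      refine iSup_le fun g' => ?_
      rw [Subgroup.map_iSup]
      refine iSup_le fun hg' => (hCC a g').le.trans (hCM _ ?_)
      rw [eq_bot_iff]
      rintro y ⟨hy, z, hz, rfl⟩
      have hz' : a * (MulAut.conj g' z) * a⁻¹ ∈ A := by simpa [mul_assoc] using hy
      have : MulAut.conj g' z ∈ A ⊓ C g' := ⟨by
        simpa [mul_assoc] using A.mul_mem (A.mul_mem (A.inv_mem ha) hz') ha, z, hz, rfl⟩
      rw [hg', mem_bot] at this
      simp only [MulEquiv.coe_toMonoidHom, mem_bot]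
      have hz1 : z = 1 := (MulAut.conj g').injective (this.trans (map_one _).symm)
      rw [hz1, map_one]
    by_cases hg : A ⊓ C g = ⊥
    · obtain ⟨⟨Q, hQ⟩, hOM⟩ := hfac M hMN hMn
      refine centralizer_le_normalizer _ (mem_centralizer_iff.2 fun y hy => ?_)
      exact (h.le_centralizer Q hQ hOM hAM ha hnM (hCM g hg hy)).eq.symm
    · rw [← CfsgLib.Transfer.map_conj_eq_self_iff, hCC]
      by_contra hne
      refine hg (eq_bot_iff.2 ?_)
      rintro x ⟨hxA, hxC⟩
      have hxC' : x ∈ C (a * g) := by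
        rw [← hCC]
        exact ⟨x, hxC, by simp [(h.commute ha hxA).eq]⟩
      have := hcomm (a * g) g hne
      refine mem_bot.2 (hzero x ((hNm g).1 hxC) fun g' y hy => ?_)
      by_cases hgg : C g' = C g
      · exact (this x hxC' y (hgg ▸ hy)).symm.symm
      · exact hcomm g g' (Ne.symm hgg) x hxC y hy
  have hnorm : L.Normal := by
    rw [← normalizer_eq_top_iff, eq_top_iff, ← hgen]
    refine normalClosure_le_normal ?_ |>.trans (normalCore_le _)
    intro a ha
    refine fun g => ?_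
    have h1 := hAn a ha g⁻¹
    rw [← CfsgLib.Transfer.map_conj_eq_self_iff, hCC] at h1
    rw [← CfsgLib.Transfer.map_conj_eq_self_iff]
    have h2 : C g⁻¹ = L.map (MulAut.conj g⁻¹).toMonoidHom := rfl
    have h3 := congrArg (Subgroup.map (MulAut.conj g).toMonoidHom) h1
    rw [hCC, hCC, mul_inv_cancel, hC1, ← mul_assoc] at h3
    exact h3
  have hLeq : L = N := (hmin L hnorm hLN).resolve_left hLb
  subst hLeq
  refine ⟨?_, hNc, fun hb => hNc ?_⟩
  · haveI : Nontrivial L := L.nontrivial_iff_ne_bot.2 hLb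
    refine ⟨fun K hK => ?_⟩
    have hK' : Nm (K.map L.subtype) := ⟨map_subtype_le K, fun x hx => by
      haveI := hK
      have := le_normalizer_map L.subtype (mem_map_of_mem L.subtype
        (show (⟨x, hx⟩ : L) ∈ normalizer (K : Set L) by rw [normalizer_eq_top]; exact mem_top _))
      exact this⟩
    rcases hmin' 1 _ hK' (hC1.symm ▸ map_subtype_le K) with e | e
    · exact Or.inl ((map_eq_bot_iff_of_injective _ L.subtype_injective).1 e)
    · refine Or.inr (map_injective L.subtype_injective ?_)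
      rw [e, hC1, ← MonoidHom.range_eq_map, range_subtype]
  · obtain ⟨⟨Q, hQ⟩, hOL⟩ := hfac L le_rfl le_normalizer
    have hcen : (centralizer (L : Set G)) = ⊤ := by
      rw [eq_top_iff, ← hgen]
      refine normalClosure_le_normal fun a ha => mem_centralizer_iff.2 fun y hy => ?_
      exact (h.le_centralizer Q hQ hOL hb ha (normalizer_eq_top (H := L) ▸ mem_top a) hy).eq.symm
    exact ⟨⟨fun x y => Subtype.ext (mem_centralizer_iff.1 (hcen.ge (mem_top (y : G))) x x.2)⟩⟩

/-- Membership in a product from its local versions. -/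
theorem Closed.exists_local (h : Closed S A) {ι : Type*} (L : ι → Subgroup G)
    (hc : ∀ i j, i ≠ j → ∀ x ∈ L i, ∀ y ∈ L j, Commute x y) (x : G)
    (hx : ∀ i, ∃ z ∈ A ⊓ L i, z * x ∈ centralizer (L i : Set G)) (s : Finset ι) :
    ∃ z ∈ ⨆ i ∈ s, A ⊓ L i, ∀ i ∈ s, z * x ∈ centralizer (L i : Set G) := by
  classical
  induction s using Finset.induction with
  | empty => exact ⟨1, one_mem _, by simp⟩
  | @insert j s hj ih =>
    obtain ⟨z, hz, hzs⟩ := ih
    obtain ⟨w, hw, hwj⟩ := hx j
    have hzj : z ∈ centralizer (L j : Set G) := by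
      refine (iSup₂_le fun i hi => ?_ : ⨆ i ∈ s, A ⊓ L i ≤ centralizer (L j : Set G)) hz
      exact inf_le_right.trans fun y hy => mem_centralizer_iff.2 fun u hu =>
        (hc j i (fun e => hj (e ▸ hi)) u hu y hy).eq
    have hzA : z ∈ A := (iSup₂_le fun i _ => inf_le_left : ⨆ i ∈ s, A ⊓ L i ≤ A) hz
    have hle : ⨆ i ∈ s, A ⊓ L i ≤ ⨆ i ∈ insert j s, A ⊓ L i :=
      biSup_mono fun i hi => Finset.mem_insert_of_mem hi
    refine ⟨z * w, mul_mem (hle hz) (le_iSup₂_of_le (f := fun i _ => A ⊓ L i) j (Finset.mem_insert_self j s) le_rfl hw),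
      fun i hi => ?_⟩
    rcases Finset.mem_insert.1 hi with rfl | hi
    · rw [mul_assoc]
      exact mul_mem hzj hwj
    · rw [(h.commute hzA hw.1).eq, mul_assoc]
      refine mul_mem (mem_centralizer_iff.2 fun u hu => ?_) (hzs i hi)
      exact (hc i j (fun e => hj (e ▸ hi)) u hu w hw.2).eq

/-- The decomposition exists. -/
theorem Closed.exists_decomp (h : Closed S A) (hG : CfsgLib.SThreeFree.GoldschmidtInput.{u})
    (hW : CfsgLib.Walter.WalterList.{u}) (hgen : normalClosure (A : Set G) = ⊤) (hO : pPrimeCore 2 G = ⊥)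
    (hO2 : pCore 2 G = ⊥) : Nonempty (Decomp S A) := by
  classical
  let 𝓛 := {N : Subgroup G // N.Normal ∧ N ≠ ⊥ ∧ ∀ K : Subgroup G, K.Normal → K ≤ N → K = ⊥ ∨ K = N}
  let e : Fin (Nat.card 𝓛) ≃ 𝓛 := (Finite.equivFin 𝓛).symm
  let L : Fin (Nat.card 𝓛) → Subgroup G := fun i => (e i).1
  have hinj : Function.Injective L := fun i j hij => e.injective (Subtype.ext hij)
  have hn : ∀ i, (L i).Normal := fun i => (e i).2.1
  have hfacts : ∀ i, IsSimpleGroup (L i) ∧ ¬ IsMulCommutative (L i) ∧ A ⊓ L i ≠ ⊥ := fun i => by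
    haveI := hn i
    exact h.minimal_normal hgen hO hO2 (L i) (e i).2.2.1 (e i).2.2.2
  have hcm : ∀ i j, i ≠ j → ∀ x ∈ L i, ∀ y ∈ L j, Commute x y := by
    intro i j hij x hx y hy
    refine commute_of_normal_of_disjoint _ _ (hn i) (hn j) ?_ x y hx hy
    rw [disjoint_iff]
    haveI := hn i
    haveI := hn j
    rcases (e i).2.2.2 (L i ⊓ L j) inferInstance inf_le_left with h' | h'
    · exact h'
    · rcases (e j).2.2.2 (L i) (hn i) (inf_eq_left.1 h') with h'' | h''
      · exact absurd h'' (e i).2.2.1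
      · exact absurd (hinj h'') hij
  have hE : centralizer ((⨆ i, L i : Subgroup G) : Set G) = ⊥ := by
    by_contra hne
    haveI : (⨆ i, L i).Normal := by
      refine ⟨fun x hx g => ?_⟩
      have h1 : (⨆ i, L i).map (MulAut.conj g).toMonoidHom ≤ ⨆ i, L i := by
        rw [Subgroup.map_iSup]
        refine iSup_le fun i => ?_
        rintro _ ⟨y, hy, rfl⟩
        exact le_iSup L i ((hn i).conj_mem y hy g)
      exact h1 (mem_map_of_mem _ hx)
    obtain ⟨N, hNn, hNb, hNle, hmin⟩ := CfsgLib.Core.exists_minimal_normal_le' _ hne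
    obtain ⟨i, hi⟩ := e.surjective ⟨N, hNn, hNb, hmin⟩
    have hNi : L i = N := congrArg Subtype.val hi
    refine (hfacts i).2.1 ⟨⟨fun a b => Subtype.ext ?_⟩⟩
    exact mem_centralizer_iff.1 (hNle (hNi ▸ b.2)) a (le_iSup L i a.2)
  have hall : ∀ x : G, (∀ i, ∃ z ∈ A ⊓ L i, z * x ∈ centralizer (L i : Set G)) → x ∈ ⨆ i, A ⊓ L i := by
    intro x hx
    obtain ⟨z, hz, hzc⟩ := h.exists_local L hcm x hx Finset.univ
    have hzx : z * x ∈ centralizer ((⨆ i, L i : Subgroup G) : Set G) := mem_centralizer_iff.2 fun y hy => by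
      have hle : (⨆ i, L i) ≤ centralizer ({z * x} : Set G) := iSup_le fun i y hy =>
        mem_centralizer_singleton_iff.2 (mem_centralizer_iff.1 (hzc i (Finset.mem_univ i)) y hy)
      exact mem_centralizer_singleton_iff.1 (hle hy)
    rw [hE, mem_bot, mul_eq_one_iff_inv_eq] at hzx
    rw [← hzx]
    refine inv_mem ?_
    simpa using hz
  have hgood : ∀ i, Good (L i) := fun i => by
    haveI := hn i
    haveI := (hfacts i).1
    exact h.good hG hW (hfacts i).2.1 (hfacts i).2.2
  have hAsup : A ≤ ⨆ i, A ⊓ L i := fun a ha => hall a fun i => by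
    haveI := hn i
    haveI := (hfacts i).1
    exact h.exists_mul_mem_centralizer hG hW (hfacts i).2.1 (hfacts i).2.2 ha
  have hsup : ⨆ i, L i = ⊤ := by
    haveI : (⨆ i, L i).Normal := by
      refine ⟨fun x hx g => ?_⟩
      have h1 : (⨆ i, L i).map (MulAut.conj g).toMonoidHom ≤ ⨆ i, L i := by
        rw [Subgroup.map_iSup]
        refine iSup_le fun i => ?_
        rintro _ ⟨y, hy, rfl⟩
        exact le_iSup L i ((hn i).conj_mem y hy g)
      exact h1 (mem_map_of_mem _ hx)
    rw [eq_top_iff, ← hgen]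
    exact normalClosure_le_normal (hAsup.trans (iSup_mono fun i => inf_le_right))
  refine ⟨⟨_, L, hinj, hn, fun i => (hfacts i).1, fun i => (hfacts i).2.1, hgood, fun i => (hfacts i).2.2, hsup,
    fun y hy hyy => ?_, hAsup⟩⟩
  refine (iSup_le fun i => inf_le_left : ⨆ i, A ⊓ L i ≤ A) (hall y fun i => ?_)
  haveI := hn i
  haveI := Fact.mk Nat.prime_two
  -- the coordinate of `y`
  have hdec : y ∈ ((L i ⊔ centralizer (L i : Set G) : Subgroup G) : Set G) := by
    refine (?_ : (⊤ : Subgroup G) ≤ _) (mem_top y)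
    rw [← hsup]
    refine iSup_le fun j => ?_
    by_cases hij : j = i
    · exact hij ▸ le_sup_left
    · exact le_sup_of_le_right fun x hx => mem_centralizer_iff.2 fun u hu => (hcm i j (Ne.symm hij) u hu x hx).eq
  rw [normal_mul] at hdec
  obtain ⟨l, hl, c, hc, rfl⟩ := hdec
  have hlc : Commute l c := mem_centralizer_iff.1 hc l hl
  have hll : l * l = 1 := by
    have h1 : l * l ∈ L i ⊓ centralizer (L i : Set G) := by
      refine ⟨mul_mem hl hl, ?_⟩
      have e : l * l = (c * c)⁻¹ := eq_inv_of_mul_eq_one_left (by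
        rw [← hyy, mul_assoc l c, ← mul_assoc c l, ← hlc.eq]; group)
      rw [e]
      exact Subgroup.inv_mem _ (Subgroup.mul_mem _ hc hc)
    haveI : ((L i) ⊓ centralizer (L i : Set G)).Normal := inferInstance
    rcases (e i).2.2.2 (L i ⊓ centralizer (L i : Set G)) inferInstance inf_le_left with h' | h'
    · rwa [h', mem_bot] at h1
    · exact absurd ⟨⟨fun a b => Subtype.ext (mem_centralizer_iff.1 (h'.ge b.2).2 a a.2)⟩⟩ (hfacts i).2.1
  obtain ⟨Q, hQ⟩ := exists_sylow_subgroupOf S (L i)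
  have hlS : l ∈ (S : Subgroup G) := by
    let lL : L i := ⟨l, hl⟩
    have hnQ : zpowers lL ≤ normalizer ((Q : Subgroup (L i)) : Set (L i)) := by
      rw [zpowers_le, mem_normalizer_iff]
      intro w
      have e : l * (w : G) * l⁻¹ = (l * c) * w * (l * c)⁻¹ := by
        rw [show (l * c) * (w : G) * (l * c)⁻¹ = l * (c * w * c⁻¹) * l⁻¹ by group,
          ← mem_centralizer_iff.1 hc w w.2, mul_inv_cancel_right]
      rw [hQ, mem_subgroupOf, mem_subgroupOf]
      show (w : G) ∈ (S : Subgroup G) ↔ l * (w : G) * l⁻¹ ∈ (S : Subgroup G)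
      rw [e]
      exact ⟨fun hw => Subgroup.mul_mem _ (Subgroup.mul_mem _ hy hw) (Subgroup.inv_mem _ hy), fun hw => by
        simpa [mul_assoc] using Subgroup.mul_mem _ (Subgroup.mul_mem _ (Subgroup.inv_mem _ hy) hw) hy⟩
    have hz2 : IsPGroup 2 (zpowers lL) := fun z => ⟨1, by
      obtain ⟨_, k, rfl⟩ := z
      refine Subtype.ext ?_
      show (lL ^ k) ^ (2 ^ 1) = 1
      rw [pow_one, ← zpow_natCast, ← zpow_mul, mul_comm, zpow_mul, zpow_natCast, pow_two,
        show lL * lL = 1 from Subtype.ext hll, one_zpow]⟩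
    have hp : IsPGroup 2 ↥((Q : Subgroup (L i)) ⊔ zpowers lL) := Q.2.to_sup_of_normal_left' hz2 hnQ
    have : lL ∈ (Q : Subgroup (L i)) := by
      rw [← Q.3 hp le_sup_left]
      exact mem_sup_right (mem_zpowers lL)
    rwa [hQ] at this
  refine ⟨l, (h.inf_eq (hgood i) (hfacts i).2.2).2 ⟨hlS, hl, hll⟩, ?_⟩
  rw [← mul_assoc, hll, one_mul]
  exact hc

namespace Decomp

variable (D : Decomp S A)

theorem commute {i j : Fin D.n} (hij : i ≠ j) {x y : G} (hx : x ∈ D.L i) (hy : y ∈ D.L j) : Commute x y := by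
  haveI := D.normal i
  haveI := D.normal j
  haveI := D.simple i
  haveI := D.simple j
  refine commute_of_normal_of_disjoint _ _ (D.normal i) (D.normal j) ?_ x y hx hy
  rw [disjoint_iff]
  rcases IsSimpleGroup.eq_bot_or_eq_top_of_normal ((D.L j).subgroupOf (D.L i)) inferInstance with h | h
  · rwa [subgroupOf_eq_bot, disjoint_comm, disjoint_iff] at h
  · exfalso
    rw [subgroupOf_eq_top] at h
    rcases IsSimpleGroup.eq_bot_or_eq_top_of_normal ((D.L i).subgroupOf (D.L j)) inferInstance with h' | h'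
    · rw [subgroupOf_eq_bot, disjoint_iff, inf_eq_left.2 h] at h'
      exact (D.L i).nontrivial_iff_ne_bot.1 inferInstance h'
    · rw [subgroupOf_eq_top] at h'
      exact hij (D.inj (le_antisymm h h'))

theorem center_factor (i : Fin D.n) {x : G} (hx : x ∈ D.L i) (hc : x ∈ centralizer (D.L i : Set G)) : x = 1 := by
  haveI := D.normal i
  haveI := D.simple i
  rcases IsSimpleGroup.eq_bot_or_eq_top_of_normal (center (D.L i)) inferInstance with h | h
  · have : (⟨x, hx⟩ : D.L i) ∈ center (D.L i) := mem_center_iff.2 fun y => Subtype.ext (mem_centralizer_iff.1 hc y y.2)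
    rw [h, mem_bot] at this
    exact congrArg Subtype.val this
  · exact absurd ⟨⟨fun a b => (mem_center_iff.1 (h ▸ mem_top b) a)⟩⟩ (D.noncomm i)

theorem sup_centralizer (i : Fin D.n) : D.L i ⊔ centralizer (D.L i : Set G) = ⊤ := by
  rw [eq_top_iff, ← D.sup]
  refine iSup_le fun j => ?_
  by_cases hij : i = j
  · exact hij ▸ le_sup_left
  · exact le_sup_of_le_right fun x hx => mem_centralizer_iff.2 fun u hu => (D.commute hij hu hx).eq

include D in
theorem center_eq_bot : center G = ⊥ := by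
  rw [eq_bot_iff]
  intro x hx
  by_contra hx1
  rw [mem_bot] at hx1
  -- a central element is trivial in each factor, so commutes to nothing
  have key : ∀ s : Finset (Fin D.n), ∀ y ∈ ⨆ i ∈ s, D.L i, y ∈ center G → y = 1 := by
    classical
    intro s
    induction s using Finset.induction with
    | empty => intro y hy _; simpa using hy
    | @insert j s hj ih =>
      intro y hy hyc
      rw [Finset.iSup_insert] at hy
      haveI := D.normal j
      have hy' : y ∈ ((D.L j ⊔ ⨆ i ∈ s, D.L i : Subgroup G) : Set G) := hy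
      rw [normal_mul] at hy'
      obtain ⟨l, hl, r, hr, rfl⟩ := hy'
      have hrc : r ∈ centralizer (D.L j : Set G) :=
        (iSup₂_le fun i hi z hz => mem_centralizer_iff.2 fun u hu =>
          (D.commute (i := j) (j := i) (fun e => hj (e ▸ hi)) hu hz).eq : ⨆ i ∈ s, D.L i ≤ centralizer (D.L j : Set G)) hr
      have hl1 : l = 1 := D.center_factor j hl (by
        rw [show l = l * r * r⁻¹ by group]
        exact mul_mem (center_le_centralizer _ hyc) (inv_mem hrc))
      subst hl1
      simp only [one_mul] at hyc ⊢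
      exact ih r hr hyc
  exact hx1 (key Finset.univ x (by simp [D.sup]) hx)

/-- The group is the product of the factors. -/

theorem nonempty_equiv : Nonempty (((i : Fin D.n) → D.L i) ≃* G) := by
  classical
  have hc : Pairwise fun i j : Fin D.n => ∀ x y : G, x ∈ D.L i → y ∈ D.L j → Commute x y :=
    fun i j hij x y hx hy => D.commute hij hx hy
  refine ⟨MulEquiv.ofBijective (noncommPiCoprod hc) ⟨injective_noncommPiCoprod_of_iSupIndep ?_, ?_⟩⟩
  · intro i
    rw [disjoint_iff, eq_bot_iff]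
    rintro x ⟨hx, hx'⟩
    have hle : ⨆ (j) (_ : j ≠ i), D.L j ≤ centralizer (D.L i : Set G) :=
      iSup₂_le fun j hj z hz => mem_centralizer_iff.2 fun u hu => (D.commute (Ne.symm hj) hu hz).eq
    exact mem_bot.2 (D.center_factor i hx (hle hx'))
  · rw [← MonoidHom.range_eq_top, noncommPiCoprod_range, D.sup]

end Decomp

end CfsgLib.TwoFusion.StructGold
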